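import Groth.Agent.DRHyp.CartierTaylor
import Groth.Agent.S9407
import Groth.Agent.Synt29.DRGen
import Mathlib.RingTheory.Smooth.StandardSmoothOfFree
import Mathlib.RingTheory.Derivation.Lie

/-!
# The inverse Cartier isomorphism in degree one
-/

set_option autoImplicit false

universe u

open exteriorPower

namespace Groth.Agent.DRHyp.Cartier

variable (p : ℕ) [Fact p.Prime] {A B : Type u} [CommRing A] [CommRing B] [Algebra A B]

/-- Functions and differentials generate the one-forms additively. -/
theorem omega_induction {P : Ω[B⁄A] → Prop} (h0 : P 0) (hadd : ∀ x y, P x → P y → P (x + y))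
    (hgen : ∀ a b : B, P (a • KaehlerDifferential.D A B b)) (z : Ω[B⁄A]) : P z := by
  have key : ∀ z : Ω[B⁄A], ∀ a : B, P (a • z) := by
    intro z
    have hz : z ∈ Submodule.span B (Set.range (KaehlerDifferential.D A B)) := by
      rw [KaehlerDifferential.span_range_derivation]; trivial
    induction hz using Submodule.span_induction with
    | mem y hy =>
      obtain ⟨b, rfl⟩ := hy
      exact fun a => hgen a b
    | zero => intro a; rwa [smul_zero]
    | add x y _ _ hx hy => intro a; rw [smul_add]; exact hadd _ _ (hx a) (hy a)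
    | smul c x _ hx => intro a; rw [smul_smul]; exact hx _
  simpa using key z 1

section Tw

variable [CharP B p]

omit [Algebra A B] in
theorem exists_binom_identities (f g : B) :
    ∃ c : ℕ → ℕ,
      (∑ j ∈ Finset.range (p - 1), ((c j * (j + 1) : ℕ) : B) * f ^ j * g ^ (p - 1 - j) =
        (f + g) ^ (p - 1) - f ^ (p - 1)) ∧
      (∑ j ∈ Finset.range (p - 1), ((c j * (p - 1 - j) : ℕ) : B) * f ^ (j + 1) * g ^ (p - 1 - j - 1) =
        (f + g) ^ (p - 1) - g ^ (p - 1)) := by
  have hp := (Fact.out : p.Prime)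
  have hdiv : ∀ j ∈ Finset.range (p - 1), ∃ c, p.choose (j + 1) = p * c := fun j hj =>
    hp.dvd_choose_self (Nat.succ_ne_zero j) (by have := Finset.mem_range.1 hj; omega)
  choose! c hc using hdiv
  have h1 : ∀ j ∈ Finset.range (p - 1), c j * (j + 1) = (p - 1).choose j := fun j hj => by
    refine Nat.eq_of_mul_eq_mul_left hp.pos ?_
    have := Nat.add_one_mul_choose_eq (p - 1) j
    rw [Nat.sub_add_cancel hp.one_le, hc j hj] at this
    rw [← mul_assoc, ← this]
  have h2 : ∀ j ∈ Finset.range (p - 1), c j * (p - 1 - j) = (p - 1).choose (j + 1) := fun j hj => by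
    have hpas : p.choose (j + 1) = (p - 1).choose j + (p - 1).choose (j + 1) := by
      conv_lhs => rw [← Nat.sub_add_cancel hp.one_le]
      exact Nat.choose_succ_succ _ _
    have hsplit : c j * (p - 1 - j) + c j * (j + 1) = p * c j := by
      rw [← mul_add, mul_comm p]
      congr 1
      have := Finset.mem_range.1 hj
      omega
    rw [← hc j hj, hpas, h1 j hj] at hsplit
    omega
  refine ⟨c, ?_, ?_⟩
  · rw [add_pow, Finset.sum_range_succ, Nat.sub_self, pow_zero, mul_one, Nat.choose_self, Nat.cast_one,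
      mul_one, add_sub_cancel_right]
    refine Finset.sum_congr rfl fun j hj => ?_
    rw [h1 j hj]
    ring
  · rw [add_pow, Finset.sum_range_succ', Nat.choose_zero_right, Nat.cast_one, pow_zero, one_mul,
      Nat.sub_zero, mul_one, add_sub_cancel_right]
    refine Finset.sum_congr rfl fun j hj => ?_
    rw [h2 j hj, Nat.sub_sub]
    ring

variable (A B) in
/-- One-forms, functions acting through the Frobenius. -/
def TwOm (_p : ℕ) : Type u := Ω[B⁄A]

noncomputable instance : AddCommGroup (TwOm A B p) := inferInstanceAs (AddCommGroup Ω[B⁄A])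

noncomputable instance : Module B (TwOm A B p) :=
  Module.compHom (Ω[B⁄A]) (frobenius B p)

variable (A B) in
/-- The identity to the twisted module. -/
noncomputable def toTw : Ω[B⁄A] ≃+ TwOm A B p := AddEquiv.refl _

theorem smul_toTw (b : B) (z : Ω[B⁄A]) : b • toTw p A B z = toTw p A B (b ^ p • z) := rfl

theorem D_pow_mul (b h : B) :
    KaehlerDifferential.D A B (b ^ p * h) = b ^ p • KaehlerDifferential.D A B h := by
  rw [Derivation.leibniz, Derivation.leibniz_pow, ← Nat.cast_smul_eq_nsmul B, p_eq_zero, zero_smul,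
    smul_zero, add_zero]

variable (A B) in
/-- The exact forms. -/
noncomputable def exactTw : Submodule B (TwOm A B p) where
  carrier := {z | ∃ h, toTw p A B (KaehlerDifferential.D A B h) = z}
  add_mem' := fun {a b} ⟨h, ha⟩ ⟨k, hb⟩ => ⟨h + k, by rw [map_add, map_add, ha, hb]⟩
  zero_mem' := ⟨0, by rw [map_zero, map_zero]⟩
  smul_mem' b z := fun ⟨h, hh⟩ => ⟨b ^ p * h, by rw [D_pow_mul, ← hh, smul_toTw]⟩

variable (A B) in
/-- Forms modulo exact forms. -/
abbrev CI : Type u := TwOm A B p ⧸ exactTw p A B

noncomputable instance : Module A (CI p A B) := Module.compHom _ (algebraMap A B)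

instance : IsScalarTower A B (CI p A B) := IsScalarTower.of_algebraMap_smul fun _ _ => rfl

variable (A B) in
/-- The class of a form. -/
noncomputable def cl : Ω[B⁄A] →+ CI p A B :=
  (exactTw p A B).mkQ.toAddMonoidHom.comp (toTw p A B).toAddMonoidHom

theorem smul_cl (b : B) (z : Ω[B⁄A]) : b • cl p A B z = cl p A B (b ^ p • z) := rfl

theorem cl_eq_zero_iff (z : Ω[B⁄A]) :
    cl p A B z = 0 ↔ ∃ h, KaehlerDifferential.D A B h = z :=
  (Submodule.Quotient.mk_eq_zero _).trans ⟨fun ⟨h, hh⟩ => ⟨h, hh⟩, fun ⟨h, hh⟩ => ⟨h, congrArg _ hh⟩⟩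

theorem cl_surjective : Function.Surjective (cl p A B) :=
  (exactTw p A B).mkQ_surjective.comp (toTw p A B).surjective

variable (A B) in
/-- The derivation `f ↦ f^(p-1) df`. -/
noncomputable def cartDer : Derivation A B (CI p A B) :=
  Derivation.mk'
    { toFun := fun f => cl p A B (f ^ (p - 1) • KaehlerDifferential.D A B f)
      map_add' := fun f g => by
        obtain ⟨c, hc1, hc2⟩ := exists_binom_identities (p := p) f g
        rw [← map_add, ← sub_eq_zero, ← map_sub, cl_eq_zero_iff]
        refine ⟨∑ j ∈ Finset.range (p - 1), (c j : B) * f ^ (j + 1) * g ^ (p - 1 - j), ?_⟩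
        have e : ∀ j, KaehlerDifferential.D A B ((c j : B) * f ^ (j + 1) * g ^ (p - 1 - j)) =
            (((c j * (j + 1) : ℕ) : B) * f ^ j * g ^ (p - 1 - j)) • KaehlerDifferential.D A B f +
              (((c j * (p - 1 - j) : ℕ) : B) * f ^ (j + 1) * g ^ (p - 1 - j - 1)) •
                KaehlerDifferential.D A B g := fun j => by
          simp only [Derivation.leibniz, Derivation.leibniz_pow, Derivation.map_natCast, smul_zero,
            add_zero, Nat.add_sub_cancel, ← Nat.cast_smul_eq_nsmul B, smul_smul, smul_add]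
          push_cast
          rw [add_comm]
          congr 2 <;> ring
        rw [map_sum, Finset.sum_congr rfl fun j _ => e j, Finset.sum_add_distrib, ← Finset.sum_smul,
          ← Finset.sum_smul, hc1, hc2, map_add, sub_smul, sub_smul, smul_add]
        abel
      map_smul' := fun a f => by
        rw [RingHom.id_apply, ← IsScalarTower.algebraMap_smul B a
          (cl p A B (f ^ (p - 1) • KaehlerDifferential.D A B f)), smul_cl, Derivation.map_smul,
          ← IsScalarTower.algebraMap_smul B a (KaehlerDifferential.D A B f), smul_smul, smul_smul,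
          Algebra.smul_def]
        refine congrArg _ (congrArg (· • _) ?_)
        obtain ⟨q, hq⟩ : ∃ q, p = q + 1 := ⟨p - 1, (Nat.sub_add_cancel (Fact.out : p.Prime).one_le).symm⟩
        subst hq
        rw [Nat.add_sub_cancel]
        ring }
    fun f g => by
      obtain ⟨q, hq⟩ : ∃ q, p = q + 1 := ⟨p - 1, (Nat.sub_add_cancel (Fact.out : p.Prime).one_le).symm⟩
      subst hq
      show cl (q + 1) A B ((f * g) ^ (q + 1 - 1) • KaehlerDifferential.D A B (f * g)) =
        f • cl (q + 1) A B (g ^ (q + 1 - 1) • KaehlerDifferential.D A B g) +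
          g • cl (q + 1) A B (f ^ (q + 1 - 1) • KaehlerDifferential.D A B f)
      rw [smul_cl, smul_cl, ← map_add, Derivation.leibniz, smul_add, smul_smul, smul_smul, smul_smul,
        smul_smul, Nat.add_sub_cancel]
      refine congrArg _ (congrArg₂ (· + ·) (congrArg (· • _) ?_) (congrArg (· • _) ?_)) <;> ring

variable (A B) in
/-- The inverse Cartier operator. -/
noncomputable def cinv : Ω[B⁄A] →ₗ[B] CI p A B := (cartDer p A B).liftKaehlerDifferential

theorem cinv_D (f : B) : cinv p A B (KaehlerDifferential.D A B f) =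
    cl p A B (f ^ (p - 1) • KaehlerDifferential.D A B f) :=
  (cartDer p A B).liftKaehlerDifferential_comp_D f

theorem cinv_smul_D (a f : B) : cinv p A B (a • KaehlerDifferential.D A B f) =
    cl p A B ((a ^ p * f ^ (p - 1)) • KaehlerDifferential.D A B f) := by
  rw [map_smul, cinv_D, smul_cl, smul_smul]

section Functorial

variable (B' : Type u) [CommRing B'] [Algebra A B'] [Algebra B B'] [IsScalarTower A B B'] [CharP B' p]

theorem cinv_map (z : Ω[B⁄A]) :
    ∃ w, cl p A B w = cinv p A B z ∧
      cl p A B' (KaehlerDifferential.map A A B B' w) =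
        cinv p A B' (KaehlerDifferential.map A A B B' z) := by
  induction z using omega_induction with
  | h0 => exact ⟨0, by simp, by simp⟩
  | hadd x y hx hy =>
    obtain ⟨u, hu, hu'⟩ := hx
    obtain ⟨v, hv, hv'⟩ := hy
    exact ⟨u + v, by rw [map_add, map_add, hu, hv], by simp only [map_add, hu', hv']⟩
  | hgen a f =>
    refine ⟨(a ^ p * f ^ (p - 1)) • KaehlerDifferential.D A B f, (cinv_smul_D p a f).symm, ?_⟩
    rw [LinearMap.map_smul (KaehlerDifferential.map A A B B'),
      LinearMap.map_smul (KaehlerDifferential.map A A B B'), KaehlerDifferential.map_D,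
      ← algebraMap_smul B' (a ^ p * f ^ (p - 1)), ← algebraMap_smul B' a, cinv_smul_D, map_mul, map_pow,
      map_pow]

theorem cl_map_congr {w w' : Ω[B⁄A]} (h : cl p A B w = cl p A B w') :
    cl p A B' (KaehlerDifferential.map A A B B' w) = cl p A B' (KaehlerDifferential.map A A B B' w') := by
  rw [← sub_eq_zero, ← map_sub, cl_eq_zero_iff] at h ⊢
  obtain ⟨k, hk⟩ := h
  exact ⟨algebraMap B B' k, by rw [← map_sub, ← hk, KaehlerDifferential.map_D]⟩

end Functorial

end Tw

section Closed

variable (d : ∀ q : ℕ, ↥(⋀[B]^q (Ω[B⁄A])) →ₗ[A] ↥(⋀[B]^(q + 1) (Ω[B⁄A])))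

/-- The differential of one-forms. -/
noncomputable def dOne : Ω[B⁄A] →+ ↥(⋀[B]^2 (Ω[B⁄A])) :=
  (d 1).toAddMonoidHom.comp (oneEquiv B (Ω[B⁄A])).symm.toAddEquiv.toAddMonoidHom

omit [Fact p.Prime] in
theorem oneEquiv_symm_apply (m : Ω[B⁄A]) :
    (oneEquiv B (Ω[B⁄A])).symm m = ιMulti B 1 fun _ => m :=
  (oneEquiv B (Ω[B⁄A])).injective (by rw [LinearEquiv.apply_symm_apply, oneEquiv_ιMulti])

variable {d} (hd : DeRham.IsRule (KaehlerDifferential.D A B) d)

include hd in
omit [Fact p.Prime] in
theorem dOne_gen (a b : B) : dOne d (a • KaehlerDifferential.D A B b) =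
    ιMulti B 2 ![KaehlerDifferential.D A B a, KaehlerDifferential.D A B b] := by
  show d 1 ((oneEquiv B (Ω[B⁄A])).symm (a • KaehlerDifferential.D A B b)) = _
  rw [map_smul, oneEquiv_symm_apply]
  refine (hd 1 a fun _ => b).trans (congrArg _ (funext fun i => ?_))
  fin_cases i <;> rfl

omit [Fact p.Prime] in
theorem ιMulti_smul_left (c : B) (u v : Ω[B⁄A]) :
    ιMulti B 2 ![c • u, v] = c • ιMulti B 2 ![u, v] := by
  have h1 : ∀ w : Ω[B⁄A], Function.update ![u, v] 0 w = ![w, v] := fun w =>
    funext fun i => by fin_cases i <;> rfl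
  simpa only [h1] using (ιMulti B 2 (M := Ω[B⁄A])).map_update_smul ![u, v] 0 c u

include hd in
theorem dOne_pow_smul [CharP B p] (f : B) (z : Ω[B⁄A]) : dOne d (f ^ p • z) = f ^ p • dOne d z := by
  induction z using omega_induction with
  | h0 => simp
  | hadd x y hx hy => simp only [smul_add, map_add, hx, hy]
  | hgen a b =>
    rw [smul_smul, dOne_gen hd, dOne_gen hd, D_pow_mul, ιMulti_smul_left]

include hd in
theorem dOne_cartier [CharP B p] (a f : B) :
    dOne d ((a ^ p * f ^ (p - 1)) • KaehlerDifferential.D A B f) = 0 := by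
  rw [mul_smul, dOne_pow_smul p hd, dOne_gen hd, Derivation.leibniz_pow,
    ← Nat.cast_smul_eq_nsmul B, smul_smul, ιMulti_smul_left,
    (ιMulti B 2 (M := Ω[B⁄A])).map_eq_zero_of_eq
      ![KaehlerDifferential.D A B f, KaehlerDifferential.D A B f] (i := 0) (j := 1) rfl (by decide),
    smul_zero, smul_zero]

include hd in
theorem exists_closed_cinv [CharP B p] (z : Ω[B⁄A]) :
    ∃ w, dOne d w = 0 ∧ cl p A B w = cinv p A B z := by
  induction z using omega_induction with
  | h0 => exact ⟨0, map_zero _, by simp⟩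
  | hadd x y hx hy =>
    obtain ⟨u, hu, hu'⟩ := hx
    obtain ⟨v, hv, hv'⟩ := hy
    exact ⟨u + v, by rw [map_add, hu, hv, add_zero], by rw [map_add, map_add, hu', hv']⟩
  | hgen a f => exact ⟨_, dOne_cartier p hd a f, (cinv_smul_D p a f).symm⟩

variable (B' : Type u) [CommRing B'] [Algebra A B'] [Algebra B B'] [IsScalarTower A B B']

/-- The map on two-forms. -/
noncomputable def mapTwo : ↥(⋀[B]^2 (Ω[B⁄A])) →ₗ[B] ↥(⋀[B']^2 (Ω[B'⁄A])) :=
  alternatingMapLinearEquiv
    (({ (ιMulti B' 2 (M := Ω[B'⁄A])).toMultilinearMap.restrictScalars B with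
        map_eq_zero_of_eq' := (ιMulti B' 2 (M := Ω[B'⁄A])).map_eq_zero_of_eq' } :
      Ω[B'⁄A] [⋀^Fin 2]→ₗ[B] ↥(⋀[B']^2 (Ω[B'⁄A]))).compLinearMap (KaehlerDifferential.map A A B B'))

end Closed

section Local

variable [CharP B p] {κ : Type*} [Fintype κ] [DecidableEq κ] (b : Module.Basis κ B Ω[B⁄A]) (x : κ → B)
  (hb : ∀ k, b k = KaehlerDifferential.D A B (x k))

/-- The dual derivations. -/
noncomputable def dualDer (i : κ) : Derivation A B B :=
  (b.coord i).compDer (KaehlerDifferential.D A B)

omit [Fact p.Prime] [CharP B p] [Fintype κ] [DecidableEq κ] in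
theorem dualDer_apply (i : κ) (f : B) : dualDer b i f = b.repr (KaehlerDifferential.D A B f) i := rfl

include hb in
omit [Fact p.Prime] [CharP B p] [Fintype κ] in
theorem dualDer_x (i j : κ) : dualDer b i (x j) = if j = i then 1 else 0 := by
  rw [dualDer_apply, ← hb, Module.Basis.repr_self, Finsupp.single_apply]

include hb in
omit [Fact p.Prime] [CharP B p] [Fintype κ] in
theorem dualDer_comm (i j : κ) (f : B) :
    dualDer b i (dualDer b j f) = dualDer b j (dualDer b i f) := by
  let E : Derivation A B B := ⁅dualDer b i, dualDer b j⁆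
  have hE : E.liftKaehlerDifferential = 0 := b.ext fun k => by
    rw [hb, Derivation.liftKaehlerDifferential_comp_D, LinearMap.zero_apply,
      Derivation.commutator_apply, dualDer_x b x hb, dualDer_x b x hb]
    split_ifs <;> simp
  have := Derivation.liftKaehlerDifferential_comp_D E f
  rw [hE, LinearMap.zero_apply, Derivation.commutator_apply, eq_comm, sub_eq_zero] at this
  exact this

include hb in
omit [Fact p.Prime] [CharP B p] [Fintype κ] in
/-- The coefficients of the image of a closed form are symmetric. -/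
theorem dualDer_closed {B₀ : Type u} [CommRing B₀] [Algebra A B₀] [Algebra B₀ B] [IsScalarTower A B₀ B]
    {d : ∀ q : ℕ, ↥(⋀[B₀]^q (Ω[B₀⁄A])) →ₗ[A] ↥(⋀[B₀]^(q + 1) (Ω[B₀⁄A]))}
    (hd : DeRham.IsRule (KaehlerDifferential.D A B₀) d) {z : Ω[B₀⁄A]} (hz : dOne d z = 0) (i j : κ) :
    dualDer b i (b.repr (KaehlerDifferential.map A A B₀ B z) j) =
      dualDer b j (b.repr (KaehlerDifferential.map A A B₀ B z) i) := by
  let φ : ↥(⋀[B]^2 (Ω[B⁄A])) →ₗ[B] B := alternatingMapLinearEquiv
    ((Matrix.detRowAlternating (n := Fin 2) (R := B)).compLinearMap (LinearMap.pi ![b.coord i, b.coord j]))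
  have key : ∀ z, φ (mapTwo B (dOne d z)) =
      dualDer b i (b.repr (KaehlerDifferential.map A A B₀ B z) j) -
        dualDer b j (b.repr (KaehlerDifferential.map A A B₀ B z) i) := fun z => by
    induction z using omega_induction with
    | h0 => simp
    | hadd x y hx hy => simp only [map_add, hx, hy, Finsupp.add_apply]; ring
    | hgen a f =>
      rw [dOne_gen hd]
      simp only [φ, mapTwo, alternatingMapLinearEquiv_apply_ιMulti, AlternatingMap.compLinearMap_apply]
      show φ (ιMulti B 2 fun r => KaehlerDifferential.map A A B₀ B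
        (![KaehlerDifferential.D A B₀ a, KaehlerDifferential.D A B₀ f] r)) = _
      simp only [φ, alternatingMapLinearEquiv_apply_ιMulti, AlternatingMap.compLinearMap_apply]
      show Matrix.det (Matrix.of fun r c : Fin 2 => (![b.coord i, b.coord j] c)
        (KaehlerDifferential.map A A B₀ B
          (![KaehlerDifferential.D A B₀ a, KaehlerDifferential.D A B₀ f] r))) = _
      rw [Matrix.det_fin_two]
      simp only [Matrix.of_apply, Matrix.cons_val_zero, Matrix.cons_val_one, map_smul,
        KaehlerDifferential.map_D, Module.Basis.coord_apply]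
      rw [← algebraMap_smul B a, map_smul]
      simp only [Finsupp.smul_apply, smul_eq_mul, ← dualDer_apply]
      simp only [Derivation.leibniz, dualDer_comm b x hb i j, smul_eq_mul]
      ring
  have := key z
  rw [hz, map_zero, map_zero, eq_comm, sub_eq_zero] at this
  exact this

variable [CharP A p] [PerfectRing A p] [Algebra.FiniteType A B] [IsReduced B]

include hb in
omit [CharP A p] [PerfectRing A p] [Algebra.FiniteType A B] [IsReduced B] [DecidableEq κ] in
theorem cinv_sum (g : κ → B) :
    cinv p A B (∑ k, g k • b k) = cl p A B (∑ k, (g k ^ p * x k ^ (p - 1)) • b k) := by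
  simp only [map_sum, hb, cinv_smul_D]

include hb in
/-- The local inverse Cartier isomorphism. -/
theorem cartier_local :
    Function.Injective (cinv p A B) ∧
      ∀ z, (∀ i j, dualDer b i (b.repr z j) = dualDer b j (b.repr z i)) →
        ∃ η, cinv p A B η = cl p A B z := by
  have hD : ∀ i, dualDer b i (x i) = 1 := fun i => by rw [dualDer_x b x hb, if_pos rfl]
  have hD' : ∀ i j, i ≠ j → dualDer b i (x j) = 0 := fun i j h => by
    rw [dualDer_x b x hb, if_neg h.symm]
  have hgen : gens p x Set.univ = ⊤ := gens_eq_top (A := A) x (by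
    rw [← b.span_eq]
    congr 2
    funext k
    exact (hb k).symm)
  have hrepr : ∀ (c : κ → B) k, b.repr (∑ i, c i • b i) k = c k := fun c k => by
    simp [Finsupp.single_apply]
  refine ⟨(injective_iff_map_eq_zero _).2 fun z hz => ?_, fun z hz => ?_⟩
  · rw [← b.sum_repr z, cinv_sum p b x hb, cl_eq_zero_iff] at hz
    obtain ⟨h, hh⟩ := hz
    refine b.repr.injective (Finsupp.ext fun i => ?_)
    rw [map_zero, Finsupp.zero_apply]
    refine eq_zero_of_exact (D := dualDer b) hD hgen hD' (g := fun k => b.repr z k) (h := h) (fun k => ?_) i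
    rw [dualDer_apply, hh, hrepr]
  · obtain ⟨g, h, hgh⟩ := exists_of_closed hD hD' hgen (dualDer_comm b x hb)
      (f := fun k => b.repr z k) fun i j => hz i j
    refine ⟨∑ k, g k • b k, ?_⟩
    rw [cinv_sum p b x hb, ← sub_eq_zero, ← map_sub, cl_eq_zero_iff]
    refine ⟨-h, b.repr.injective (Finsupp.ext fun k => ?_)⟩
    rw [map_neg, map_neg, map_sub, Finsupp.neg_apply, Finsupp.sub_apply, hrepr, ← dualDer_apply, hgh k]
    ring

end Local

theorem isReduced_base (p : ℕ) [Fact p.Prime] (A : Type u) [CommRing A] [CharP A p] [PerfectRing A p] :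
    IsReduced A :=
  (isReduced_iff_pow_one_lt p (Fact.out : p.Prime).one_lt).2 fun a ha =>
    (PerfectRing.bijective_frobenius (R := A) (p := p)).1
      (ha.trans (zero_pow (Fact.out : p.Prime).ne_zero).symm)

theorem charP_of_nontrivial (p : ℕ) [Fact p.Prime] {A : Type u} [CommRing A] [CharP A p]
    (C : Type u) [CommRing C] [Algebra A C] [Nontrivial C] : CharP C p :=
  (CharP.charP_iff_prime_eq_zero (Fact.out : p.Prime)).2 (by
    rw [← map_natCast (algebraMap A C) p, p_eq_zero (B := A), map_zero])

theorem one_mem_of_pow_mem {B : Type u} [CommRing B] {s : Set B} (hs : Ideal.span s = ⊤) {J : Ideal B}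
    (hJ : ∀ g ∈ s, ∃ N, g ^ N ∈ J) : (1 : B) ∈ J := by
  by_contra h1
  obtain ⟨M, hM, hJM⟩ := Ideal.exists_le_maximal J fun e => h1 (e ▸ Submodule.mem_top)
  refine hM.ne_top (top_unique (hs ▸ Ideal.span_le.2 fun g hg => ?_))
  obtain ⟨N, hN⟩ := hJ g hg
  exact hM.isPrime.mem_of_pow_mem N (hJM hN)

section Global

variable [CharP A p] [PerfectRing A p] [Algebra.Smooth A B]
  {d : ∀ q : ℕ, ↥(⋀[B]^q (Ω[B⁄A])) →ₗ[A] ↥(⋀[B]^(q + 1) (Ω[B⁄A]))}
  (hd : DeRham.IsRule (KaehlerDifferential.D A B) d)

variable [CharP B p]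

omit [CharP A p] [PerfectRing A p] [Algebra.Smooth A B] in
theorem exists_pow_smul_cl_eq_zero (g : B) (B' : Type u) [CommRing B'] [Algebra A B'] [Algebra B B']
    [IsScalarTower A B B'] [IsLocalization.Away g B'] {w : Ω[B⁄A]}
    (hw : ∃ h, KaehlerDifferential.D A B' h = KaehlerDifferential.map A A B B' w) :
    ∃ K, g ^ K • cl p A B w = 0 := by
  obtain ⟨h, hh⟩ := hw
  obtain ⟨k, h₀, hk⟩ := IsLocalization.Away.surj g h
  have e : KaehlerDifferential.map A A B B' ((g ^ k) ^ p • w) =
      KaehlerDifferential.map A A B B' (KaehlerDifferential.D A B ((g ^ k) ^ (p - 1) * h₀)) := by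
    rw [map_smul, ← hh, KaehlerDifferential.map_D, map_mul, ← hk, map_pow, map_pow, ← mul_assoc,
      mul_comm _ h, mul_assoc, ← map_pow, ← map_pow, ← map_mul, ← algebraMap_smul B',
      ← pow_succ, Nat.sub_add_cancel (Fact.out : p.Prime).one_le, mul_comm h, map_pow, map_pow,
      Derivation.leibniz, Derivation.leibniz_pow, ← Nat.cast_smul_eq_nsmul B',
      show ((p : ℕ) : B') = 0 by rw [← map_natCast (algebraMap B B') p, p_eq_zero, map_zero],
      zero_smul, smul_zero, add_zero]
  obtain ⟨⟨_, N, rfl⟩, hN⟩ := IsLocalizedModule.exists_of_eq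
    (S := Submonoid.powers g) (f := KaehlerDifferential.map A A B B') e
  refine ⟨N + k, ?_⟩
  rw [smul_cl, cl_eq_zero_iff]
  refine ⟨(g ^ N) ^ p * ((g ^ k) ^ (p - 1) * h₀), ?_⟩
  have hN' : g ^ N • ((g ^ k) ^ p • w) =
      g ^ N • KaehlerDifferential.D A B ((g ^ k) ^ (p - 1) * h₀) := hN
  rw [D_pow_mul, pow_add, mul_pow, mul_smul]
  obtain ⟨q, hq⟩ : ∃ q, p = q + 1 := ⟨p - 1, (Nat.sub_add_cancel (Fact.out : p.Prime).one_le).symm⟩
  have := congrArg ((g ^ N) ^ q • ·) hN'
  simp only [smul_smul, ← mul_assoc, ← pow_succ, ← hq] at this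
  rw [smul_smul]
  exact this.symm

include hd in
/-- The inverse Cartier operator is an isomorphism onto closed forms modulo exact forms. -/
theorem cartier_global :
    Function.Injective (cinv p A B) ∧
      ∀ z, dOne d z = 0 → ∃ η, cinv p A B η = cl p A B z := by
  classical
  obtain ⟨s, hs, hstd⟩ := Algebra.Smooth.exists_span_eq_top_isStandardSmooth (R := A) (S := B)
  have : IsReduced A := isReduced_base p A
  have hloc : ∀ g : s, Subsingleton (Localization.Away (g : B)) ∨
      ∃ _ : CharP (Localization.Away (g : B)) p,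
          Function.Injective (cinv p A (Localization.Away (g : B))) ∧
            ∀ z, dOne d z = 0 → ∃ η, cinv p A (Localization.Away (g : B)) η =
              cl p A (Localization.Away (g : B))
                (KaehlerDifferential.map A A B (Localization.Away (g : B)) z) := by
    intro g
    rcases subsingleton_or_nontrivial (Localization.Away (g : B)) with h | h
    · exact Or.inl h
    have hc : CharP (Localization.Away (g : B)) p := charP_of_nontrivial (A := A) p _
    have := hstd g g.2
    have : Algebra.Smooth A (Localization.Away (g : B)) := inferInstance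
    have : IsReduced (Localization.Away (g : B)) := S9407.result A (Localization.Away (g : B))
    obtain ⟨ι, σ, _, _, ⟨P⟩⟩ := ‹Algebra.IsStandardSmooth A (Localization.Away (g : B))›.out
    have : Fintype ((Set.range P.map)ᶜ : Set ι) := Fintype.ofFinite _
    have hb : ∀ k, P.basisKaehler k =
        KaehlerDifferential.D A (Localization.Away (g : B)) (P.val k) := fun k =>
      Algebra.SubmersivePresentation.basisKaehler_apply P k
    have hl := cartier_local p P.basisKaehler (fun k => P.val k) hb
    exact Or.inr ⟨hc, hl.1, fun z hz => hl.2 _ (dualDer_closed _ _ hb hd hz)⟩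
  refine ⟨(injective_iff_map_eq_zero _).2 fun z hz => ?_, fun z hz => ?_⟩
  · have h1 := one_mem_of_pow_mem hs (J := LinearMap.ker (LinearMap.toSpanSingleton B (Ω[B⁄A]) z))
      fun g hg => ?_
    · simpa using h1
    obtain ⟨N, hN⟩ : ∃ N, g ^ N • z = 0 := by
      rcases hloc ⟨g, hg⟩ with h | ⟨hc, hinj, -⟩
      · have : Subsingleton Ω[Localization.Away g⁄A] := Module.subsingleton (Localization.Away g) _
        obtain ⟨⟨_, N, rfl⟩, hN⟩ := IsLocalizedModule.exists_of_eq (S := Submonoid.powers g)
          (f := KaehlerDifferential.map A A B (Localization.Away g)) (x₁ := z) (x₂ := 0)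
            (Subsingleton.elim _ _)
        exact ⟨N, hN.trans (smul_zero _)⟩
      · obtain ⟨w, hw, hw'⟩ := cinv_map p (Localization.Away g) z
        have h0 : cinv p A _ (KaehlerDifferential.map A A B (Localization.Away g) z) = 0 := by
          rw [← hw', cl_map_congr p _ (w' := 0) (by rw [hw, hz, map_zero]), map_zero, map_zero]
        obtain ⟨⟨_, N, rfl⟩, hN⟩ := IsLocalizedModule.exists_of_eq (S := Submonoid.powers g)
          (f := KaehlerDifferential.map A A B (Localization.Away g)) (x₁ := z) (x₂ := 0)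
            ((hinj (h0.trans (map_zero _).symm)).trans (map_zero _).symm)
        exact ⟨N, hN.trans (smul_zero _)⟩
    exact ⟨N, by simpa using hN⟩
  · let J : Ideal B :=
      Submodule.comap (LinearMap.toSpanSingleton B (CI p A B) (cl p A B z)) (LinearMap.range (cinv p A B))
    have h1 := one_mem_of_pow_mem hs (J := J) fun g hg => ?_
    · simpa [J] using h1
    obtain ⟨N, hN⟩ : ∃ N, g ^ N • cl p A B z ∈ LinearMap.range (cinv p A B) := by
      rcases hloc ⟨g, hg⟩ with h | ⟨hc, -, hsurj⟩
      · have : Subsingleton Ω[Localization.Away g⁄A] := Module.subsingleton (Localization.Away g) _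
        obtain ⟨K, hK⟩ := exists_pow_smul_cl_eq_zero p g (Localization.Away g)
          (w := z) ⟨0, Subsingleton.elim _ _⟩
        exact ⟨K, by rw [hK]; exact zero_mem _⟩
      · obtain ⟨η', hη'⟩ := hsurj z hz
        obtain ⟨⟨η, ⟨_, m, rfl⟩⟩, hm⟩ := IsLocalizedModule.surj (Submonoid.powers g)
          (KaehlerDifferential.map A A B (Localization.Away g)) η'
        obtain ⟨w, hw, hw'⟩ := cinv_map p (Localization.Away g) η
        have hm' : g ^ m • η' = KaehlerDifferential.map A A B (Localization.Away g) η := hm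
        have h0 : cl p A (Localization.Away g) (KaehlerDifferential.map A A B
            (Localization.Away g) ((g ^ m) ^ p • z - w)) = 0 := by
          rw [map_sub, map_sub, hw', ← hm', LinearMap.map_smul,
            ← algebraMap_smul (Localization.Away g) ((g ^ m) ^ p),
            ← algebraMap_smul (Localization.Away g) (g ^ m), map_pow (algebraMap B (Localization.Away g)) (g ^ m) p,
            ← smul_cl, LinearMap.map_smul, hη', sub_self]
        obtain ⟨K, hK⟩ := exists_pow_smul_cl_eq_zero p g (Localization.Away g)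
          ((cl_eq_zero_iff p _).1 h0)
        refine ⟨K + m, ?_⟩
        rw [map_sub, smul_sub, sub_eq_zero, ← smul_cl, ← mul_smul, ← pow_add, hw, ← LinearMap.map_smul] at hK
        exact ⟨_, hK.symm⟩
    exact ⟨N, by simpa [J] using hN⟩

end Global

end Groth.Agent.DRHyp.Cartier
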