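import Groth.Agent.DRHyp.Cls
import Groth.Prelude.Def_E1Deg2
import Groth.Agent.KFlatLib.BrutalTrunc
import Mathlib.RingTheory.Noetherian.Basic

/-!
# Dévissage of hypercohomology along the stupid filtration

Vanishing and finiteness of `Hom_D(T, K⟦n⟧)` from vanishing and finiteness of `Ext^q(T, K^i)`,
`i + q = n`.
-/

set_option autoImplicit false

universe w' w v u u'

open CategoryTheory CategoryTheory.Limits Pretriangulated Abelian

namespace Groth.Agent.DRHyp

variable {A : Type u} [Category.{v} A] [Abelian A] [HasDerivedCategory.{w} A]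

/-- Hypercohomology vanishes below the degrees of the complex. -/
lemma subsingleton_HT_of_lt (T : A) (K : CochainComplex A ℤ) (a n : ℤ) [K.IsStrictlyGE a]
    (h : n < a) : Subsingleton (E1Deg.HT T K n) := by
  have : ((DerivedCategory.Q.obj K)⟦n⟧).IsGE (a - n) :=
    DerivedCategory.TStructure.t.isGE_shift (DerivedCategory.Q.obj K) a n (a - n) (by omega)
  exact ⟨fun x y => (DerivedCategory.TStructure.t.zero x 0 (a - n) (by omega)).trans
    (DerivedCategory.TStructure.t.zero y 0 (a - n) (by omega)).symm⟩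

/-- Exactness in the middle for a short exact sequence of complexes. -/
lemma exists_HTmap_eq {S : ShortComplex (CochainComplex A ℤ)} (hS : S.ShortExact) (T : A) (n : ℤ)
    (x : E1Deg.HT T S.X₂ n) (hx : E1Deg.HTmap T S.g n x = 0) :
    ∃ y, E1Deg.HTmap T S.f n y = x := by
  let Δ := DerivedCategory.triangleOfSES hS
  have hΔ := DerivedCategory.triangleOfSES_distinguished hS
  obtain ⟨y, hy⟩ := Triangle.coyoneda_exact₂ _ (Triangle.shift_distinguished Δ hΔ n) x (by
    show x ≫ (n.negOnePow • (DerivedCategory.Q.map S.g)⟦n⟧') = 0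
    rw [Linear.comp_units_smul]
    rw [show x ≫ (DerivedCategory.Q.map S.g)⟦n⟧' = 0 from hx]
    exact smul_zero _)
  replace hy : x = y ≫ (n.negOnePow • (DerivedCategory.Q.map S.f)⟦n⟧') := hy
  refine ⟨n.negOnePow • (y : _ ⟶ (DerivedCategory.Q.obj S.X₁)⟦n⟧), ?_⟩
  rw [hy]
  exact (Linear.units_smul_comp _ _ _).trans (Linear.comp_units_smul _ _ _).symm

lemma HTmap_isIso_bijective (T : A) {K L : CochainComplex A ℤ} (φ : K ⟶ L) [IsIso φ] (n : ℤ) :
    Function.Bijective (E1Deg.HTmap T φ n) :=
  Function.bijective_iff_has_inverse.2 ⟨E1Deg.HTmap T (inv φ) n,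
    fun x => by rw [← E1Deg.HTmap_comp, IsIso.hom_inv_id, E1Deg.HTmap_id],
    fun x => by rw [← E1Deg.HTmap_comp, IsIso.inv_hom_id, E1Deg.HTmap_id]⟩

section Single

variable (K : CochainComplex A ℤ) (a : ℤ) [K.IsStrictlyGE a]

/-- A complex vanishing below `a` maps to its term in degree `a`. -/
noncomputable def toSingle : K ⟶ (HomologicalComplex.single A (ComplexShape.up ℤ) a).obj (K.X a) :=
  HomologicalComplex.mkHomToSingle (𝟙 _) (fun i (hi : i + 1 = a) =>
    (K.isZero_of_isStrictlyGE a i (by omega)).eq_of_src _ _)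

lemma toSingle_natural {L : CochainComplex A ℤ} [L.IsStrictlyGE a] (φ : K ⟶ L) :
    φ ≫ toSingle L a = toSingle K a ≫ (HomologicalComplex.single A _ a).map (φ.f a) :=
  HomologicalComplex.to_single_hom_ext (by
    unfold toSingle
    rw [HomologicalComplex.comp_f, HomologicalComplex.comp_f]
    erw [HomologicalComplex.mkHomToSingle_f, HomologicalComplex.mkHomToSingle_f]
    simp [HomologicalComplex.single_map_f_self])

lemma isIso_toSingle [K.IsStrictlyLE a] : IsIso (toSingle K a) := by
  have : ∀ i, IsIso ((toSingle K a).f i) := fun i => by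
    by_cases hi : i = a
    · subst hi
      unfold toSingle
      erw [HomologicalComplex.mkHomToSingle_f]
      infer_instance
    · have h1 : IsZero (K.X i) := by
        rcases lt_or_gt_of_ne hi with h | h
        · exact K.isZero_of_isStrictlyGE a i h
        · exact K.isZero_of_isStrictlyLE a i h
      have h2 := HomologicalComplex.isZero_single_obj_X (ComplexShape.up ℤ) a (K.X a) i hi
      exact ⟨0, h1.eq_of_src _ _, h2.eq_of_src _ _⟩
  exact HomologicalComplex.Hom.isIso_of_components _

end Single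

variable [HasExt.{w'} A]

lemma HTsingleEquiv_natural (T : A) {X Y : A} (φ : X ⟶ Y) (i n : ℤ) (q : ℕ) (h : i + q = n)
    (x : E1Deg.HT T ((HomologicalComplex.single A (ComplexShape.up ℤ) i).obj X) n) :
    E1Deg.HTsingleEquiv T Y i n q h
        (E1Deg.HTmap T ((HomologicalComplex.single A _ i).map φ) n x) =
      (E1Deg.HTsingleEquiv.{w', w} T X i n q h x).comp (Ext.mk₀ φ) (add_zero q) := by
  have nat : (shiftFunctor (DerivedCategory A) n).map
        (DerivedCategory.Q.map ((HomologicalComplex.single A (ComplexShape.up ℤ) i).map φ)) ≫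
        (E1Deg.targetIso Y i n q h).hom =
      (E1Deg.targetIso X i n q h).hom ≫
        (shiftFunctor (DerivedCategory A) (q : ℤ)).map ((DerivedCategory.singleFunctor A 0).map φ) := by
    have h1 := (DerivedCategory.singleFunctorIsoCompQ A i).inv.naturality φ
    have h2 := (((DerivedCategory.singleFunctors A).shiftIso (-i) i 0 (by omega)).inv).naturality φ
    have h3 := (shiftFunctorAdd' (DerivedCategory A) (-i) n (q : ℤ) (by omega)).inv.naturality
      ((DerivedCategory.singleFunctor A 0).map φ)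
    dsimp at h1 h2 h3
    have h4 : DerivedCategory.Q.map ((HomologicalComplex.single A (ComplexShape.up ℤ) i).map φ) ≫
          ((DerivedCategory.singleFunctorIsoCompQ A i).inv.app Y ≫
            (((DerivedCategory.singleFunctors A).shiftIso (-i) i 0 (by omega)).inv).app Y) =
        ((DerivedCategory.singleFunctorIsoCompQ A i).inv.app X ≫
            (((DerivedCategory.singleFunctors A).shiftIso (-i) i 0 (by omega)).inv).app X) ≫
          (shiftFunctor (DerivedCategory A) (-i)).map ((DerivedCategory.singleFunctor A 0).map φ) :=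
      (Category.assoc _ _ _).symm.trans ((congrArg (· ≫ _) h1).trans ((Category.assoc _ _ _).trans
        ((congrArg (_ ≫ ·) h2).trans (Category.assoc _ _ _).symm)))
    have h5 := congrArg (shiftFunctor (DerivedCategory A) n).map h4
    rw [Functor.map_comp] at h5
    replace h5 := h5.trans ((shiftFunctor (DerivedCategory A) n).map_comp _ _)
    show _ ≫ ((shiftFunctor (DerivedCategory A) n).map _ ≫ _) =
      ((shiftFunctor (DerivedCategory A) n).map _ ≫ _) ≫ _
    refine (Category.assoc _ _ _).symm.trans ((congrArg (· ≫ _) h5).trans ?_)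
    exact (Category.assoc _ _ _).trans ((congrArg (_ ≫ ·) h3).trans (Category.assoc _ _ _).symm)
  apply (Ext.homAddEquiv (X := T) (Y := Y) (n := q)).injective
  refine (AddEquiv.apply_symm_apply _ _).trans ?_
  rw [Ext.homAddEquiv_apply, Ext.comp_hom, Ext.mk₀_hom, ShiftedHom.comp_mk₀]
  have : (E1Deg.HTsingleEquiv.{w', w} T X i n q h x).hom = x ≫ (E1Deg.targetIso X i n q h).hom := by
    rw [← Ext.homAddEquiv_apply]
    exact AddEquiv.apply_symm_apply Ext.homAddEquiv _
  rw [this]
  show (x ≫ _) ≫ _ = (x ≫ _) ≫ _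
  rw [Category.assoc, nat, ← Category.assoc]

variable (T : A)

/-- Vanishing in one degree for a complex concentrated in one degree. -/
lemma subsingleton_HT_of_single (K : CochainComplex A ℤ) (a n : ℤ) [K.IsStrictlyGE a]
    [K.IsStrictlyLE a] (h : ∀ q : ℕ, a + q = n → Subsingleton (Ext.{w'} T (K.X a) q)) :
    Subsingleton (E1Deg.HT T K n) := by
  by_cases hn : n < a
  · exact subsingleton_HT_of_lt T K a n hn
  · have := isIso_toSingle K a
    obtain ⟨q, hq⟩ := Int.le.dest (not_lt.1 hn)
    have := h q hq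
    exact ((Equiv.ofBijective _ (HTmap_isIso_bijective T (toSingle K a) n)).trans
      (E1Deg.HTsingleEquiv.{w', w} T _ a n q hq).toEquiv).subsingleton

/-- Hypercohomology vanishes in a degree where all the first page vanishes. -/
theorem subsingleton_HT (K : CochainComplex A ℤ) (a n : ℤ) [K.IsStrictlyGE a]
    (h : ∀ (i : ℤ) (q : ℕ), i + q = n → Subsingleton (Ext.{w'} T (K.X i) q)) :
    Subsingleton (E1Deg.HT T K n) := by
  suffices key : ∀ (m : ℕ) (K : CochainComplex A ℤ) (a : ℤ) [K.IsStrictlyGE a], n < a + m →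
      (∀ (i : ℤ) (q : ℕ), i + q = n → Subsingleton (Ext.{w'} T (K.X i) q)) →
      Subsingleton (E1Deg.HT T K n) from key (n + 1 - a).toNat K a (by omega) h
  intro m
  induction m with
  | zero => intro K a _ hn _; exact subsingleton_HT_of_lt T K a n (by simpa using hn)
  | succ m ih =>
    intro K a _ hn h
    let S := KFlatLib.sigmaSES K (a + 1)
    have hS : S.ShortExact := KFlatLib.sigmaSES_shortExact K (a + 1)
    have : S.X₁.IsStrictlyGE (a + 1) := inferInstanceAs
      (CochainComplex.IsStrictlyGE (K.stupidTrunc (ComplexShape.embeddingUpIntGE (a + 1))) (a + 1))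
    have hX₃ : S.X₃.IsStrictlyLE (a + 1 - 1) := KFlatLib.isStrictlyLE_sigmaSES_X₃ K (a + 1)
    rw [show a + 1 - 1 = a by omega] at hX₃
    have hz : ∀ i, IsZero (K.X i) → IsZero (S.X₃.X i) := fun i hi => by
      have := hS.map_of_exact (HomologicalComplex.eval A (ComplexShape.up ℤ) i)
      have := this.epi_g
      exact @IsZero.of_epi _ _ _ _ _ (S.g.f i) this hi
    have : S.X₃.IsStrictlyGE a := (CochainComplex.isStrictlyGE_iff _ _).2 fun i hi =>
      hz i (K.isZero_of_isStrictlyGE a i hi)
    have h1 : Subsingleton (E1Deg.HT T S.X₁ n) := ih S.X₁ (a + 1) (by push_cast at hn ⊢; omega)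
      fun i q hiq => by
        by_cases hi : a + 1 ≤ i
        · have := KFlatLib.isIso_sigmaGEι_f K (a + 1) i hi
          exact ((E1Deg.extCongrRight.{w'} T (asIso ((KFlatLib.sigmaGEι K (a + 1)).f i)) q).toEquiv
            ).subsingleton_congr.2 (h i q hiq)
        · have hz := S.X₁.isZero_of_isStrictlyGE (a + 1) i (by omega)
          exact ⟨fun x y => by
            have e : ∀ z : Ext.{w'} T (S.X₁.X i) q, z = 0 := fun z => by
              rw [← Ext.comp_mk₀_id z, hz.eq_of_src (𝟙 _) 0, Ext.mk₀_zero, Ext.comp_zero]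
            rw [e x, e y]⟩
    have h3 : Subsingleton (E1Deg.HT T S.X₃ n) := subsingleton_HT_of_single.{w'} T S.X₃ a n
      fun q hq => ((E1Deg.extCongrRight.{w'} T
        (KFlatLib.nonempty_sigmaSES_X₃_iso K (a + 1) a (by omega)).some q).toEquiv
          ).subsingleton_congr.1 (h a q hq)
    refine ⟨fun x y => sub_eq_zero.1 ?_⟩
    obtain ⟨z, hz'⟩ := exists_HTmap_eq hS T n (x - y) (Subsingleton.elim _ _)
    exact hz'.symm.trans ((congrArg _ (Subsingleton.elim z 0)).trans (map_zero _))

section Linear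

variable {R : Type u'} [CommRing R]

/-- The action on the components of a complex. -/
noncomputable def evalEnd (K : CochainComplex A ℤ) (i : ℤ) : End K →+* End (K.X i) where
  toFun f := HomologicalComplex.Hom.f f i
  map_one' := rfl
  map_mul' _ _ := rfl
  map_zero' := rfl
  map_add' _ _ := rfl

/-- `Ext^q(T, X)` as a module over a ring acting on `X`. -/
def ExtMod (T X : A) (_σ : R →+* End X) (q : ℕ) : Type w' := Ext.{w'} T X q

noncomputable instance (T X : A) (σ : R →+* End X) (q : ℕ) :
    AddCommGroup (ExtMod.{w'} T X σ q) :=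
  inferInstanceAs (AddCommGroup (Ext.{w'} T X q))

/-- The identity to `Ext`. -/
noncomputable def ExtMod.toExt {T X : A} {σ : R →+* End X} {q : ℕ} :
    ExtMod.{w'} T X σ q ≃+ Ext.{w'} T X q :=
  AddEquiv.refl _

/-- Endomorphisms of the coefficients act on `Ext`. -/
noncomputable def actEnd (T X : A) (σ : R →+* End X) (q : ℕ) :
    End X →+* AddMonoid.End (ExtMod.{w'} T X σ q) where
  toFun f := ExtMod.toExt.symm.toAddMonoidHom.comp
    (((Ext.mk₀ f).postcomp T (add_zero q)).comp ExtMod.toExt.toAddMonoidHom)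
  map_one' := AddMonoidHom.ext fun x => ExtMod.toExt.injective (Ext.comp_mk₀_id (ExtMod.toExt x))
  map_mul' f g := AddMonoidHom.ext fun x => ExtMod.toExt.injective (by
    show (ExtMod.toExt x).comp (Ext.mk₀ (g ≫ f)) (add_zero q) =
      ((ExtMod.toExt x).comp (Ext.mk₀ g) (add_zero q)).comp (Ext.mk₀ f) (add_zero q)
    simp)
  map_zero' := AddMonoidHom.ext fun x => ExtMod.toExt.injective (by
    show (ExtMod.toExt x).comp (Ext.mk₀ 0) (add_zero q) = 0
    simp)
  map_add' f g := AddMonoidHom.ext fun x => ExtMod.toExt.injective (by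
    show (ExtMod.toExt x).comp (Ext.mk₀ (f + g)) (add_zero q) =
      (ExtMod.toExt x).comp (Ext.mk₀ f) (add_zero q) + (ExtMod.toExt x).comp (Ext.mk₀ g) (add_zero q)
    rw [Ext.mk₀_add, Ext.comp_add])

noncomputable instance extModule (T X : A) (σ : R →+* End X) (q : ℕ) :
    Module R (ExtMod.{w'} T X σ q) :=
  Module.compHom (ExtMod.{w'} T X σ q) ((actEnd T X σ q).comp σ)

omit [HasDerivedCategory.{w} A] in
lemma toExt_smul {T X : A} {σ : R →+* End X} {q : ℕ} (r : R) (x : ExtMod.{w'} T X σ q) :
    ExtMod.toExt (r • x) = (ExtMod.toExt x).comp (Ext.mk₀ (σ r)) (add_zero q) := rfl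

/-- Isomorphic coefficients with compatible actions give isomorphic `Ext` modules. -/
noncomputable def extModCongr (T : A) {X Y : A} (e : X ≅ Y) (σ : R →+* End X) (τ : R →+* End Y)
    (h : ∀ r, (σ r : X ⟶ X) ≫ e.hom = e.hom ≫ τ r) (q : ℕ) :
    ExtMod.{w'} T X σ q ≃ₗ[R] ExtMod.{w'} T Y τ q :=
  (ExtMod.toExt.trans ((E1Deg.extCongrRight T e q).trans ExtMod.toExt.symm)).toLinearEquiv
    fun r x => ExtMod.toExt.injective (by
      show ((ExtMod.toExt x).comp (Ext.mk₀ (σ r)) (add_zero q)).comp (Ext.mk₀ e.hom) (add_zero q) =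
        ((ExtMod.toExt x).comp (Ext.mk₀ e.hom) (add_zero q)).comp (Ext.mk₀ (τ r)) (add_zero q)
      simp [h r])

/-- A complex in one degree: hypercohomology is an `Ext` module. -/
noncomputable def HTρSingle (K : CochainComplex A ℤ) (ρ : R →+* End K) (a n : ℤ) [K.IsStrictlyGE a]
    [K.IsStrictlyLE a] (q : ℕ) (h : a + q = n) :
    KLinDR.HTρ T K ρ n ≃ₗ[R] ExtMod.{w'} T (K.X a) ((evalEnd K a).comp ρ) q :=
  have := isIso_toSingle K a
  (KLinDR.HTρ.toHT.trans ((AddEquiv.ofBijective (E1Deg.HTmap T (toSingle K a) n)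
      (HTmap_isIso_bijective T (toSingle K a) n)).trans
        ((E1Deg.HTsingleEquiv.{w', w} T (K.X a) a n q h).trans ExtMod.toExt.symm))).toLinearEquiv
    fun r x => ExtMod.toExt.injective (by
      show E1Deg.HTsingleEquiv T (K.X a) a n q h
          (E1Deg.HTmap T (toSingle K a) n (KLinDR.HTρ.toHT (r • x))) =
        (E1Deg.HTsingleEquiv T (K.X a) a n q h
          (E1Deg.HTmap T (toSingle K a) n (KLinDR.HTρ.toHT x))).comp
            (Ext.mk₀ ((evalEnd K a).comp ρ r)) (add_zero q)
      refine Eq.trans (congrArg _ ?_)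
        (HTsingleEquiv_natural T ((ρ r : K ⟶ K).f a) a n q h _)
      rw [KLinDR.smul_def, ← E1Deg.HTmap_apply, ← E1Deg.HTmap_comp, ← E1Deg.HTmap_comp,
        toSingle_natural])

lemma finite_of_linear_exact [IsNoetherianRing R] {M₁ M₂ M₃ : Type*} [AddCommGroup M₁]
    [AddCommGroup M₂] [AddCommGroup M₃] [Module R M₁] [Module R M₂] [Module R M₃]
    [Module.Finite R M₁] [Module.Finite R M₃] (f : M₁ →ₗ[R] M₂) (g : M₂ →ₗ[R] M₃)
    (h : LinearMap.ker g ≤ LinearMap.range f) : Module.Finite R M₂ := by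
  refine ⟨Submodule.fg_of_fg_map_of_fg_inf_ker g ?_ ?_⟩
  · exact IsNoetherian.noetherian _
  · rw [top_inf_eq]
    have : IsNoetherian R (LinearMap.range f) := inferInstance
    have hfg : (LinearMap.range f).FG := Module.Finite.iff_fg.1 inferInstance
    have := isNoetherian_of_fg_of_noetherian _ hfg
    exact (isNoetherian_submodule.1 this _ h)

/-- The action on the stupid truncation. -/
noncomputable def truncEnd (K : CochainComplex A ℤ) (a : ℤ) :
    End K →+* End (K.stupidTrunc (ComplexShape.embeddingUpIntGE a)) where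
  toFun f := HomologicalComplex.stupidTruncMap f _
  map_one' := HomologicalComplex.stupidTruncMap_id K _
  map_mul' f g := HomologicalComplex.stupidTruncMap_comp g f _
  map_zero' := by
    show HomologicalComplex.stupidTruncMap (0 : K ⟶ K) _ = 0
    rw [HomologicalComplex.stupidTruncMap,
      show HomologicalComplex.restrictionMap (0 : K ⟶ K) (ComplexShape.embeddingUpIntGE a) = 0 from rfl,
      HomologicalComplex.extendMap_zero]
    rfl
  map_add' f g := by
    show HomologicalComplex.stupidTruncMap (f + g) _ =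
      HomologicalComplex.stupidTruncMap f _ + HomologicalComplex.stupidTruncMap g _
    rw [HomologicalComplex.stupidTruncMap,
      show HomologicalComplex.restrictionMap (f + g) (ComplexShape.embeddingUpIntGE a) =
        HomologicalComplex.restrictionMap f _ + HomologicalComplex.restrictionMap g _ from rfl,
      HomologicalComplex.extendMap_add]
    rfl

omit [HasDerivedCategory.{w} A] [HasExt.{w'} A] in
lemma sigmaGEι_natural {K L : CochainComplex A ℤ} (φ : K ⟶ L) (a : ℤ) :
    HomologicalComplex.stupidTruncMap φ _ ≫ KFlatLib.sigmaGEι L a = KFlatLib.sigmaGEι K a ≫ φ := by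
  ext m
  by_cases hm : a ≤ m
  · obtain ⟨k, rfl⟩ := Int.le.dest hm
    rw [HomologicalComplex.comp_f, HomologicalComplex.comp_f]
    change _ ≫ KFlatLib.sigmaGEιf L a (a + k) = KFlatLib.sigmaGEιf K a (a + k) ≫ _
    rw [KFlatLib.sigmaGEιf_eq L a (i := k) (n := a + k) rfl,
      KFlatLib.sigmaGEιf_eq K a (i := k) (n := a + k) rfl]
    exact HomologicalComplex.stupidTruncMap_stupidTruncXIso_hom φ _ _
  · exact (KFlatLib.isZero_stupidTrunc_of_lt K a m (by omega)).eq_of_src _ _

variable [IsNoetherianRing R]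

/-- Hypercohomology is finite in a degree where all the first page is finite. -/
theorem finite_HTρ (K : CochainComplex A ℤ) (ρ : R →+* End K) (a n : ℤ) [K.IsStrictlyGE a]
    (h : ∀ (i : ℤ) (q : ℕ), i + q = n →
      Module.Finite R (ExtMod.{w'} T (K.X i) ((evalEnd K i).comp ρ) q)) :
    Module.Finite R (KLinDR.HTρ T K ρ n) := by
  suffices key : ∀ (m : ℕ) (K : CochainComplex A ℤ) (ρ : R →+* End K) (a : ℤ) [K.IsStrictlyGE a],
      n < a + m → (∀ (i : ℤ) (q : ℕ), i + q = n →
        Module.Finite R (ExtMod.{w'} T (K.X i) ((evalEnd K i).comp ρ) q)) →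
      Module.Finite R (KLinDR.HTρ T K ρ n) from key (n + 1 - a).toNat K ρ a (by omega) h
  intro m
  induction m with
  | zero =>
    intro K ρ a _ hn _
    have : Subsingleton (KLinDR.HTρ T K ρ n) :=
      subsingleton_HT_of_lt T K a n (by simpa using hn)
    infer_instance
  | succ m ih =>
    intro K ρ a _ hn h
    let S := KFlatLib.sigmaSES K (a + 1)
    have hS : S.ShortExact := KFlatLib.sigmaSES_shortExact K (a + 1)
    have : Epi S.g := hS.epi_g
    let ρ₁ : R →+* End S.X₁ := (truncEnd K (a + 1)).comp ρ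
    have hι : KLinDR.Commutes ρ₁ ρ S.f := fun r => sigmaGEι_natural (ρ r : K ⟶ K) (a + 1)
    have hz0 : ∀ r, S.f ≫ (ρ r : K ⟶ K) ≫ S.g = 0 := fun r => by
      exact (Category.assoc _ _ _).symm.trans ((congrArg (· ≫ S.g) (hι r).symm).trans
        ((Category.assoc _ _ _).trans ((congrArg (_ ≫ ·) S.zero).trans comp_zero)))
    let e₃ : R → (S.X₃ ⟶ S.X₃) := fun r => hS.exact.desc ((ρ r : K ⟶ K) ≫ S.g) (hz0 r)
    have he₃ : ∀ r, S.g ≫ e₃ r = (ρ r : K ⟶ K) ≫ S.g := fun r => hS.exact.g_desc _ (hz0 r)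
    let ρ₃ : R →+* End S.X₃ :=
      { toFun := e₃
        map_one' := (cancel_epi S.g).1 (by
          show S.g ≫ e₃ 1 = S.g ≫ 𝟙 _
          rw [he₃, map_one]
          exact (Category.id_comp _).trans (Category.comp_id _).symm)
        map_mul' := fun r s => (cancel_epi S.g).1 (by
          show S.g ≫ e₃ (r * s) = S.g ≫ e₃ s ≫ e₃ r
          refine (he₃ _).trans (Eq.trans ?_ (((congrArg (· ≫ e₃ r) (he₃ s).symm).trans (Category.assoc _ _ _))))
          refine Eq.trans ?_ (((congrArg ((ρ s : K ⟶ K) ≫ ·) (he₃ r).symm).trans (Category.assoc _ _ _).symm))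
          rw [map_mul]
          exact Category.assoc (ρ s : K ⟶ K) (ρ r) S.g)
        map_zero' := (cancel_epi S.g).1 (by
          show S.g ≫ e₃ 0 = S.g ≫ 0
          rw [he₃, map_zero, comp_zero]
          exact zero_comp)
        map_add' := fun r s => (cancel_epi S.g).1 (by
          show S.g ≫ e₃ (r + s) = S.g ≫ (e₃ r + e₃ s)
          rw [he₃, map_add, Preadditive.comp_add, he₃, he₃]
          exact Preadditive.add_comp _ _ _ _ _ _) }
    have hπ : KLinDR.Commutes ρ ρ₃ S.g := fun r => (he₃ r).symm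
    have : S.X₁.IsStrictlyGE (a + 1) := inferInstanceAs
      (CochainComplex.IsStrictlyGE (K.stupidTrunc (ComplexShape.embeddingUpIntGE (a + 1))) (a + 1))
    have hX₃ : S.X₃.IsStrictlyLE (a + 1 - 1) := KFlatLib.isStrictlyLE_sigmaSES_X₃ K (a + 1)
    rw [show a + 1 - 1 = a by omega] at hX₃
    have : S.X₃.IsStrictlyGE a := (CochainComplex.isStrictlyGE_iff _ _).2 fun i hi => by
      have := (hS.map_of_exact (HomologicalComplex.eval A (ComplexShape.up ℤ) i)).epi_g
      exact @IsZero.of_epi _ _ _ _ _ (S.g.f i) this (K.isZero_of_isStrictlyGE a i hi)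
    have h1 : Module.Finite R (KLinDR.HTρ T S.X₁ ρ₁ n) :=
      ih S.X₁ ρ₁ (a + 1) (by push_cast at hn ⊢; omega) fun i q hiq => by
        by_cases hi : a + 1 ≤ i
        · have := KFlatLib.isIso_sigmaGEι_f K (a + 1) i hi
          have := h i q hiq
          exact Module.Finite.equiv (extModCongr.{w'} T
            (@asIso _ _ (S.X₁.X i) (K.X i) ((KFlatLib.sigmaGEι K (a + 1)).f i) (KFlatLib.isIso_sigmaGEι_f K (a + 1) i hi)) ((evalEnd S.X₁ i).comp ρ₁)
              ((evalEnd K i).comp ρ) (fun r => congrArg (fun φ : S.X₁ ⟶ K => φ.f i) (hι r)) q).symm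
        · have hz := S.X₁.isZero_of_isStrictlyGE (a + 1) i (by omega)
          have : Subsingleton (ExtMod.{w'} T (S.X₁.X i) ((evalEnd S.X₁ i).comp ρ₁) q) :=
            ⟨fun x y => ExtMod.toExt.injective (by
              rw [← Ext.comp_mk₀_id (ExtMod.toExt x), ← Ext.comp_mk₀_id (ExtMod.toExt y),
                hz.eq_of_src (𝟙 _) 0, Ext.mk₀_zero, Ext.comp_zero, Ext.comp_zero])⟩
          infer_instance
    have h3 : Module.Finite R (KLinDR.HTρ T S.X₃ ρ₃ n) := by
      by_cases hna : n < a
      · have : Subsingleton (KLinDR.HTρ T S.X₃ ρ₃ n) := subsingleton_HT_of_lt T S.X₃ a n hna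
        infer_instance
      · obtain ⟨q, hq⟩ := Int.le.dest (not_lt.1 hna)
        have := h a q hq
        have hmap := hS.map_of_exact (HomologicalComplex.eval A (ComplexShape.up ℤ) a)
        have : Epi (S.g.f a) := hmap.epi_g
        have : Mono (S.g.f a) := hmap.exact.mono_g
          ((KFlatLib.isZero_stupidTrunc_of_lt K (a + 1) a (by omega)).eq_of_src _ _)
        have hiso : IsIso (S.g.f a) := isIso_of_mono_of_epi (S.g.f a)
        exact Module.Finite.equiv ((extModCongr.{w'} T (@asIso _ _ (K.X a) (S.X₃.X a) (S.g.f a) hiso) ((evalEnd K a).comp ρ)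
          ((evalEnd S.X₃ a).comp ρ₃) (fun r => congrArg (fun φ : K ⟶ S.X₃ => φ.f a) (hπ r)) q).trans
            (HTρSingle.{w'} T S.X₃ ρ₃ a n q hq).symm)
    refine finite_of_linear_exact (KLinDR.HTρmap T S.f hι n) (KLinDR.HTρmap T S.g hπ n) ?_
    intro x hx
    obtain ⟨y, hy⟩ := exists_HTmap_eq hS T n (KLinDR.HTρ.toHT x) hx
    exact ⟨KLinDR.HTρ.toHT.symm y, hy⟩

end Linear

end Groth.Agent.DRHyp
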