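import Groth.Agent.DRHyp.ExtLoc
import Groth.Agent.QCoh.Qcqs
import Groth.Agent.QCoh.FT
import Groth.Agent.QCoh.Bound
import Groth.Agent.Synt29.OmegaAffine
import Groth.Agent.OmegaUniv.Universal
import Mathlib.LinearAlgebra.ExteriorPower.Basis
import Groth.Agent.DRHyp.Devissage

/-!
# The terms of a de Rham complex are quasi-coherent
-/

set_option autoImplicit false

universe u

open CategoryTheory CategoryTheory.Limits AlgebraicGeometry Opposite TopologicalSpace exteriorPower

namespace Groth.Agent.DRHyp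

variable {X S : Scheme.{u}}

/-- An affine-local exterior power of a quasi-coherent module is quasi-coherent. -/
theorem isQCoh_of_isExtPow {E L : X.Modules} (hE : Coh.IsQCoh E) (p : ℕ)
    (h : ExtPow.IsExtPow p E L) : Coh.IsQCoh L := by
  obtain ⟨φ, hφ⟩ := h
  have key : ∀ (U : X.Opens) (hU : IsAffineOpen U) (g : Γ(X, U)),
      letI := QCoh.basicModule g L
      IsLocalizedModule (Submonoid.powers g) (QCoh.basicRes g L) := by
    intro U hU g
    let W := X.basicOpen g
    have hW : IsAffineOpen W := hU.basicOpen g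
    let _ := QCoh.basicModule g L
    let _ := QCoh.basicModule g E
    have hloc := hU.isLocalization_basicOpen g
    have : IsScalarTower Γ(X, U) Γ(X, W) Γ(E, W) :=
      IsScalarTower.of_algebraMap_smul fun _ _ => rfl
    have : IsScalarTower Γ(X, U) Γ(X, W) Γ(L, W) :=
      IsScalarTower.of_algebraMap_smul fun _ _ => rfl
    have := QCoh.isLocalizedModule_basicRes g hE hU
    obtain ⟨ψ, hψ, hψι⟩ := exists_isLocalizedModule_extPow (B' := Γ(X, W)) (Submonoid.powers g)
      (QCoh.basicRes g E) p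
    let eU : Γ(L, U) ≃ₗ[Γ(X, U)] ↥(⋀[Γ(X, U)]^p Γ(E, U)) := φ ⟨U, hU⟩
    let eW : Γ(L, W) ≃ₗ[Γ(X, W)] ↥(⋀[Γ(X, W)]^p Γ(E, W)) := φ ⟨W, hW⟩
    let eW' := eW.symm.restrictScalars Γ(X, U)
    have := IsLocalizedModule.of_linearEquiv_right (Submonoid.powers g) ψ eU
    have := IsLocalizedModule.of_linearEquiv (Submonoid.powers g) (ψ ∘ₗ eU.toLinearMap) eW'
    refine (show QCoh.basicRes g L = eW'.toLinearMap ∘ₗ ψ ∘ₗ eU.toLinearMap from ?_) ▸ this
    refine LinearMap.ext fun z => ?_
    obtain ⟨w, rfl⟩ := eU.symm.surjective z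
    simp only [LinearMap.comp_apply, LinearEquiv.coe_coe, LinearEquiv.apply_symm_apply]
    have hw : w ∈ Submodule.span Γ(X, U) (Set.range (ιMulti Γ(X, U) p (M := Γ(E, U)))) := by
      rw [exteriorPower.ιMulti_span]; trivial
    induction hw using Submodule.span_induction with
    | mem y hy =>
      obtain ⟨v, rfl⟩ := hy
      rw [hψι]
      exact hφ ⟨U, hU⟩ ⟨W, hW⟩ (X.basicOpen_le g) v
    | zero => simp
    | add a b _ _ ha hb => simp [ha, hb]
    | smul r a _ ha => simp only [map_smul, ha]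
  refine QCoh.isQCoh_of_sections (fun U hU g s => ?_) (fun U hU g t ht => ?_)
  · let _ := QCoh.basicModule g L
    have := key U hU g
    obtain ⟨⟨t, ⟨_, n, rfl⟩⟩, ht⟩ := IsLocalizedModule.surj (Submonoid.powers g) (QCoh.basicRes g L) s
    refine ⟨n, t, ht.symm.trans ?_⟩
    show algebraMap Γ(X, U) Γ(X, X.basicOpen g) (g ^ n) • s = _
    rw [map_pow]
    rfl
  · let _ := QCoh.basicModule g L
    have := key U hU g
    obtain ⟨⟨_, n, rfl⟩, hn⟩ := IsLocalizedModule.exists_of_eq (S := Submonoid.powers g)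
      (f := QCoh.basicRes g L) (x₁ := t) (x₂ := 0) (ht.trans (map_zero _).symm)
    exact ⟨n, hn.trans (smul_zero _)⟩

variable {f : X ⟶ S} [QuasiSeparated f]

/-- The terms of a de Rham complex are quasi-coherent. -/
theorem isQCoh_term (D : DeRhamSh.OmegaCx f) (p : ℕ) : Coh.IsQCoh (D.term p) :=
  isQCoh_of_isExtPow (Synt29.OmegaStalk.isQCoh_of_isUniversal (OmegaUniv.isUniversal_dOmega f)) p
    (D.isExtPow p)

/-- Cohomology of a quasi-coherent module over an affine open, as `Ext`. -/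
theorem subsingleton_ext_of_isAffineOpen {M : X.Modules} (hM : Coh.IsQCoh M) {U : X.Opens}
    (hU : IsAffineOpen U) (n : ℕ) :
    Subsingleton (Abelian.Ext.{u} (CohCx.freeSheaf (Opens.grothendieckTopology X) U) (Coh.toAb M) (n + 1)) :=
  QCoh.subsingleton_HU_of_isAffineOpen hM hU n

/-- `Ext` out of `ℤ_⊤` is sheaf cohomology. -/
noncomputable def extTopEquiv (F : Sheaf (Opens.grothendieckTopology X) AddCommGrpCat.{u}) (q : ℕ) :
    Abelian.Ext.{u} (CohCx.freeSheaf (Opens.grothendieckTopology X) ⊤) F q ≃+ Sheaf.H F q :=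
  E1Deg.extCongrLeft (E1Deg.freeSheafIsoConstant (Opens.grothendieckTopology X)
    (isTerminalTop : IsTerminal (⊤ : X.Opens))) F q

lemma extTopEquiv_comp {F G : Sheaf (Opens.grothendieckTopology X) AddCommGrpCat.{u}} (φ : F ⟶ G) (q : ℕ)
    (x : Abelian.Ext.{u} (CohCx.freeSheaf (Opens.grothendieckTopology X) ⊤) F q) :
    extTopEquiv G q (x.comp (Abelian.Ext.mk₀ φ) (add_zero q)) =
      Sheaf.H.map φ q (extTopEquiv F q x) :=
  ((Abelian.Ext.mk₀ (E1Deg.freeSheafIsoConstant (Opens.grothendieckTopology X)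
    (isTerminalTop : IsTerminal (⊤ : X.Opens))).inv).comp_assoc_of_third_deg_zero x (Abelian.Ext.mk₀ φ) (zero_add q)).symm

end Groth.Agent.DRHyp
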