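import Groth.Agent.DRHyp.Wedge
import Groth.Agent.DRHyp.CartierForms
import Groth.Agent.DRHyp.Terms
import Groth.Agent.LogModGeo.Basic
import Mathlib.RingTheory.Smooth.Kaehler
import Mathlib.AlgebraicGeometry.Morphisms.Smooth

/-!
# Differentials of a hypersurface over an affine open
-/

set_option autoImplicit false

universe u

open CategoryTheory AlgebraicGeometry Opposite TopologicalSpace TensorProduct
open Groth.Agent.LogModGeo (rs rf rs_rs rf_rf rs_smul)

noncomputable section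

namespace Groth.Agent.DRHyp.Hyp

section Algebra

variable (k : Type u) {A B : Type u} [CommRing k] [CommRing A] [CommRing B] [Algebra k A] [Algebra k B]
  [Algebra A B] [IsScalarTower k A B]

theorem map_kaehler_eq_zero_iff (hs : Function.Surjective (algebraMap A B)) {g : A}
    (hker : RingHom.ker (algebraMap A B) = Ideal.span {g}) (x : Ω[A⁄k]) :
    KaehlerDifferential.map k k A B x = 0 ↔ ∃ (a : A) (z : Ω[A⁄k]), x = a • KaehlerDifferential.D k A g + g • z := by
  have hg0 : algebraMap A B g = 0 := by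
    rw [← RingHom.mem_ker, hker]; exact Ideal.mem_span_singleton_self g
  constructor
  · intro hx
    have h1 : KaehlerDifferential.mapBaseChange k A B ((1 : B) ⊗ₜ[A] x) = 0 := by
      rw [KaehlerDifferential.mapBaseChange_tmul, one_smul, hx]
    obtain ⟨z, hz⟩ := (KaehlerDifferential.exact_kerCotangentToTensor_mapBaseChange k A B hs _).1 h1
    obtain ⟨⟨w, hw⟩, rfl⟩ := Ideal.toCotangent_surjective _ z
    obtain ⟨a, rfl⟩ := Ideal.mem_span_singleton'.1 (hker ▸ hw)
    rw [KaehlerDifferential.kerCotangentToTensor_toCotangent] at hz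
    have h2 : (1 : B) ⊗ₜ[A] (x - a • KaehlerDifferential.D k A g) = 0 := by
      rw [TensorProduct.tmul_sub, ← hz]
      show (1 : B) ⊗ₜ[A] KaehlerDifferential.D k A (a * g) - _ = 0
      rw [Derivation.leibniz, TensorProduct.tmul_add,
        TensorProduct.tmul_smul g (1 : B) (KaehlerDifferential.D k A a),
        ← algebraMap_smul B g ((1 : B) ⊗ₜ[A] KaehlerDifferential.D k A a), hg0, zero_smul, add_zero, sub_self]
    obtain ⟨z, hz'⟩ := Wedge.exists_smul_of_tmul_eq_zero hs hker h2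
    exact ⟨a, z, by rw [← hz']; abel⟩
  · rintro ⟨a, z, rfl⟩
    rw [map_add, map_smul, map_smul, KaehlerDifferential.map_D, hg0, map_zero, smul_zero, zero_add,
      ← algebraMap_smul B g, hg0, zero_smul]

theorem exists_dual_unimodular [Module.Projective A Ω[A⁄k]] [Algebra.FormallySmooth k A]
    [Algebra.FormallySmooth k B]
    (hs : Function.Surjective (algebraMap A B)) {g : A}
    (hker : RingHom.ker (algebraMap A B) = Ideal.span {g}) (hg : ∀ a : A, g * a = 0 → a = 0) :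
    ∃ (φ : Module.Dual A Ω[A⁄k]) (c : A), φ (KaehlerDifferential.D k A g) = 1 + g * c := by
  obtain ⟨l, hl⟩ := (Algebra.FormallySmooth.iff_split_injection hs).1 ‹Algebra.FormallySmooth k B›
  have hmem : g ∈ RingHom.ker (algebraMap A B) := hker ▸ Ideal.mem_span_singleton_self g
  let γ : A →ₗ[A] (RingHom.ker (algebraMap A B)).Cotangent :=
    LinearMap.toSpanSingleton A _ (Ideal.toCotangent _ ⟨g, hmem⟩)
  have hγ : Function.Surjective γ := fun z => by
    obtain ⟨⟨w, hw⟩, rfl⟩ := Ideal.toCotangent_surjective _ z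
    obtain ⟨a, rfl⟩ := Ideal.mem_span_singleton'.1 (hker ▸ hw)
    refine ⟨a, ?_⟩
    show a • Ideal.toCotangent _ ⟨g, hmem⟩ = _
    rw [← map_smul]
    rfl
  obtain ⟨φ, hφ⟩ := Module.projective_lifting_property γ (l ∘ₗ TensorProduct.mk A B Ω[A⁄k] 1) hγ
  have h1 : γ (φ (KaehlerDifferential.D k A g)) = γ 1 := by
    refine (LinearMap.congr_fun hφ _).trans ?_
    show l ((1 : B) ⊗ₜ[A] KaehlerDifferential.D k A g) = (1 : A) • Ideal.toCotangent _ ⟨g, hmem⟩
    rw [one_smul]
    exact LinearMap.congr_fun hl (Ideal.toCotangent _ ⟨g, hmem⟩)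
  set a := φ (KaehlerDifferential.D k A g) with ha
  have h2 : Ideal.toCotangent (RingHom.ker (algebraMap A B)) ((a - 1) • ⟨g, hmem⟩) = 0 := by
    rw [map_smul, sub_smul]
    exact sub_eq_zero.2 h1
  rw [Ideal.toCotangent_eq_zero] at h2
  change (a - 1) * g ∈ _ at h2
  rw [hker, Ideal.span_singleton_pow, Ideal.mem_span_singleton'] at h2
  obtain ⟨c, hc⟩ := h2
  refine ⟨φ, c, ?_⟩
  have h3 : g * (a - 1 - g * c) = 0 := by linear_combination -hc
  rw [← ha]
  linear_combination hg _ h3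

end Algebra

section Scheme

variable {k : Type u} [Field k] {X : Scheme.{u}} (f : X ⟶ Spec (CommRingCat.of k)) [QuasiSeparated f]
  (I : X.IdealSheafData)

theorem constHom_sub (U : X.Opens) (r : k) :
    constHom (I.subschemeι ≫ f) (I.subschemeι ⁻¹ᵁ U) r = I.subschemeι.app U (constHom f U r) := by
  have e : (I.subschemeι ≫ f).appLE ⊤ (I.subschemeι ⁻¹ᵁ U)
      (show I.subschemeι ⁻¹ᵁ U ≤ (I.subschemeι ≫ f) ⁻¹ᵁ ⊤ from fun _ _ => trivial) =
      f.appLE ⊤ U (show U ≤ f ⁻¹ᵁ ⊤ from fun _ _ => trivial) ≫ I.subschemeι.app U := by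
    rw [Scheme.Hom.app_eq_appLE, Scheme.Hom.appLE_comp_appLE]
  exact ConcreteCategory.congr_hom e (OmAff.toΓ k r)

/-- The tower of constants, functions and functions on the subscheme. -/
theorem tower (U : X.Opens) :
    letI := kAlg f U
    letI := kAlg (I.subschemeι ≫ f) (I.subschemeι ⁻¹ᵁ U)
    letI : Algebra Γ(X, U) Γ(I.subscheme, I.subschemeι ⁻¹ᵁ U) := (I.subschemeι.app U).hom.toAlgebra
    IsScalarTower k Γ(X, U) Γ(I.subscheme, I.subschemeι ⁻¹ᵁ U) :=
  letI := kAlg f U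
  letI := kAlg (I.subschemeι ≫ f) (I.subschemeι ⁻¹ᵁ U)
  letI : Algebra Γ(X, U) Γ(I.subscheme, I.subschemeι ⁻¹ᵁ U) := (I.subschemeι.app U).hom.toAlgebra
  IsScalarTower.of_algebraMap_eq fun r => constHom_sub f I U r

theorem formallySmooth_kAlg {Z : Scheme.{u}} (h : Z ⟶ Spec (CommRingCat.of k)) [Smooth h] {U : Z.Opens}
    (hU : IsAffineOpen U) :
    letI := kAlg h U
    Algebra.FormallySmooth k Γ(Z, U) := by
  let _ := kAlg h U
  have h1 : RingHom.Smooth (constHom h U) :=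
    RingHom.Smooth.respectsIso.2 _ (Scheme.ΓSpecIso (CommRingCat.of k)).symm.commRingCatIsoToRingEquiv
      (Scheme.Hom.smooth_appLE h (isAffineOpen_top _) hU le_top)
  have : Algebra.Smooth k Γ(Z, U) := h1
  infer_instance

variable [QuasiSeparated (I.subschemeι ≫ f)]

/-- The restriction of differentials to a subscheme, over an affine open. -/
def psi (U : X.affineOpens) :
    Γ(Omega.sheaf f, U.1) →+ Γ(Omega.sheaf (I.subschemeι ≫ f), I.subschemeι ⁻¹ᵁ U.1) :=
  letI := kAlg f U.1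
  letI := kAlg (I.subschemeι ≫ f) (I.subschemeι ⁻¹ᵁ U.1)
  letI : Algebra Γ(X, U.1) Γ(I.subscheme, I.subschemeι ⁻¹ᵁ U.1) := (I.subschemeι.app U.1).hom.toAlgebra
  haveI := tower f I U.1
  (toOmega (I.subschemeι ≫ f) (I.subschemeι ⁻¹ᵁ U.1)).toAddMonoidHom.comp
    ((KaehlerDifferential.map k k Γ(X, U.1) Γ(I.subscheme, I.subschemeι ⁻¹ᵁ U.1)).toAddMonoidHom.comp
      (omegaEquiv f U.2).symm.toLinearMap.toAddMonoidHom)

theorem psi_smul (U : X.affineOpens) (a : Γ(X, U.1)) (m : Γ(Omega.sheaf f, U.1)) :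
    psi f I U (a • m) = (I.subschemeι.app U.1).hom a • psi f I U m := by
  let _ := kAlg f U.1
  let _ := kAlg (I.subschemeι ≫ f) (I.subschemeι ⁻¹ᵁ U.1)
  let _ : Algebra Γ(X, U.1) Γ(I.subscheme, I.subschemeι ⁻¹ᵁ U.1) := (I.subschemeι.app U.1).hom.toAlgebra
  haveI := tower f I U.1
  simp only [psi, AddMonoidHom.coe_comp, Function.comp_apply, LinearMap.toAddMonoidHom_coe,
    LinearEquiv.coe_coe, map_smul]
  rw [← algebraMap_smul Γ(I.subscheme, I.subschemeι ⁻¹ᵁ U.1) a, map_smul]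
  rfl

theorem psi_d (U : X.affineOpens) (b : Γ(X, U.1)) :
    psi f I U ((OmegaSh.dOmega f).app U.1 b) =
      (OmegaSh.dOmega (I.subschemeι ≫ f)).app (I.subschemeι ⁻¹ᵁ U.1) ((I.subschemeι.app U.1).hom b) := by
  let _ := kAlg f U.1
  let _ := kAlg (I.subschemeι ≫ f) (I.subschemeι ⁻¹ᵁ U.1)
  let _ : Algebra Γ(X, U.1) Γ(I.subscheme, I.subschemeι ⁻¹ᵁ U.1) := (I.subschemeι.app U.1).hom.toAlgebra
  haveI := tower f I U.1
  have h : (omegaEquiv f U.2).symm ((OmegaSh.dOmega f).app U.1 b) = KaehlerDifferential.D k Γ(X, U.1) b :=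
    (LinearEquiv.symm_apply_eq _).2 (toOmega_D f U.1 b).symm
  simp only [psi, AddMonoidHom.coe_comp, Function.comp_apply, LinearMap.toAddMonoidHom_coe,
    LinearEquiv.coe_coe, h, KaehlerDifferential.map_D]
  exact toOmega_D _ _ _

theorem omega_induct {Z : Scheme.{u}} (h : Z ⟶ Spec (CommRingCat.of k)) [QuasiSeparated h] {U : Z.Opens}
    (hU : IsAffineOpen U) {P : Γ(Omega.sheaf h, U) → Prop} (h0 : P 0)
    (hadd : ∀ x y, P x → P y → P (x + y))
    (hgen : ∀ (a b : Γ(Z, U)), P (a • (OmegaSh.dOmega h).app U b)) (m : Γ(Omega.sheaf h, U)) : P m := by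
  let _ := kAlg h U
  obtain ⟨z, rfl⟩ := (toOmega_bijective h hU).2 m
  induction z using Cartier.omega_induction with
  | h0 => rw [map_zero]; exact h0
  | hadd x y hx hy => rw [map_add]; exact hadd _ _ hx hy
  | hgen a b => rw [map_smul, toOmega_D]; exact hgen a b

theorem psi_res (U V : X.affineOpens) (h : V.1 ≤ U.1) (m : Γ(Omega.sheaf f, U.1)) :
    psi f I V (rs _ h m) =
      rs _ ((Opens.map I.subschemeι.base).map (homOfLE h)).le (psi f I U m) := by
  induction m using omega_induct f U.2 with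
  | h0 => simp only [map_zero]
  | hadd x y hx hy => simp only [map_add, hx, hy]
  | hgen a b =>
    rw [rs_smul, psi_smul, psi_smul, rs_smul, psi_d]
    have e1 : rs (Omega.sheaf f) h ((OmegaSh.dOmega f).app U.1 b) = (OmegaSh.dOmega f).app V.1 (rf h b) :=
      ((OmegaSh.dOmega f).d_map (homOfLE h).op b).symm
    rw [e1, psi_d]
    have e2 : ∀ c : Γ(X, U.1), (I.subschemeι.app V.1).hom (rf h c) =
        rf ((Opens.map I.subschemeι.base).map (homOfLE h)).le ((I.subschemeι.app U.1).hom c) :=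
      fun c => ConcreteCategory.congr_hom (I.subschemeι.naturality (homOfLE h).op) c
    rw [e2, e2]
    exact congrArg _ ((OmegaSh.dOmega (I.subschemeι ≫ f)).d_map
      (homOfLE ((Opens.map I.subschemeι.base).map (homOfLE h)).le).op _)

theorem psi_surjective (U : X.affineOpens) : Function.Surjective (psi f I U) := fun m => by
  have hV : IsAffineOpen (I.subschemeι ⁻¹ᵁ U.1) := U.2.preimage I.subschemeι
  induction m using omega_induct (I.subschemeι ≫ f) hV with
  | h0 => exact ⟨0, map_zero _⟩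
  | hadd x y hx hy =>
    obtain ⟨a, rfl⟩ := hx
    obtain ⟨b, rfl⟩ := hy
    exact ⟨a + b, map_add _ _ _⟩
  | hgen a b =>
    obtain ⟨a, rfl⟩ := I.subschemeι_app_surjective U a
    obtain ⟨b, rfl⟩ := I.subschemeι_app_surjective U b
    exact ⟨a • (OmegaSh.dOmega f).app U.1 b, by rw [psi_smul, psi_d]⟩

theorem psi_eq_zero_iff (U : X.affineOpens) {g : Γ(X, U.1)} (hg : I.ideal U = Ideal.span {g})
    (m : Γ(Omega.sheaf f, U.1)) :
    psi f I U m = 0 ↔ ∃ (a : Γ(X, U.1)) (z : Γ(Omega.sheaf f, U.1)),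
      m = a • (OmegaSh.dOmega f).app U.1 g + g • z := by
  let _ := kAlg f U.1
  let _ := kAlg (I.subschemeι ≫ f) (I.subschemeι ⁻¹ᵁ U.1)
  let _ : Algebra Γ(X, U.1) Γ(I.subscheme, I.subschemeι ⁻¹ᵁ U.1) := (I.subschemeι.app U.1).hom.toAlgebra
  haveI := tower f I U.1
  have hV : IsAffineOpen (I.subschemeι ⁻¹ᵁ U.1) := U.2.preimage I.subschemeι
  obtain ⟨z, rfl⟩ := (omegaEquiv f U.2).surjective m
  have h : psi f I U (omegaEquiv f U.2 z) = toOmega (I.subschemeι ≫ f) (I.subschemeι ⁻¹ᵁ U.1)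
      (KaehlerDifferential.map k k Γ(X, U.1) Γ(I.subscheme, I.subschemeι ⁻¹ᵁ U.1) z) := by
    simp only [psi, AddMonoidHom.coe_comp, Function.comp_apply, LinearMap.toAddMonoidHom_coe,
      LinearEquiv.coe_coe, LinearEquiv.symm_apply_apply]
  rw [h, map_eq_zero_iff _ (toOmega_bijective _ hV).1,
    map_kaehler_eq_zero_iff k (I.subschemeι_app_surjective U) ((I.ker_subschemeι_app U).trans hg)]
  have hd : omegaEquiv f U.2 (KaehlerDifferential.D k Γ(X, U.1) g) = (OmegaSh.dOmega f).app U.1 g :=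
    toOmega_D f U.1 g
  constructor
  · rintro ⟨a, w, rfl⟩
    exact ⟨a, omegaEquiv f U.2 w, by rw [map_add, map_smul, map_smul, hd]⟩
  · rintro ⟨a, w, hw⟩
    refine ⟨a, (omegaEquiv f U.2).symm w, (omegaEquiv f U.2).injective ?_⟩
    rw [hw, map_add, map_smul, map_smul, hd, LinearEquiv.apply_symm_apply]

theorem projective_omega [Smooth f] {U : X.Opens} (hU : IsAffineOpen U) :
    Module.Projective Γ(X, U) Γ(Omega.sheaf f, U) := by
  let _ := kAlg f U
  have := formallySmooth_kAlg f hU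
  exact Module.Projective.of_equiv (omegaEquiv f hU)

theorem exists_dual_d [Smooth f] [Smooth (I.subschemeι ≫ f)] (U : X.affineOpens) {g : Γ(X, U.1)}
    (hg : I.ideal U = Ideal.span {g}) (hreg : ∀ a, g * a = 0 → a = 0) :
    ∃ (φ : Module.Dual Γ(X, U.1) Γ(Omega.sheaf f, U.1)) (c : Γ(X, U.1)),
      φ ((OmegaSh.dOmega f).app U.1 g) = 1 + g * c := by
  let _ := kAlg f U.1
  let _ := kAlg (I.subschemeι ≫ f) (I.subschemeι ⁻¹ᵁ U.1)
  let _ : Algebra Γ(X, U.1) Γ(I.subscheme, I.subschemeι ⁻¹ᵁ U.1) := (I.subschemeι.app U.1).hom.toAlgebra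
  haveI := tower f I U.1
  haveI := formallySmooth_kAlg f U.2
  haveI := formallySmooth_kAlg (I.subschemeι ≫ f) (U.2.preimage I.subschemeι)
  obtain ⟨φ, c, hc⟩ := exists_dual_unimodular k (I.subschemeι_app_surjective U)
    ((I.ker_subschemeι_app U).trans hg) hreg
  refine ⟨φ ∘ₗ (omegaEquiv f U.2).symm.toLinearMap, c, ?_⟩
  rw [LinearMap.comp_apply, LinearEquiv.coe_coe,
    (LinearEquiv.symm_apply_eq (omegaEquiv f U.2)).2 (toOmega_D f U.1 g).symm, hc]

end Scheme

end Groth.Agent.DRHyp.Hyp
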