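import Groth.Agent.DRHyp.HypBasic
import Groth.Agent.DRHyp.HypOmega
import Groth.Agent.OmegaUniv.Universal
import Groth.Agent.ZeroSchX.Basic
import Groth.Prelude.Def_KoszTw
import Groth.Prelude.Def_SecTwist
import Groth.Prelude.Def_ExtPow2

/-!
# Forms twisted by powers of an invertible module with a regular section
-/

set_option autoImplicit false

universe u

open CategoryTheory CategoryTheory.Limits AlgebraicGeometry Opposite TopologicalSpace exteriorPower
open Groth.Agent.LogModGeo (rs rf rs_rs rf_rf rs_refl rf_refl rs_smul app_rs)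

noncomputable section

namespace Groth.Agent.DRHyp.Hyp

attribute [local irreducible] ExtSheaf.mod

variable {k : Type u} [Field k] {X : Scheme.{u}}

section Twist

variable {M : X.Modules} (s : Coh.structureModule X ⟶ M)

/-- The coefficient of the section in a frame. -/
def coef {V : X.Opens} {e : Γ(M, V)} (he : InvX.IsFrame e) : Γ(X, V) :=
  (he.exists_coord le_rfl (ZeroSchX.sv s V)).choose

theorem coef_spec {V : X.Opens} {e : Γ(M, V)} (he : InvX.IsFrame e) :
    ZeroSchX.sv s V = coef s he • e := by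
  exact (he.exists_coord le_rfl (ZeroSchX.sv s V)).choose_spec.trans
    (congrArg (coef s he • ·) (AModX.res_self e))

theorem coef_unique {V : X.Opens} {e : Γ(M, V)} (he : InvX.IsFrame e) {c : Γ(X, V)}
    (hc : ZeroSchX.sv s V = c • e) : coef s he = c :=
  he.coord_unique le_rfl (by rw [AModX.res_self, ← coef_spec s he, hc])

theorem coef_res {V W : X.Opens} {e : Γ(M, V)} (he : InvX.IsFrame e) (h : W ≤ V) :
    coef s (he.res h) = rf h (coef s he) := by
  refine coef_unique s _ ?_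
  rw [← ZeroSchX.res_sv s h, coef_spec s he]
  exact rs_smul M h _ e

theorem coef_change {V : X.Opens} {e : Γ(M, V)} (he : InvX.IsFrame e) {u : Γ(X, V)}
    (hu : InvX.IsFrame (u • e)) : coef s he = coef s hu * u :=
  coef_unique s he (by rw [coef_spec s hu, smul_smul])

theorem coef_regular [Mono s] {V : X.Opens} {e : Γ(M, V)} (he : InvX.IsFrame e) (a : Γ(X, V))
    (ha : coef s he * a = 0) : a = 0 := by
  have h0 : Scheme.Modules.Hom.app s V (a • (1 : Γ(X, V)) : Γ(X, V)) = a • ZeroSchX.sv s V :=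
    Scheme.Modules.Hom.app_smul s (U := V) a (show Γ(Coh.structureModule X, V) from (1 : Γ(X, V)))
  rw [coef_spec s he, smul_smul, mul_comm a, ha, zero_smul, smul_eq_mul, mul_one] at h0
  exact QCoh.app_injective s V (h0.trans (map_zero (Scheme.Modules.Hom.app s V).hom).symm)

theorem ideal_eq (hM : PicF.IsInvertible M) {V : X.Opens} (hV : IsAffineOpen V) {e : Γ(M, V)}
    (he : InvX.IsFrame e) : (PicF2.zeroScheme M s).ideal ⟨V, hV⟩ = Ideal.span {coef s he} := by
  rw [ZeroSchX.ideal_zeroScheme hM, ZeroSchX.zeroIdealOn_eq_span s he (coef_spec s he)]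

/-- Tensor powers. -/
def PT (M : X.Modules) : ℕ → X.Modules
  | 0 => M
  | t + 1 => CohB1.tensorMod (PT M t) M

theorem isQCoh_PT (hM : PicF.IsInvertible M) : ∀ t, Coh.IsQCoh (PT M t)
  | 0 => ZeroSchX.isQCoh_inv hM
  | t + 1 => KFlatLib.isQCoh_tensor (isQCoh_PT hM t) (ZeroSchX.isQCoh_inv hM)

/-- The powers of a frame. -/
def fr {V : X.Opens} (e : Γ(M, V)) : (t : ℕ) → Γ(PT M t, V)
  | 0 => e
  | t + 1 => InvX.tmul (fr e t) e

theorem isFrame_fr {V : X.Opens} {e : Γ(M, V)} (he : InvX.IsFrame e) : ∀ t, InvX.IsFrame (fr e t)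
  | 0 => he
  | t + 1 => InvX.isFrame_tmul (isFrame_fr he t) he

theorem fr_res {V W : X.Opens} (e : Γ(M, V)) (h : W ≤ V) : ∀ t, rs (PT M t) h (fr e t) = fr (rs M h e) t
  | 0 => rfl
  | t + 1 => (InvX.res_tmul h _ _).trans (congrArg (fun z => InvX.tmul z (rs M h e)) (fr_res e h t))

theorem fr_smul {V : X.Opens} (e : Γ(M, V)) (u : Γ(X, V)) : ∀ t, fr (u • e) t = u ^ (t + 1) • fr e t
  | 0 => by rw [zero_add, pow_one]; rfl
  | t + 1 => by
    show InvX.tmul (fr (u • e) t) (u • e) = u ^ (t + 2) • InvX.tmul (fr e t) e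
    rw [fr_smul e u t, InvX.tmul_smul_left, InvX.tmul_smul_right, smul_smul, ← pow_succ]

/-- Multiplication by the section. -/
def up (t : ℕ) : PT M t ⟶ PT M (t + 1) :=
  (SecTwist.unitorR (PT M t)).inv ≫ KoszTw.tensorMap (𝟙 (PT M t)) s

theorem up_app (t : ℕ) (V : X.Opens) (y : Γ(PT M t, V)) :
    (up s t).app V y = InvX.tmul y (ZeroSchX.sv s V) := by
  have h1 : (SecTwist.unitorR (PT M t)).inv.app V y =
      SecTwist.tmul (PT M t) (Coh.structureModule X) V y (OmegaSh.strSect X V 1) := by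
    have h0 : (SecTwist.unitorR (PT M t)).hom.app V
        (SecTwist.tmul (PT M t) (Coh.structureModule X) V y (OmegaSh.strSect X V 1)) = y :=
      (SecTwist.unitorR_tmul (PT M t) V y 1).trans (one_smul _ _)
    exact (congrArg ((SecTwist.unitorR (PT M t)).inv.app V) h0.symm).trans
      congr(($((SecTwist.unitorR (PT M t)).hom_inv_id)).app V _)
  show (KoszTw.tensorMap (𝟙 (PT M t)) s).app V ((SecTwist.unitorR (PT M t)).inv.app V y) = _
  rw [h1]
  exact KoszTw.tensorMap_tmul _ _ _ _ _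

end Twist

variable (f : X ⟶ Spec (CommRingCat.of k)) [QuasiSeparated f]

theorem isQCoh_omega : Coh.IsQCoh (Omega.sheaf f) :=
  Synt29.OmegaStalk.isQCoh_of_isUniversal (OmegaUniv.isUniversal_dOmega f)

variable {M : X.Modules} (hM : PicF.IsInvertible M) (s : Coh.structureModule X ⟶ M)

/-- The forms of degree `j` over an open. -/
abbrev TO (j : ℕ) (V : X.Opens) : Type u := ExtSheaf.T (Omega.sheaf f) j V

/-- The differential of the coefficient of the section in a frame. -/
def dg {V : X.Opens} {e : Γ(M, V)} (he : InvX.IsFrame e) : Γ(Omega.sheaf f, V) :=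
  (OmegaSh.dOmega f).app V (coef s he)

/-- Wedging with the differential of the coefficient. -/
abbrev dwedge {V : X.Opens} {e : Γ(M, V)} (he : InvX.IsFrame e) (j : ℕ) : TO f j V →ₗ[Γ(X, V)] TO f (j + 1) V :=
  Wedge.wedge (dg f s he) j

theorem r_dwedge {V W : X.Opens} {e : Γ(M, V)} (he : InvX.IsFrame e) (h : W ≤ V) {j : ℕ} (x : TO f j V) :
    ExtSheaf.r (Omega.sheaf f) (j + 1) h (dwedge f s he j x) =
      dwedge f s (he.res h) j (ExtSheaf.r (Omega.sheaf f) j h x) := by
  have e1 : rs (Omega.sheaf f) h (dg f s he) = dg f s (he.res h) := by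
    rw [dg, dg, coef_res]
    exact ((OmegaSh.dOmega f).d_map (homOfLE h).op _).symm
  induction x using Wedge.induct with
  | h0 => simp only [map_zero]
  | hadd x y hx hy => simp only [map_add, hx, hy]
  | hgen a v =>
    simp only [map_smul, ExtSheaf.r_smul, Wedge.wedge_ιMulti, ExtSheaf.r_ιMulti]
    refine congrArg (_ • ·) (congrArg _ (funext fun i => ?_))
    cases i using Fin.cases with
    | zero => simpa using e1
    | succ i => simp

/-- A presentation of a module by forms in frames. -/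
structure Pres (j : ℕ) (C : X.Modules) where
  /-- the weight -/
  w : ℕ
  /-- the presentation -/
  q : ∀ {V : X.Opens} (_ : IsAffineOpen V) {e : Γ(M, V)} (_ : InvX.IsFrame e), TO f j V →ₗ[Γ(X, V)] Γ(C, V)
  surj : ∀ {V : X.Opens} (hV : IsAffineOpen V) {e : Γ(M, V)} (he : InvX.IsFrame e), Function.Surjective (q hV he)
  res : ∀ {V W : X.Opens} (hV : IsAffineOpen V) (hW : IsAffineOpen W) {e : Γ(M, V)} (he : InvX.IsFrame e)
    (h : W ≤ V) (x : TO f j V), rs C h (q hV he x) = q hW (he.res h) (ExtSheaf.r (Omega.sheaf f) j h x)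
  scale : ∀ {V : X.Opens} (hV : IsAffineOpen V) {e : Γ(M, V)} (he : InvX.IsFrame e) {u : Γ(X, V)}
    (hu : InvX.IsFrame (u • e)) (x : TO f j V), q hV hu x = u ^ w • q hV he x
  coef_smul : ∀ {V : X.Opens} (hV : IsAffineOpen V) {e : Γ(M, V)} (he : InvX.IsFrame e) (x : TO f j V),
    q hV he (coef s he • x) = 0

/-- The affine opens with a frame. -/
def Small (V : X.Opens) : Prop := IsAffineOpen V ∧ ∃ e : Γ(M, V), InvX.IsFrame e

omit [QuasiSeparated f] in
include hM in
theorem isBase_small : IsBase (Small (M := M)) := fun U x hx => by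
  obtain ⟨W, hxW, e, he⟩ := InvX.exists_frame hM x
  obtain ⟨_, ⟨V, hV, rfl⟩, hxV, hle⟩ :=
    X.isBasis_affineOpens.exists_subset_of_mem_open (show x ∈ U ⊓ W from ⟨hx, hxW⟩) (U ⊓ W).isOpen
  exact ⟨V, ⟨hV, _, he.res ((show V ≤ U ⊓ W from hle).trans inf_le_right)⟩, fun y hy => (hle hy).1, hxV⟩

variable {f s} {j : ℕ} {C C' : X.Modules}

include hM in
/-- Wedging with the differential of the section, between presented modules. -/
theorem exists_dHom (P : Pres f s j C) (P' : Pres f s (j + 1) C') (hw : P'.w = P.w + 1)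
    (hker : ∀ {V : X.Opens} (hV : IsAffineOpen V) {e : Γ(M, V)} (he : InvX.IsFrame e) (x : TO f j V),
      P.q hV he x = 0 → P'.q hV he (dwedge f s he j x) = 0) :
    ∃ φ : C ⟶ C', ∀ (V : X.Opens) (hV : IsAffineOpen V) (e : Γ(M, V)) (he : InvX.IsFrame e) (x : TO f j V),
      φ.app V (P.q hV he x) = P'.q hV he (dwedge f s he j x) := by
  have indep : ∀ {V : X.Opens} (hV : IsAffineOpen V) {e₀ e : Γ(M, V)} (he₀ : InvX.IsFrame e₀)
      (he : InvX.IsFrame e) (x y : TO f j V), P.q hV he x = P.q hV he₀ y →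
      P'.q hV he (dwedge f s he j x) = P'.q hV he₀ (dwedge f s he₀ j y) := by
    intro V hV e₀ e he₀ he x y hxy
    obtain ⟨u, rfl⟩ : ∃ u : Γ(X, V), e = u • e₀ :=
      (he₀.exists_coord le_rfl e).imp fun _ h => h.trans (congrArg (_ • ·) (AModX.res_self e₀))
    obtain ⟨v, hv⟩ : ∃ v : Γ(X, V), e₀ = v • u • e₀ :=
      (he.exists_coord le_rfl e₀).imp fun _ h => h.trans (congrArg (_ • ·) (AModX.res_self _))
    have hvu : v * u = 1 := he₀.coord_unique le_rfl (by
      rw [AModX.res_self, one_smul, mul_smul]; exact hv.symm)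
    have hg0 : coef s he₀ = coef s he * u := coef_change s he₀ he
    have hz : ∀ y, P'.q hV he₀ (coef s he • y) = 0 := fun y => by
      rw [show coef s he • y = coef s he₀ • (v • y) by rw [hg0, smul_smul, mul_assoc, mul_comm u, hvu, mul_one]]
      exact P'.coef_smul _ _ _
    have hd : dg f s he₀ = u • dg f s he + coef s he • (OmegaSh.dOmega f).app V u := by
      rw [dg, dg, hg0, Synt29.OmegaStalk.app_mul, add_comm]
    have h1 : P.q hV he₀ (u ^ P.w • x - y) = 0 := by
      rw [map_sub, map_smul, ← P.scale hV he₀ he, hxy, sub_self]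
    have h2 := hker hV he₀ _ h1
    rw [map_sub, map_sub, sub_eq_zero, map_smul, map_smul] at h2
    rw [P'.scale hV he₀ he, hw, pow_succ, mul_smul, ← h2]
    refine congrArg (_ • ·) ?_
    show _ = P'.q _ _ (Wedge.wedge (dg f s he₀) j x)
    rw [hd, Wedge.wedge_add_left, Wedge.wedge_smul_left, Wedge.wedge_smul_left, map_add, map_smul, hz, add_zero]
  have hex : ∀ (V : X.Opens) (hV : Small (M := M) V) (z : Γ(C, V)), ∃ w : Γ(C', V),
      ∀ (e : Γ(M, V)) (he : InvX.IsFrame e) (x : TO f j V), P.q hV.1 he x = z →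
        P'.q hV.1 he (dwedge f s he j x) = w := fun V hV z => by
    obtain ⟨hVa, e₀, he₀⟩ := hV
    obtain ⟨y, rfl⟩ := P.surj hVa he₀ z
    exact ⟨_, fun e he x hx => indep hVa he₀ he x y hx⟩
  choose F hF using hex
  have hlin : ∀ (V : X.Opens) (hV : Small (M := M) V),
      (∀ z z', F V hV (z + z') = F V hV z + F V hV z') ∧
        ∀ (a : Γ(X, V)) z, F V hV (a • z) = a • F V hV z := fun V hV => by
    have hVa := hV.1
    obtain ⟨e₀, he₀⟩ := id hV.2
    refine ⟨fun z z' => ?_, fun a z => ?_⟩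
    · obtain ⟨y, rfl⟩ := P.surj hVa he₀ z
      obtain ⟨y', rfl⟩ := P.surj hVa he₀ z'
      rw [← hF V _ _ e₀ he₀ (y + y') (map_add _ _ _), ← hF V _ _ e₀ he₀ y rfl, ← hF V _ _ e₀ he₀ y' rfl,
        map_add, map_add]
    · obtain ⟨y, rfl⟩ := P.surj hVa he₀ z
      rw [← hF V _ _ e₀ he₀ (a • y) (map_smul _ _ _), ← hF V _ _ e₀ he₀ y rfl, map_smul, map_smul]
  obtain ⟨φ, hφ⟩ := exists_hom_of_base (M := C) (N := C') (isBase_small hM)
    (fun V hV => { toFun := F V hV, map_add' := (hlin V hV).1, map_smul' := (hlin V hV).2 })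
    fun V W hV hW h z => by
      have hVa := hV.1
      obtain ⟨e₀, he₀⟩ := id hV.2
      obtain ⟨y, rfl⟩ := P.surj hVa he₀ z
      show rs C' h (F V _ _) = F W hW _
      rw [← hF V _ _ e₀ he₀ y rfl, P'.res hVa hW.1, r_dwedge,
        ← hF W hW (rs C h (P.q hVa he₀ y)) _ (he₀.res h) _ (P.res hVa hW.1 he₀ h y).symm]
  exact ⟨φ, fun V hV e he x => (hφ V ⟨hV, e, he⟩ _).trans (hF V ⟨hV, e, he⟩ _ e he x rfl).symm⟩

section Coker

variable (f s)

/-- The sheaf of forms. -/
abbrev OmX (j : ℕ) : X.Modules := ExtSheaf.mod (isQCoh_omega f) j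

theorem isQCoh_OmX (j : ℕ) : Coh.IsQCoh (OmX f j) :=
  isQCoh_of_isExtPow (E := Omega.sheaf f) (L := OmX f j) (isQCoh_omega f) j
    (ExtSheaf.isExtPow_mod (isQCoh_omega f) j)

/-- The twisted forms. -/
def N (j t : ℕ) : X.Modules := CohB1.tensorMod (OmX f j) (PT M t)

/-- Multiplication by the section on twisted forms. -/
def upN (j t : ℕ) : N f (M := M) j t ⟶ N f (M := M) j (t + 1) :=
  KoszTw.tensorMap (𝟙 (OmX f j)) (up s t)

/-- The twisted forms on the zero scheme. -/
def CC (j t : ℕ) : X.Modules := cokernel (upN f s j t)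

include hM in
theorem isQCoh_N (j t : ℕ) : Coh.IsQCoh (N f (M := M) j t) :=
  KFlatLib.isQCoh_tensor (M := OmX f j) (N := PT M t) (isQCoh_OmX f j)
    (isQCoh_PT hM t)

include hM in
theorem isQCoh_CC (j t : ℕ) : Coh.IsQCoh (CC f s j t) :=
  QCoh.isQCoh_cokernel (isQCoh_N f hM j t) (isQCoh_N f hM j (t + 1)) _

/-- Twisted forms in a frame. -/
def qN (j t : ℕ) {V : X.Opens} (hV : IsAffineOpen V) (e : Γ(M, V)) :
    TO f j V →ₗ[Γ(X, V)] Γ(N f (M := M) j t, V) where
  toFun x := InvX.tmul ((ev (isQCoh_omega f) j hV).symm x) (fr e t)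
  map_add' x y := by
    rw [map_add]
    exact QCoh.tmS_add_left _ _ _ _ _
  map_smul' a x := by
    rw [map_smul, InvX.tmul_smul_left]
    rfl

include hM in
theorem qN_bijective (j t : ℕ) {V : X.Opens} (hV : IsAffineOpen V) {e : Γ(M, V)} (he : InvX.IsFrame e) :
    Function.Bijective (qN f j t hV e) :=
  (bijective_tmul_frame (isQCoh_OmX f j)
    (isQCoh_PT hM t) hV (isFrame_fr he t)).comp (ev (isQCoh_omega f) j hV).symm.bijective

theorem qN_res (j t : ℕ) {V W : X.Opens} (hV : IsAffineOpen V) (hW : IsAffineOpen W) (e : Γ(M, V))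
    (h : W ≤ V) (x : TO f j V) :
    rs (N f (M := M) j t) h (qN f j t hV e x) =
      qN f j t hW (rs M h e) (ExtSheaf.r (Omega.sheaf f) j h x) := by
  refine (InvX.res_tmul h _ _).trans ?_
  exact congrArg₂ InvX.tmul (ev_symm_res (isQCoh_omega f) hV hW h x) (fr_res e h t)

theorem upN_qN (j t : ℕ) {V : X.Opens} (hV : IsAffineOpen V) {e : Γ(M, V)} (he : InvX.IsFrame e)
    (x : TO f j V) : (upN f s j t).app V (qN f j t hV e x) = qN f j (t + 1) hV e (coef s he • x) := by
  refine (KoszTw.tensorMap_tmul _ _ _ _ _).trans ?_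
  rw [up_app, coef_spec s he, InvX.tmul_smul_right, map_smul]
  exact InvX.tmul_smul_right _ _ _

/-- The presentation of twisted forms on the zero scheme. -/
def presCC (hM : PicF.IsInvertible M) (j t : ℕ) : Pres f s j (CC f s j t) where
  w := t + 2
  q {V} hV e _ :=
    ({ toFun := (cokernel.π (upN f s j t)).app V
       map_add' := map_add _
       map_smul' := (cokernel.π (upN f s j t)).app_smul } :
      Γ(N f (M := M) j (t + 1), V) →ₗ[Γ(X, V)] Γ(CC f s j t, V)).comp (qN f j (t + 1) hV e)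
  surj hV _ he :=
    ((cokernel_sections (isQCoh_N f hM j t) (isQCoh_N f hM j (t + 1)) (upN f s j t) hV).1).comp
      (qN_bijective f hM j (t + 1) hV he).2
  res {V W} hV hW e _ h x := by
    refine (app_rs (cokernel.π (upN f s j t)) h _).symm.trans ?_
    exact congrArg _ (qN_res f j (t + 1) hV hW e h x)
  scale {V} hV e _ u _ x := by
    show (cokernel.π (upN f s j t)).app V (InvX.tmul _ (fr (u • e) (t + 1))) = _
    rw [fr_smul, InvX.tmul_smul_right]
    exact (cokernel.π (upN f s j t)).app_smul _ _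
  coef_smul {V} hV e he x :=
    (congrArg ((cokernel.π (upN f s j t)).app V) (upN_qN f s j t hV he x).symm).trans
      congr(($(cokernel.condition (upN f s j t))).app V _)

theorem presCC_eq_zero_iff (j t : ℕ) {V : X.Opens} (hV : IsAffineOpen V) {e : Γ(M, V)} (he : InvX.IsFrame e)
    (x : TO f j V) : (presCC f s hM j t).q hV he x = 0 ↔ ∃ z, x = coef s he • z := by
  refine ⟨fun h => ?_, fun ⟨z, hz⟩ => hz ▸ (presCC f s hM j t).coef_smul hV he z⟩
  obtain ⟨a, ha⟩ :=
    ((cokernel_sections (isQCoh_N f hM j t) (isQCoh_N f hM j (t + 1)) (upN f s j t) hV).2 _).1 h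
  obtain ⟨z, rfl⟩ := (qN_bijective f hM j t hV he).2 a
  rw [upN_qN f s j t hV he] at ha
  exact ⟨z, ((qN_bijective f hM j (t + 1) hV he).1 ha).symm⟩

end Coker

section Restr

variable (f s) (I : X.IdealSheafData) [QuasiSeparated (I.subschemeι ≫ f)] {b : ℕ}
  (OmY : I.subscheme.Modules)
  (φY : ∀ U : I.subscheme.affineOpens,
    Γ(OmY, U.1) ≃ₗ[Γ(I.subscheme, U.1)] ExtSheaf.T (Omega.sheaf (I.subschemeι ≫ f)) b U.1)

/-- The forms on the subscheme, pushed forward and twisted. -/
def K0 (M : X.Modules) : X.Modules := CohB1.tensorMod ((Coh.push I.subschemeι).obj OmY) M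

/-- Restriction of forms to the subscheme. -/
def restr {V : X.Opens} (hV : IsAffineOpen V) : TO f b V →+ Γ((Coh.push I.subschemeι).obj OmY, V) :=
  AddMonoidHom.comp
    (show ExtSheaf.T (Omega.sheaf (I.subschemeι ≫ f)) b (I.subschemeι ⁻¹ᵁ V) →+
        Γ((Coh.push I.subschemeι).obj OmY, V) from
      (φY ⟨_, hV.preimage I.subschemeι⟩).symm.toAddMonoidHom)
    (Wedge.semi (I.subschemeι.app V).hom (psi f I ⟨V, hV⟩) (psi_smul f I ⟨V, hV⟩) b)

theorem restr_apply {V : X.Opens} (hV : IsAffineOpen V) (x : TO f b V) :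
    restr f I OmY φY hV x = (φY ⟨_, hV.preimage I.subschemeι⟩).symm
      (Wedge.semi (I.subschemeι.app V).hom (psi f I ⟨V, hV⟩) (psi_smul f I ⟨V, hV⟩) b x) := rfl

theorem restr_smul {V : X.Opens} (hV : IsAffineOpen V) (a : Γ(X, V)) (x : TO f b V) :
    restr f I OmY φY hV (a • x) = a • restr f I OmY φY hV x := by
  refine Eq.trans ?_ (QCoh.pushforward_smul (M := OmY) I.subschemeι V a _).symm
  exact (congrArg _ (Wedge.semi_smul _ _ _ a x)).trans
    (map_smul (φY ⟨_, hV.preimage I.subschemeι⟩).symm _ _)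

/-- Restriction of forms to the subscheme, as a linear map. -/
def restrLin {V : X.Opens} (hV : IsAffineOpen V) :
    TO f b V →ₗ[Γ(X, V)] Γ((Coh.push I.subschemeι).obj OmY, V) where
  toFun := restr f I OmY φY hV
  map_add' := map_add _
  map_smul' := restr_smul f I OmY φY hV

/-- Restricted forms in a frame. -/
def qY {V : X.Opens} (hV : IsAffineOpen V) (e : Γ(M, V)) : TO f b V →ₗ[Γ(X, V)] Γ(K0 I OmY M, V) :=
  (tmulRight ((Coh.push I.subschemeι).obj OmY) e).comp (restrLin f I OmY φY hV)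

theorem ideal_app_eq_zero {V : X.Opens} (hV : IsAffineOpen V) {g : Γ(X, V)}
    (hg : I.ideal ⟨V, hV⟩ = Ideal.span {g}) : (I.subschemeι.app V).hom g = 0 := by
  have h : g ∈ RingHom.ker (I.subschemeι.app V).hom := by
    rw [I.ker_subschemeι_app ⟨V, hV⟩, hg]; exact Ideal.mem_span_singleton_self g
  exact h

theorem restrLin_surjective {V : X.Opens} (hV : IsAffineOpen V) :
    Function.Surjective (restrLin f I OmY φY hV) := fun y => by
  obtain ⟨x, hx⟩ := Wedge.semi_surjective (p := b) (I.subschemeι.app V).hom (I.subschemeι_app_surjective ⟨V, hV⟩)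
    (psi f I ⟨V, hV⟩) (psi_smul f I ⟨V, hV⟩) (psi_surjective f I ⟨V, hV⟩)
    ((φY ⟨_, hV.preimage I.subschemeι⟩) y)
  exact ⟨x, (restr_apply f I OmY φY hV x).trans ((congrArg _ hx).trans (LinearEquiv.symm_apply_apply _ _))⟩

theorem restr_eq_zero_iff [Smooth f] [Smooth (I.subschemeι ≫ f)] {V : X.Opens} (hV : IsAffineOpen V)
    {g : Γ(X, V)} (hg : I.ideal ⟨V, hV⟩ = Ideal.span {g}) (hreg : ∀ a, g * a = 0 → a = 0) (x : TO f b V) :
    restrLin f I OmY φY hV x = 0 ↔
      ∃ z, Wedge.wedge ((OmegaSh.dOmega f).app V g) b x = g • z := by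
  obtain ⟨φ, c, hφ⟩ := exists_dual_d f I ⟨V, hV⟩ hg hreg
  rw [show restrLin f I OmY φY hV x = restr f I OmY φY hV x from rfl, restr_apply]
  refine (map_eq_zero_iff _ (φY ⟨_, hV.preimage I.subschemeι⟩).symm.injective).trans ?_
  exact Wedge.semi_eq_zero_iff (I.subschemeι.app V).hom (I.subschemeι_app_surjective ⟨V, hV⟩)
    ((I.ker_subschemeι_app ⟨V, hV⟩).trans hg) (psi f I ⟨V, hV⟩) (psi_smul f I ⟨V, hV⟩)
    (psi_surjective f I ⟨V, hV⟩) (psi_eq_zero_iff f I ⟨V, hV⟩ hg) hφ x

variable (hφY : ∀ (U V : I.subscheme.affineOpens) (h : V.1 ≤ U.1)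
  (e : Fin b → Γ(Omega.sheaf (I.subschemeι ≫ f), U.1)),
  rs OmY h ((φY U).symm (ιMulti _ b e)) =
    (φY V).symm (ιMulti _ b fun i => rs (Omega.sheaf (I.subschemeι ≫ f)) h (e i)))

include hφY in
theorem isQCoh_push : Coh.IsQCoh ((Coh.push I.subschemeι).obj OmY) :=
  QCoh.isQCoh_pushforward I.subschemeι
    (isQCoh_of_isExtPow (E := Omega.sheaf (I.subschemeι ≫ f)) (L := OmY) (isQCoh_omega _) b ⟨φY, hφY⟩)

include hφY in
theorem restr_res {V W : X.Opens} (hV : IsAffineOpen V) (hW : IsAffineOpen W) (h : W ≤ V) (x : TO f b V) :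
    rs ((Coh.push I.subschemeι).obj OmY) h (restrLin f I OmY φY hV x) =
      restrLin f I OmY φY hW (ExtSheaf.r (Omega.sheaf f) b h x) := by
  induction x using Wedge.induct with
  | h0 => simp only [map_zero]
  | hadd x y hx hy => simp only [map_add, hx, hy]
  | hgen a v =>
    rw [map_smul, rs_smul, ExtSheaf.r_smul, map_smul]
    refine congrArg (_ • ·) ?_
    rw [ExtSheaf.r_ιMulti]
    show rs _ h (restr f I OmY φY hV _) = restr f I OmY φY hW _
    rw [restr_apply, restr_apply, Wedge.semi_ιMulti, Wedge.semi_ιMulti]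
    refine (hφY ⟨_, hV.preimage I.subschemeι⟩ ⟨_, hW.preimage I.subschemeι⟩
      ((Opens.map I.subschemeι.base).map (homOfLE h)).le _).trans ?_
    exact congrArg _ (congrArg _ (funext fun i => (psi_res f I ⟨V, hV⟩ ⟨W, hW⟩ h (v i)).symm))

include hφY in
theorem isQCoh_K0 (hM : PicF.IsInvertible M) : Coh.IsQCoh (K0 I OmY M) :=
  KFlatLib.isQCoh_tensor (M := (Coh.push I.subschemeι).obj OmY) (N := M) (isQCoh_push f I OmY φY hφY)
    (ZeroSchX.isQCoh_inv hM)

/-- The presentation of the forms on the subscheme. -/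
def presK0 (hM : PicF.IsInvertible M)
    (hI : ∀ {V : X.Opens} (hV : IsAffineOpen V) {e : Γ(M, V)} (he : InvX.IsFrame e),
      I.ideal ⟨V, hV⟩ = Ideal.span {coef s he}) : Pres f s b (K0 I OmY M) where
  w := 1
  q {V} hV e _ := qY f I OmY φY hV e
  surj hV _ he :=
    ((bijective_tmul_frame (isQCoh_push f I OmY φY hφY) (ZeroSchX.isQCoh_inv hM) hV he).2).comp
      (restrLin_surjective f I OmY φY hV)
  res {V W} hV hW e _ h x := by
    refine (InvX.res_tmul h (restrLin f I OmY φY hV x) e).trans ?_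
    exact congrArg (fun z => InvX.tmul z (rs M h e)) (restr_res f I OmY φY hφY hV hW h x)
  scale {V} hV e _ u _ x := (InvX.tmul_smul_right u (restrLin f I OmY φY hV x) e).trans (by rw [pow_one]; rfl)
  coef_smul {V} hV e he x := by
    refine (congrArg (fun z => InvX.tmul z e) (restr_smul f I OmY φY hV (coef s he) x)).trans ?_
    refine (congrArg (fun z => InvX.tmul z e) ?_).trans (tmul_zero_left e)
    refine (QCoh.pushforward_smul (M := OmY) I.subschemeι V _ _).trans ?_
    rw [ideal_app_eq_zero I hV (hI hV he)]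
    exact (zero_smul Γ(I.subscheme, I.subschemeι ⁻¹ᵁ V) (show Γ(OmY, I.subschemeι ⁻¹ᵁ V) from restr f I OmY φY hV x) :)

theorem presK0_eq_zero_iff [Smooth f] [Smooth (I.subschemeι ≫ f)] [Mono s] (hM : PicF.IsInvertible M)
    (hI : ∀ {V : X.Opens} (hV : IsAffineOpen V) {e : Γ(M, V)} (he : InvX.IsFrame e),
      I.ideal ⟨V, hV⟩ = Ideal.span {coef s he})
    {V : X.Opens} (hV : IsAffineOpen V) {e : Γ(M, V)} (he : InvX.IsFrame e) (x : TO f b V) :
    (presK0 f s I OmY φY hφY hM hI).q hV he x = 0 ↔ ∃ z, dwedge f s he b x = coef s he • z := by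
  refine Iff.trans ?_ (restr_eq_zero_iff f I OmY φY hV (hI hV he) (coef_regular s he) x)
  exact (bijective_tmul_frame (isQCoh_push f I OmY φY hφY) (ZeroSchX.isQCoh_inv hM) hV he).1.eq_iff'
    (tmul_zero_left e)

end Restr

end Groth.Agent.DRHyp.Hyp
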