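import Groth.Agent.OmegaUniv.ToSectIso
import Groth.Agent.Synt29.DRGen
import Groth.Prelude.Def_DeRham2
import Groth.Prelude.Def_Coh
import Groth.Prelude.Def_KLinDR

/-!
# The de Rham complex on an affine open of a scheme over an affine base

For `f : X ⟶ Spec R` and an affine open `U`, sections of the terms of a de Rham complex are the
exterior powers of `Ω[Γ(X, U)⁄R]` and the differential is the de Rham differential.
-/

set_option autoImplicit false

universe u

open CategoryTheory AlgebraicGeometry Opposite TopologicalSpace exteriorPower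

namespace Groth.Agent.DRHyp

/-- An isomorphism of modules on exterior powers. -/
noncomputable def extMapEquiv {A M N : Type u} [CommRing A] [AddCommGroup M] [Module A M]
    [AddCommGroup N] [Module A N] (p : ℕ) (e : M ≃ₗ[A] N) : ↥(⋀[A]^p M) ≃ₗ[A] ↥(⋀[A]^p N) :=
  LinearEquiv.ofLinearMap (exteriorPower.map p e.toLinearMap) (exteriorPower.map p e.symm.toLinearMap)
    (by rw [← exteriorPower.map_comp]; simp)
    (by rw [← exteriorPower.map_comp]; simp)

lemma extMapEquiv_ιMulti {A M N : Type u} [CommRing A] [AddCommGroup M] [Module A M]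
    [AddCommGroup N] [Module A N] (p : ℕ) (e : M ≃ₗ[A] N) (v : Fin p → M) :
    extMapEquiv p e (ιMulti A p v) = ιMulti A p (fun i => e (v i)) :=
  exteriorPower.map_apply_ιMulti e.toLinearMap v

variable {R : Type u} [CommRing R] {X : Scheme.{u}} (f : X ⟶ Spec (CommRingCat.of R)) (U : X.Opens)

/-- The constants as functions on an open. -/
noncomputable def constHom : R →+* Γ(X, U) :=
  (f.appLE ⊤ U le_top).hom.comp (OmAff.toΓ R)

/-- Constants as an algebra structure; not an instance. -/
@[reducible] noncomputable def kAlg : Algebra R Γ(X, U) := (constHom f U).toAlgebra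

lemma constHom_eq (r : R) : constHom f U r = Coh.resTop X (op U) (Coh.toGlobal f r) := by
  rfl

lemma constHom_res {V : X.Opens} (h : V ≤ U) (r : R) :
    X.presheaf.map (homOfLE h).op (constHom f U r) = constHom f V r := by
  exact ConcreteCategory.congr_hom
    (f.appLE_map (U := ⊤) (show U ≤ f ⁻¹ᵁ ⊤ from le_top) (homOfLE h).op) (OmAff.toΓ R r)

variable [QuasiSeparated f]

/-- The derivation of the sheaf of differentials over an open, relative to the constants. -/
noncomputable def secDer :
    letI := kAlg f U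
    letI : Module R Γ(Omega.sheaf f, U) := Module.compHom _ (constHom f U)
    Derivation R Γ(X, U) Γ(Omega.sheaf f, U) :=
  letI := kAlg f U
  letI : Module R Γ(Omega.sheaf f, U) := Module.compHom _ (constHom f U)
  Derivation.mk'
    { toFun := fun b => (OmegaSh.dOmega f).app U b
      map_add' := fun b b' => map_add _ b b'
      map_smul' := fun r b => by
        show (OmegaSh.dOmega f).app U (constHom f U r * b) =
          constHom f U r • (OmegaSh.dOmega f).app U b
        rw [Synt29.OmegaStalk.app_mul]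
        have h0 : (OmegaSh.dOmega f).app U (constHom f U r) = 0 :=
          OmAff.dSect_appLE f ⊤ U le_top _
        rw [h0, smul_zero, add_zero] }
    fun a b => Synt29.OmegaStalk.app_mul _ (OmegaSh.dOmega f) U a b

/-- The comparison map from Kähler differentials to sections of the sheaf of differentials. -/
noncomputable def toOmega :
    letI := kAlg f U
    Ω[Γ(X, U)⁄R] →ₗ[Γ(X, U)] Γ(Omega.sheaf f, U) :=
  letI := kAlg f U
  letI : Module R Γ(Omega.sheaf f, U) := Module.compHom _ (constHom f U)
  haveI : IsScalarTower R Γ(X, U) Γ(Omega.sheaf f, U) :=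
    IsScalarTower.of_algebraMap_smul fun _ _ => rfl
  (secDer f U).liftKaehlerDifferential

lemma toOmega_D (b : Γ(X, U)) :
    letI := kAlg f U
    toOmega f U (KaehlerDifferential.D R Γ(X, U) b) = (OmegaSh.dOmega f).app U b :=
  letI := kAlg f U
  letI : Module R Γ(Omega.sheaf f, U) := Module.compHom _ (constHom f U)
  haveI : IsScalarTower R Γ(X, U) Γ(Omega.sheaf f, U) :=
    IsScalarTower.of_algebraMap_smul fun _ _ => rfl
  (secDer f U).liftKaehlerDifferential_comp_D b

variable {U}

theorem toOmega_bijective (hU : IsAffineOpen U) : Function.Bijective (toOmega f U) := by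
  let B := Γ(X, U)
  let S := Γ(Spec (CommRingCat.of R), ⊤)
  let _ : Algebra R B := kAlg f U
  let _ : Algebra S B := (f.appLE ⊤ U le_top).hom.toAlgebra
  obtain ⟨ψ, hsm, hd⟩ := OmegaUniv.exists_retraction f hU (isAffineOpen_top _) (le_top : U ≤ f ⁻¹ᵁ ⊤)
  let M := Ω[B⁄R]
  let _ : Module S M := Module.compHom M (algebraMap S B)
  have : IsScalarTower S B M := IsScalarTower.of_algebraMap_smul fun _ _ => rfl
  have hS : ∀ s : S, KaehlerDifferential.D R B (algebraMap S B s) = 0 := fun s => by
    obtain ⟨r, rfl⟩ := (ConcreteCategory.bijective_of_isIso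
      (Scheme.ΓSpecIso (CommRingCat.of R)).inv).2 s
    exact Derivation.map_algebraMap (KaehlerDifferential.D R B) r
  let δ : Derivation S B M := Derivation.mk'
    { toFun := fun b => (KaehlerDifferential.D R B b : M)
      map_add' := fun b b' => map_add _ b b'
      map_smul' := fun s b => by
        show (KaehlerDifferential.D R B (s • b) : Ω[B⁄R]) = algebraMap S B s • KaehlerDifferential.D R B b
        rw [Algebra.smul_def, Derivation.leibniz, hS, smul_zero, add_zero] }
    fun a b => (KaehlerDifferential.D R B).leibniz a b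
  have hgen : ∀ z : Ω[B⁄R], z ∈ Submodule.span B (Set.range (KaehlerDifferential.D R B)) :=
    fun z => by rw [KaehlerDifferential.span_range_derivation]; trivial
  let φ : Ω[B⁄S] →ₗ[B] M := @Derivation.liftKaehlerDifferential S B _ _ _ M _ _ _
    (IsScalarTower.of_algebraMap_smul fun _ _ => rfl) δ
  constructor
  · refine Function.LeftInverse.injective
      (g := fun m => φ (ψ m)) fun z => ?_
    induction hgen z using Submodule.span_induction with
    | mem y hy =>
      obtain ⟨b, rfl⟩ := hy
      rw [toOmega_D]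
      exact (congrArg φ (hd b)).trans (@Derivation.liftKaehlerDifferential_comp_D S B _ _ _ M _ _ _
        (IsScalarTower.of_algebraMap_smul fun _ _ => rfl) δ b)
    | zero => simp only [map_zero]
    | add y y' _ _ h h' => simp only [map_add, h, h']
    | smul r y _ h => simp only [map_smul, hsm, h]
  · intro m
    have hm := (OmegaUniv.good_of_affine f hU (isAffineOpen_top _) (le_top : U ≤ f ⁻¹ᵁ ⊤)).1 m
    induction hm using Submodule.span_induction with
    | mem y hy =>
      obtain ⟨b, rfl⟩ := hy
      exact ⟨_, toOmega_D f U b⟩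
    | zero => exact ⟨0, map_zero _⟩
    | add y y' _ _ h h' =>
      obtain ⟨a, rfl⟩ := h
      obtain ⟨a', rfl⟩ := h'
      exact ⟨a + a', map_add _ a a'⟩
    | smul r y _ h =>
      obtain ⟨a, rfl⟩ := h
      exact ⟨r • a, map_smul _ r a⟩

/-- Sections of the sheaf of differentials over an affine open are the Kähler differentials. -/
noncomputable def omegaEquiv (hU : IsAffineOpen U) :
    letI := kAlg f U
    Ω[Γ(X, U)⁄R] ≃ₗ[Γ(X, U)] Γ(Omega.sheaf f, U) :=
  letI := kAlg f U
  LinearEquiv.ofBijective (toOmega f U) (toOmega_bijective f hU)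

variable {f} (D : DeRhamSh.OmegaCx f)

/-- Sections of a term of a de Rham complex over an affine open are forms. -/
noncomputable def formEquiv (p : ℕ) (hU : IsAffineOpen U) :
    letI := kAlg f U
    ↥(⋀[Γ(X, U)]^p (Ω[Γ(X, U)⁄R])) ≃ₗ[Γ(X, U)] Γ(D.term p, U) :=
  letI := kAlg f U
  (extMapEquiv p (omegaEquiv f hU)).trans (D.loc p ⟨U, hU⟩).symm

lemma formEquiv_gen (p : ℕ) (hU : IsAffineOpen U) (b₀ : Γ(X, U)) (b : Fin p → Γ(X, U)) :
    letI := kAlg f U
    formEquiv D p hU (DeRham.gen (KaehlerDifferential.D R Γ(X, U)) p b₀ b) =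
      (D.loc p ⟨U, hU⟩).symm (b₀ • ιMulti _ p (fun i => (OmegaSh.dOmega f).app U (b i))) := by
  let _ := kAlg f U
  simp only [DeRham.gen, formEquiv, LinearEquiv.trans_apply, map_smul, extMapEquiv_ιMulti]
  congr 1
  exact congrArg _ (congrArg (ιMulti _ p) (funext fun i => toOmega_D f U (b i)))

/-- Forms as sections of the complex. -/
noncomputable def secForm (p : ℕ) (hU : IsAffineOpen U) :
    letI := kAlg f U
    ↥(⋀[Γ(X, U)]^p (Ω[Γ(X, U)⁄R])) ≃+ (D.K.X p).obj.obj (op U) :=
  letI := kAlg f U
  (formEquiv D p hU).toAddEquiv.trans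
    { toFun := fun s => (D.iso p).inv.hom.app (op U) s
      invFun := fun s => (D.iso p).hom.hom.app (op U) s
      left_inv := fun s => congr($((D.iso p).inv_hom_id).hom.app (op U) s)
      right_inv := fun s => congr($((D.iso p).hom_inv_id).hom.app (op U) s)
      map_add' := fun s t => map_add _ s t }

lemma secForm_const_smul (p : ℕ) (hU : IsAffineOpen U) (r : R) :
    letI := kAlg f U
    ∀ z : ↥(⋀[Γ(X, U)]^p (Ω[Γ(X, U)⁄R])), secForm D p hU (r • z) =
      (KLinDR.scalarEnd (Coh.toGlobal f) D.term D.iso r p).hom.app (op U) (secForm D p hU z) := by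
  let _ := kAlg f U
  intro z
  show (D.iso p).inv.hom.app (op U) (formEquiv D p hU (r • z)) = (D.iso p).inv.hom.app (op U)
    ((Coh.smulAb (D.term p) (Coh.toGlobal f r)).hom.app (op U)
      ((D.iso p).hom.hom.app (op U) ((D.iso p).inv.hom.app (op U) (formEquiv D p hU z))))
  have h : (D.iso p).hom.hom.app (op U) ((D.iso p).inv.hom.app (op U) (formEquiv D p hU z)) =
      formEquiv D p hU z := congr($((D.iso p).inv_hom_id).hom.app (op U) _)
  rw [h, show r • z = constHom f U r • z from (algebraMap_smul Γ(X, U) r z).symm, map_smul,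
    constHom_eq]
  rfl

/-- The differential of the complex read on forms. -/
noncomputable def formD (p : ℕ) (hU : IsAffineOpen U) :
    letI := kAlg f U
    ↥(⋀[Γ(X, U)]^p (Ω[Γ(X, U)⁄R])) →+ ↥(⋀[Γ(X, U)]^(p + 1) (Ω[Γ(X, U)⁄R])) :=
  letI := kAlg f U
  (secForm D (p + 1) hU).symm.toAddMonoidHom.comp
    (((D.K.d p (p + 1)).hom.app (op U)).hom.comp (secForm D p hU).toAddMonoidHom)

lemma secForm_formD (p : ℕ) (hU : IsAffineOpen U) :
    letI := kAlg f U
    ∀ z : ↥(⋀[Γ(X, U)]^p (Ω[Γ(X, U)⁄R])), secForm D (p + 1) hU (formD D p hU z) =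
      (D.K.d p (p + 1)).hom.app (op U) (secForm D p hU z) :=
  fun _ => AddEquiv.apply_symm_apply _ _

lemma formD_gen (p : ℕ) (hU : IsAffineOpen U) (b₀ : Γ(X, U)) (b : Fin p → Γ(X, U)) :
    letI := kAlg f U
    formD D p hU (DeRham.gen (KaehlerDifferential.D R Γ(X, U)) p b₀ b) =
      ιMulti _ (p + 1) (Fin.cons (KaehlerDifferential.D R Γ(X, U) b₀)
        (fun i => KaehlerDifferential.D R Γ(X, U) (b i))) := by
  let _ := kAlg f U
  apply (secForm D (p + 1) hU).injective
  rw [secForm_formD]
  show (D.K.d p (p + 1)).hom.app (op U) ((D.iso p).inv.hom.app (op U) (formEquiv D p hU _)) =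
    (D.iso (p + 1)).inv.hom.app (op U) (formEquiv D (p + 1) hU _)
  rw [formEquiv_gen]
  refine (D.rule p ⟨U, hU⟩ b₀ b).trans (congrArg _ ?_)
  simp only [formEquiv, LinearEquiv.trans_apply, extMapEquiv_ιMulti]
  refine congrArg _ (congrArg (ιMulti _ (p + 1)) (funext fun i => ?_))
  refine Fin.cases ?_ (fun j => ?_) i
  · exact (toOmega_D f U b₀).symm
  · exact (toOmega_D f U (b j)).symm

/-- The de Rham differential on forms over an affine open. -/
noncomputable def formDLin (p : ℕ) (hU : IsAffineOpen U) :
    letI := kAlg f U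
    ↥(⋀[Γ(X, U)]^p (Ω[Γ(X, U)⁄R])) →ₗ[R] ↥(⋀[Γ(X, U)]^(p + 1) (Ω[Γ(X, U)⁄R])) :=
  letI := kAlg f U
  { formD D p hU with
    map_smul' := fun r z => by
      show formD D p hU (r • z) = r • formD D p hU z
      refine Synt29.DRGen.gen_induction (KaehlerDifferential.D R Γ(X, U))
        (KaehlerDifferential.span_range_derivation R Γ(X, U))
        (P := fun z => formD D p hU (r • z) = r • formD D p hU z) (by simp)
        (fun x y hx hy => by simp only [smul_add, map_add, hx, hy]) (fun b₀ b => ?_) z
      rw [formD_gen, show r • DeRham.gen (KaehlerDifferential.D R Γ(X, U)) p b₀ b =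
        DeRham.gen (KaehlerDifferential.D R Γ(X, U)) p (r • b₀) b from (smul_assoc r b₀ _).symm,
        formD_gen, Derivation.map_smul]
      rw [← algebraMap_smul Γ(X, U) r (KaehlerDifferential.D R Γ(X, U) b₀)]
      conv_lhs => rw [← Fin.update_cons_zero (α := fun _ => Ω[Γ(X, U)⁄R])
        (x := KaehlerDifferential.D R Γ(X, U) b₀)]
      rw [AlternatingMap.map_update_smul, Fin.update_cons_zero, algebraMap_smul] }

lemma formDLin_isRule (hU : IsAffineOpen U) :
    letI := kAlg f U
    DeRham.IsRule (KaehlerDifferential.D R Γ(X, U)) (fun p => formDLin D p hU) :=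
  fun p b₀ b => formD_gen D p hU b₀ b

end Groth.Agent.DRHyp
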