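import Groth.Agent.Synt29.ExtBC
import Mathlib.LinearAlgebra.CliffordAlgebra.Contraction
import Mathlib.LinearAlgebra.Alternating.Curry
import Mathlib.RingTheory.TensorProduct.Quotient

/-!
# Wedging with an element which is unimodular modulo a function
-/

set_option autoImplicit false

universe u

open exteriorPower TensorProduct

namespace Groth.Agent.DRHyp.Wedge

variable {A B M N : Type u} [CommRing A] [CommRing B] [AddCommGroup M] [Module A M]
  [AddCommGroup N] [Module B N] {p : ℕ}

/-- Decomposable elements generate an exterior power. -/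
theorem induct {P : ↥(⋀[A]^p M) → Prop} (h0 : P 0) (hadd : ∀ x y, P x → P y → P (x + y))
    (hgen : ∀ (a : A) (v : Fin p → M), P (a • ιMulti A p v)) (x : ↥(⋀[A]^p M)) : P x := by
  have key : ∀ x : ↥(⋀[A]^p M), ∀ a : A, P (a • x) := fun x => by
    have hx : x ∈ Submodule.span A (Set.range (ιMulti A p (M := M))) := by rw [ιMulti_span]; trivial
    induction hx using Submodule.span_induction with
    | mem y hy => obtain ⟨v, rfl⟩ := hy; exact fun a => hgen a v
    | zero => intro a; rwa [smul_zero]
    | add y z _ _ hy hz => intro a; rw [smul_add]; exact hadd _ _ (hy a) (hz a)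
    | smul c y _ hy => intro a; rw [smul_smul]; exact hy _
  simpa using key x 1

theorem exists_semi (σ : A →+* B) (f : M →+ N) (hf : ∀ (a : A) (m : M), f (a • m) = σ a • f m) (p : ℕ) :
    ∃ F : ↥(⋀[A]^p M) →+ ↥(⋀[B]^p N), (∀ (a : A) (x : ↥(⋀[A]^p M)), F (a • x) = σ a • F x) ∧
      ∀ v, F (ιMulti A p v) = ιMulti B p (fun i => f (v i)) := by
  let _ : Module A N := Module.compHom N σ
  let _ : Algebra A B := σ.toAlgebra
  haveI : IsScalarTower A B N := IsScalarTower.of_algebraMap_smul fun _ _ => rfl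
  let g : M →ₗ[A] N := { toFun := f, map_add' := map_add f, map_smul' := hf }
  let F := alternatingMapLinearEquiv
    (({ (ιMulti B p (M := N)).toMultilinearMap.restrictScalars A with
        map_eq_zero_of_eq' := (ιMulti B p (M := N)).map_eq_zero_of_eq' } :
      N [⋀^Fin p]→ₗ[A] ↥(⋀[B]^p N)).compLinearMap g)
  refine ⟨F.toAddMonoidHom, fun a x => ?_, fun v => alternatingMapLinearEquiv_apply_ιMulti _ _⟩
  show F (a • x) = σ a • F x
  rw [map_smul, ← algebraMap_smul B a (F x)]
  rfl

/-- The map of exterior powers along a semilinear map. -/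
noncomputable def semi (σ : A →+* B) (f : M →+ N) (hf : ∀ (a : A) (m : M), f (a • m) = σ a • f m) (p : ℕ) :
    ↥(⋀[A]^p M) →+ ↥(⋀[B]^p N) :=
  (exists_semi σ f hf p).choose

theorem semi_smul (σ : A →+* B) (f : M →+ N) (hf : ∀ (a : A) (m : M), f (a • m) = σ a • f m)
    (a : A) (x : ↥(⋀[A]^p M)) : semi σ f hf p (a • x) = σ a • semi σ f hf p x :=
  (exists_semi σ f hf p).choose_spec.1 a x

@[simp] theorem semi_ιMulti (σ : A →+* B) (f : M →+ N) (hf : ∀ (a : A) (m : M), f (a • m) = σ a • f m)
    (v : Fin p → M) : semi σ f hf p (ιMulti A p v) = ιMulti B p (fun i => f (v i)) :=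
  (exists_semi σ f hf p).choose_spec.2 v

theorem semi_surjective (σ : A →+* B) (hσ : Function.Surjective σ) (f : M →+ N)
    (hf : ∀ (a : A) (m : M), f (a • m) = σ a • f m) (hs : Function.Surjective f) :
    Function.Surjective (semi σ f hf p) := fun y => by
  induction y using induct with
  | h0 => exact ⟨0, map_zero _⟩
  | hadd a b ha hb =>
    obtain ⟨x, rfl⟩ := ha
    obtain ⟨x', rfl⟩ := hb
    exact ⟨x + x', map_add _ _ _⟩
  | hgen b v =>
    obtain ⟨a, rfl⟩ := hσ b
    choose w hw using fun i => hs (v i)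
    exact ⟨a • ιMulti A p w, by simp only [semi_smul, semi_ιMulti, hw]⟩

/-- Wedging with an element. -/
noncomputable def wedge (v : M) (p : ℕ) : ↥(⋀[A]^p M) →ₗ[A] ↥(⋀[A]^(p + 1) M) :=
  alternatingMapLinearEquiv ((ιMulti A (p + 1)).curryLeft v)

@[simp] theorem wedge_ιMulti (v : M) (w : Fin p → M) :
    wedge v p (ιMulti A p w) = ιMulti A (p + 1) (Matrix.vecCons v w) :=
  alternatingMapLinearEquiv_apply_ιMulti _ _

theorem wedge_add_left (v v' : M) (x : ↥(⋀[A]^p M)) :
    wedge (v + v') p x = wedge v p x + wedge v' p x := by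
  simp only [wedge, map_add, LinearMap.add_apply]

theorem wedge_smul_left (a : A) (v : M) (x : ↥(⋀[A]^p M)) : wedge (a • v) p x = a • wedge v p x := by
  simp only [wedge, map_smul, LinearMap.smul_apply]

theorem coe_wedge (v : M) (x : ↥(⋀[A]^p M)) :
    ((wedge v p x : ↥(⋀[A]^(p + 1) M)) : ExteriorAlgebra A M) = ExteriorAlgebra.ι A v * x := by
  induction x using induct with
  | h0 => simp
  | hadd x y hx hy => simp only [map_add, Submodule.coe_add, mul_add, hx, hy]
  | hgen a w =>
    simp only [map_smul, Submodule.coe_smul, wedge_ιMulti, ιMulti_apply_coe, mul_smul_comm,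
      ExteriorAlgebra.ιMulti_succ_apply, Matrix.cons_val_zero, Matrix.vecTail]
    rfl

theorem wedge_wedge_self (v : M) (x : ↥(⋀[A]^p M)) : wedge v (p + 1) (wedge v p x) = 0 := by
  refine Subtype.ext ?_
  rw [coe_wedge, coe_wedge, ← mul_assoc, ExteriorAlgebra.ι_sq_zero, zero_mul]
  rfl

theorem contractLeft_mem (φ : Module.Dual A M) : ∀ (p : ℕ) (x : ↥(⋀[A]^(p + 1) M)),
    CliffordAlgebra.contractLeft (Q := (0 : QuadraticForm A M)) φ (x : ExteriorAlgebra A M) ∈ ⋀[A]^p M := by
  intro p
  induction p with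
  | zero =>
    intro x
    induction x using induct with
    | h0 => rw [Submodule.coe_zero, map_zero]; exact zero_mem _
    | hadd x y hx hy => rw [Submodule.coe_add, map_add]; exact add_mem hx hy
    | hgen a w =>
      rw [Submodule.coe_smul, map_smul, ιMulti_apply_coe, ExteriorAlgebra.ιMulti_succ_apply,
        ExteriorAlgebra.ιMulti_zero_apply, CliffordAlgebra.contractLeft_ι_mul,
        CliffordAlgebra.contractLeft_one, mul_zero, sub_zero]
      refine Submodule.smul_mem _ _ (Submodule.smul_mem _ _ ?_)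
      exact (ExteriorAlgebra.ιMulti_zero_apply (R := A) (M := M) Fin.elim0) ▸ (ιMulti A 0 Fin.elim0).2
  | succ p ih =>
    intro x
    induction x using induct with
    | h0 => rw [Submodule.coe_zero, map_zero]; exact zero_mem _
    | hadd x y hx hy => rw [Submodule.coe_add, map_add]; exact add_mem hx hy
    | hgen a w =>
      rw [Submodule.coe_smul, map_smul, ιMulti_apply_coe, ExteriorAlgebra.ιMulti_succ_apply,
        CliffordAlgebra.contractLeft_ι_mul]
      refine Submodule.smul_mem _ _ (sub_mem (Submodule.smul_mem _ _ (ιMulti A (p + 1) _).2) ?_)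
      have := ih (ιMulti A (p + 1) (Matrix.vecTail w))
      rw [ιMulti_apply_coe] at this
      have h := (wedge (w 0) p ⟨_, this⟩).2
      rwa [coe_wedge] at h

/-- Contraction with a linear form. -/
noncomputable def contr (φ : Module.Dual A M) (p : ℕ) : ↥(⋀[A]^(p + 1) M) →ₗ[A] ↥(⋀[A]^p M) :=
  ((CliffordAlgebra.contractLeft (Q := (0 : QuadraticForm A M)) φ).comp
    (⋀[A]^(p + 1) M).subtype).codRestrict _ (contractLeft_mem φ p)

theorem contr_wedge (φ : Module.Dual A M) (v : M) (x : ↥(⋀[A]^(p + 1) M)) :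
    contr φ (p + 1) (wedge v (p + 1) x) = φ v • x - wedge v p (contr φ p x) := by
  refine Subtype.ext ?_
  rw [Submodule.coe_sub, Submodule.coe_smul, coe_wedge]
  show CliffordAlgebra.contractLeft (Q := (0 : QuadraticForm A M)) φ
    ((wedge v (p + 1) x : ↥(⋀[A]^(p + 2) M)) : ExteriorAlgebra A M) = _
  rw [coe_wedge, CliffordAlgebra.contractLeft_ι_mul]
  rfl

theorem contr_wedge_zero (φ : Module.Dual A M) (v : M) (x : ↥(⋀[A]^0 M)) :
    contr φ 0 (wedge v 0 x) = φ v • x := by
  refine Subtype.ext ?_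
  induction x using induct with
  | h0 => simp
  | hadd x y hx hy => simp only [map_add, smul_add, Submodule.coe_add, hx, hy]
  | hgen a w =>
    rw [map_smul, map_smul, smul_comm (φ v) a, Submodule.coe_smul, Submodule.coe_smul]
    congr 1
    show CliffordAlgebra.contractLeft (Q := (0 : QuadraticForm A M)) φ
      ((wedge v 0 (ιMulti A 0 w) : ↥(⋀[A]^1 M)) : ExteriorAlgebra A M) = _
    rw [coe_wedge, CliffordAlgebra.contractLeft_ι_mul, ιMulti_apply_coe, ExteriorAlgebra.ιMulti_zero_apply,
      CliffordAlgebra.contractLeft_one, mul_zero, sub_zero, Submodule.coe_smul, ιMulti_apply_coe,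
      ExteriorAlgebra.ιMulti_zero_apply]

section Unimodular

variable {v : M} {φ : Module.Dual A M} {g c : A} (hφ : φ v = 1 + g * c)

include hφ in
/-- Exactness of wedging with `v`, modulo `g`. -/
theorem exists_of_wedge_eq {x : ↥(⋀[A]^(p + 1) M)} {z : ↥(⋀[A]^(p + 2) M)}
    (h : wedge v (p + 1) x = g • z) : ∃ y w, x = wedge v p y + g • w := by
  refine ⟨contr φ p x, contr φ (p + 1) z - c • x, ?_⟩
  have h1 := contr_wedge φ v x
  rw [h, map_smul, hφ, add_smul, one_smul, mul_smul] at h1
  rw [smul_sub, h1]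
  abel

include hφ in
/-- Injectivity of wedging with `v` in degree zero, modulo `g`. -/
theorem exists_of_wedge_eq_zero {x : ↥(⋀[A]^0 M)} {z : ↥(⋀[A]^1 M)} (h : wedge v 0 x = g • z) :
    ∃ w, x = g • w := by
  refine ⟨contr φ 0 z - c • x, ?_⟩
  have h1 := contr_wedge_zero φ v x
  rw [h, map_smul, hφ, add_smul, one_smul, mul_smul] at h1
  rw [smul_sub, h1]
  abel

end Unimodular

/-- Wedging with `v` only sees the arguments modulo `v`. -/
theorem wedge_map_sub_smulRight (φ : Module.Dual A M) (v : M) (x : ↥(⋀[A]^p M)) :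
    wedge v p (exteriorPower.map p (LinearMap.id - φ.smulRight v) x) = wedge v p x := by
  induction x using induct with
  | h0 => simp
  | hadd x y hx hy => simp only [map_add, hx, hy]
  | hgen a w =>
    simp only [map_smul]
    congr 1
    rw [map_apply_ιMulti]
    refine Subtype.ext ?_
    simp only [coe_wedge, ιMulti_apply_coe]
    clear a
    induction p with
    | zero => rw [ExteriorAlgebra.ιMulti_zero_apply, ExteriorAlgebra.ιMulti_zero_apply]
    | succ p ih =>
      have sw : ∀ (m : M) (r : ExteriorAlgebra A M), ExteriorAlgebra.ι A v * (ExteriorAlgebra.ι A m * r) =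
          -(ExteriorAlgebra.ι A m * (ExteriorAlgebra.ι A v * r)) := fun m r => by
        rw [← mul_assoc, ← mul_assoc, eq_neg_of_add_eq_zero_left (ExteriorAlgebra.ι_add_mul_swap v m), neg_mul]
      rw [ExteriorAlgebra.ιMulti_succ_apply, ExteriorAlgebra.ιMulti_succ_apply, sw, sw (w 0),
        show Matrix.vecTail ((LinearMap.id - φ.smulRight v : M →ₗ[A] M) ∘ w) =
          (LinearMap.id - φ.smulRight v : M →ₗ[A] M) ∘ Matrix.vecTail w from rfl, ih (Matrix.vecTail w)]
      simp only [Function.comp_apply, LinearMap.sub_apply, LinearMap.id_apply, LinearMap.smulRight_apply,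
        map_sub, map_smul, sub_mul, smul_mul_assoc]
      rw [← mul_assoc (ExteriorAlgebra.ι A v), ExteriorAlgebra.ι_sq_zero, zero_mul, smul_zero, sub_zero]

/-- The kernel of the exterior powers of a quotient by a unimodular element is killed by wedging with it. -/
theorem wedge_eq_zero_of_map_eq_zero {P : Type u} [AddCommGroup P] [Module A P] (q : M →ₗ[A] P)
    (hq : Function.Surjective q) (v : M) (φ : Module.Dual A M) (hφ : φ v = 1)
    (hker : ∀ m, q m = 0 → ∃ a : A, m = a • v) (x : ↥(⋀[A]^p M)) (hx : exteriorPower.map p q x = 0) :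
    wedge v p x = 0 := by
  let r : M →ₗ[A] M := LinearMap.id - φ.smulRight v
  have hr : LinearMap.ker q ≤ LinearMap.ker r := fun m hm => by
    obtain ⟨a, rfl⟩ := hker m hm
    simp [r, hφ]
  let s : P →ₗ[A] M := ((LinearMap.ker q).liftQ r hr) ∘ₗ (q.quotKerEquivOfSurjective hq).symm.toLinearMap
  have hs : s ∘ₗ q = r := by
    refine LinearMap.ext fun m => ?_
    show (LinearMap.ker q).liftQ r hr ((q.quotKerEquivOfSurjective hq).symm (q m)) = r m
    rw [show (q.quotKerEquivOfSurjective hq).symm (q m) = Submodule.Quotient.mk m from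
      (LinearEquiv.symm_apply_eq _).2 rfl]
    rfl
  have h1 := wedge_map_sub_smulRight φ v x
  rw [show (LinearMap.id - φ.smulRight v : M →ₗ[A] M) = s ∘ₗ q from hs.symm, exteriorPower.map_comp,
    LinearMap.comp_apply, hx, map_zero, map_zero] at h1
  exact h1.symm

/-- `1 ⊗ y = 0` along a surjection with principal kernel. -/
theorem exists_smul_of_tmul_eq_zero [Algebra A B] (hs : Function.Surjective (algebraMap A B)) {g : A}
    (hker : RingHom.ker (algebraMap A B) = Ideal.span {g}) {y : M}
    (hy : (1 : B) ⊗ₜ[A] y = 0) : ∃ z, y = g • z := by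
  let I := Ideal.span {g}
  let e : (A ⧸ I) ≃ₐ[A] B := (Ideal.quotientEquivAlgOfEq A (hker.symm : I = RingHom.ker (Algebra.ofId A B))).trans
    (Ideal.quotientKerAlgEquivOfSurjective (f := Algebra.ofId A B) hs)
  have h1 : TensorProduct.quotTensorEquivQuotSMul M I
      (TensorProduct.congr e.symm.toLinearEquiv (LinearEquiv.refl A M) ((1 : B) ⊗ₜ[A] y)) = 0 := by
    rw [hy, map_zero, map_zero]
  rw [TensorProduct.congr_tmul, AlgEquiv.toLinearEquiv_apply, map_one, LinearEquiv.refl_apply,
    ← map_one (Ideal.Quotient.mk I), TensorProduct.quotTensorEquivQuotSMul_mk_tmul, one_smul,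
    Submodule.Quotient.mk_eq_zero] at h1
  refine Submodule.smul_induction_on h1 (fun r hr n _ => ?_) fun a b ha hb => ?_
  · obtain ⟨t, rfl⟩ := Ideal.mem_span_singleton'.1 hr
    exact ⟨t • n, by rw [mul_comm, mul_smul]⟩
  · obtain ⟨z, rfl⟩ := ha
    obtain ⟨z', rfl⟩ := hb
    exact ⟨z + z', (smul_add _ _ _).symm⟩

section FirstMap

variable (σ : A →+* B) (hσ : Function.Surjective σ) {g : A} (hg : RingHom.ker σ = Ideal.span {g})
  (f : M →+ N) (hf : ∀ (a : A) (m : M), f (a • m) = σ a • f m) (hsurj : Function.Surjective f)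
  {v : M} (hker : ∀ m, f m = 0 ↔ ∃ (a : A) (z : M), m = a • v + g • z) {φ : Module.Dual A M} {c : A}
  (hφ : φ v = 1 + g * c)

include hσ hg hsurj hker hφ in
/-- The kernel of the map of forms to a hypersurface. -/
theorem semi_eq_zero_iff (x : ↥(⋀[A]^p M)) :
    semi σ f hf p x = 0 ↔ ∃ z, wedge v p x = g • z := by
  have hg0 : σ g = 0 := by
    rw [← RingHom.mem_ker, hg]; exact Ideal.mem_span_singleton_self g
  constructor
  · intro hx
    let _ : Algebra A B := σ.toAlgebra
    let _ : Module A N := Module.compHom N σ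
    haveI : IsScalarTower A B N := IsScalarTower.of_algebraMap_smul fun _ _ => rfl
    let fl : M →ₗ[A] N := { toFun := f, map_add' := map_add f, map_smul' := hf }
    let q : B ⊗[A] M →ₗ[B] N := fl.liftBaseChange B
    have hone : ∀ t : B ⊗[A] M, ∃ m, t = (1 : B) ⊗ₜ[A] m := fun t => by
      induction t using TensorProduct.induction_on with
      | zero => exact ⟨0, (TensorProduct.tmul_zero _ _).symm⟩
      | tmul b m =>
        obtain ⟨a, rfl⟩ := hσ b
        exact ⟨a • m, by rw [← TensorProduct.smul_tmul, Algebra.smul_def, mul_one]; rfl⟩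
      | add s t hs ht =>
        obtain ⟨m, rfl⟩ := hs
        obtain ⟨m', rfl⟩ := ht
        exact ⟨m + m', (TensorProduct.tmul_add _ _ _).symm⟩
    have hqm : ∀ m, q ((1 : B) ⊗ₜ[A] m) = f m := fun m => by simp [q, fl]
    let φB : Module.Dual B (B ⊗[A] M) := Module.Dual.baseChange B φ
    have hφB : φB ((1 : B) ⊗ₜ[A] v) = 1 := by
      simp only [φB, Module.Dual.baseChange_apply_tmul, hφ, Algebra.smul_def, mul_one]
      show σ (1 + g * c) = 1
      rw [map_add, map_one, map_mul, hg0, zero_mul, add_zero]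
    have hmap : ∀ y : ↥(⋀[A]^p M),
        exteriorPower.map p q (Synt29.ExtBC.fwd A B M p ((1 : B) ⊗ₜ[A] y)) = semi σ f hf p y := fun y => by
      induction y using induct with
      | h0 => simp
      | hadd a b ha hb => simp only [TensorProduct.tmul_add, map_add, ha, hb]
      | hgen a w =>
        rw [TensorProduct.tmul_smul, semi_smul, ← algebraMap_smul B a ((1 : B) ⊗ₜ[A] _), map_smul, map_smul]
        congr 1
        rw [Synt29.ExtBC.fwd_tmul, one_smul, map_apply_ιMulti, semi_ιMulti]
        exact congrArg _ (funext fun i => hqm (w i))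
    have hwedge : ∀ y : ↥(⋀[A]^p M), wedge ((1 : B) ⊗ₜ[A] v) p (Synt29.ExtBC.fwd A B M p ((1 : B) ⊗ₜ[A] y)) =
        Synt29.ExtBC.fwd A B M (p + 1) ((1 : B) ⊗ₜ[A] wedge v p y) := fun y => by
      induction y using induct with
      | h0 => simp
      | hadd a b ha hb => simp only [TensorProduct.tmul_add, map_add, ha, hb]
      | hgen a w =>
        rw [TensorProduct.tmul_smul, map_smul (wedge v p), TensorProduct.tmul_smul,
          ← algebraMap_smul B a ((1 : B) ⊗ₜ[A] _), ← algebraMap_smul B a ((1 : B) ⊗ₜ[A] wedge v p _),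
          map_smul, map_smul, map_smul]
        congr 1
        simp only [Synt29.ExtBC.fwd_tmul, one_smul, wedge_ιMulti]
        congr 1
        funext i
        cases i using Fin.cases <;> simp
    have h0 := wedge_eq_zero_of_map_eq_zero q
      (fun n => by obtain ⟨m, rfl⟩ := hsurj n; exact ⟨_, hqm m⟩) ((1 : B) ⊗ₜ[A] v) φB hφB
      (fun t ht => by
        obtain ⟨m, rfl⟩ := hone t
        rw [hqm] at ht
        obtain ⟨a, z, rfl⟩ := (hker m).1 ht
        refine ⟨σ a, ?_⟩
        rw [TensorProduct.tmul_add, TensorProduct.tmul_smul, TensorProduct.tmul_smul,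
          ← algebraMap_smul B a ((1 : B) ⊗ₜ[A] v), ← algebraMap_smul B g ((1 : B) ⊗ₜ[A] z)]
        show σ a • _ + σ g • _ = _
        rw [hg0, zero_smul, add_zero])
      (Synt29.ExtBC.fwd A B M p ((1 : B) ⊗ₜ[A] x)) ((hmap x).trans hx)
    rw [hwedge, map_eq_zero_iff _ (Synt29.ExtBC.bijective_fwd (p + 1)).1] at h0
    exact exists_smul_of_tmul_eq_zero (hσ : Function.Surjective (algebraMap A B)) hg h0
  · rintro ⟨z, hz⟩
    have hw : ∀ {q : ℕ} (y : ↥(⋀[A]^q M)), semi σ f hf (q + 1) (wedge v q y) = 0 := fun {q} y => by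
      induction y using induct with
      | h0 => simp
      | hadd a b ha hb => simp only [map_add, ha, hb, add_zero]
      | hgen a w =>
        rw [map_smul, semi_smul, wedge_ιMulti, semi_ιMulti]
        refine smul_eq_zero_of_right _ (AlternatingMap.map_coord_zero _ 0 ?_)
        exact (hker v).2 ⟨1, 0, by simp⟩
    match p, x, z, hz with
    | 0, x, z, hz =>
      obtain ⟨w, rfl⟩ := exists_of_wedge_eq_zero hφ hz
      rw [semi_smul, hg0, zero_smul]
    | p + 1, x, z, hz =>
      obtain ⟨y, w, rfl⟩ := exists_of_wedge_eq hφ hz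
      rw [map_add, hw, semi_smul, hg0, zero_smul, add_zero]

end FirstMap

end Groth.Agent.DRHyp.Wedge
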