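import Groth.Agent.DRHyp.Wedge
import Groth.Agent.DRHyp.Terms
import Groth.Agent.LogModGeo.Glue

/-!
# Exterior powers of quasi-coherent modules exist
-/

set_option autoImplicit false

universe u

open CategoryTheory AlgebraicGeometry Opposite TopologicalSpace exteriorPower
open Groth.Agent.LogModGeo (rs rf rs_rs rf_rf rs_refl rf_refl rs_smul)

noncomputable section

namespace Groth.Agent.DRHyp.ExtSheaf

variable {X : Scheme.{u}} (E : X.Modules) (p : ℕ)

/-- The exterior power of the sections over an open. -/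
abbrev T (V : X.Opens) : Type u := ↥(⋀[Γ(X, V)]^p Γ(E, V))

/-- Restriction of exterior powers of sections. -/
def r {V W : X.Opens} (h : W ≤ V) : T E p V →+ T E p W :=
  Wedge.semi (rf h) (rs E h) (rs_smul E h) p

theorem r_smul {V W : X.Opens} (h : W ≤ V) (a : Γ(X, V)) (x : T E p V) :
    r E p h (a • x) = rf h a • r E p h x :=
  Wedge.semi_smul _ _ _ a x

theorem r_ιMulti {V W : X.Opens} (h : W ≤ V) (v : Fin p → Γ(E, V)) :
    r E p h (ιMulti _ p v) = ιMulti _ p (fun i => rs E h (v i)) :=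
  Wedge.semi_ιMulti _ _ _ v

theorem r_refl {V : X.Opens} (x : T E p V) : r E p le_rfl x = x := by
  induction x using Wedge.induct with
  | h0 => rw [map_zero]
  | hadd x y hx hy => rw [map_add, hx, hy]
  | hgen a v => simp only [r_smul, r_ιMulti, rf_refl, rs_refl]

theorem r_r {U V W : X.Opens} (h : V ≤ U) (h' : W ≤ V) (x : T E p U) :
    r E p h' (r E p h x) = r E p (h'.trans h) x := by
  induction x using Wedge.induct with
  | h0 => rw [map_zero, map_zero, map_zero]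
  | hadd x y hx hy => rw [map_add, map_add, map_add, hx, hy]
  | hgen a v => simp only [r_smul, r_ιMulti, rf_rf, rs_rs]

variable {E p}

/-- The restriction to a basic open is a localization. -/
theorem exists_localization (hE : Coh.IsQCoh E) {V : X.Opens} (hV : IsAffineOpen V) (f : Γ(X, V)) :
    (∀ y : T E p (X.basicOpen f), ∃ (n : ℕ) (z : T E p V),
      r E p (X.basicOpen_le f) z = rf (X.basicOpen_le f) (f ^ n) • y) ∧
    (∀ z : T E p V, r E p (X.basicOpen_le f) z = 0 → ∃ n : ℕ, f ^ n • z = 0) := by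
  let _ := QCoh.basicModule f E
  have hloc := hV.isLocalization_basicOpen f
  haveI : IsScalarTower Γ(X, V) Γ(X, X.basicOpen f) Γ(E, X.basicOpen f) :=
    IsScalarTower.of_algebraMap_smul fun _ _ => rfl
  haveI := QCoh.isLocalizedModule_basicRes f hE hV
  obtain ⟨ψ, hψ, hψι⟩ := exists_isLocalizedModule_extPow (B' := Γ(X, X.basicOpen f)) (Submonoid.powers f)
    (QCoh.basicRes f E) p
  have hψr : ∀ z, ψ z = r E p (X.basicOpen_le f) z := fun z => by
    induction z using Wedge.induct with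
    | h0 => rw [map_zero, map_zero]
    | hadd x y hx hy => rw [map_add, map_add, hx, hy]
    | hgen a v =>
      rw [map_smul, r_smul, r_ιMulti, hψι, ← algebraMap_smul Γ(X, X.basicOpen f) a]
      rfl
  refine ⟨fun y => ?_, fun z hz => ?_⟩
  · obtain ⟨⟨z, ⟨_, n, rfl⟩⟩, hn⟩ := IsLocalizedModule.surj (Submonoid.powers f) ψ y
    refine ⟨n, z, (hψr z).symm.trans (hn.symm.trans ?_)⟩
    show (f ^ n) • y = _
    rw [← algebraMap_smul Γ(X, X.basicOpen f) (f ^ n) y]
    rfl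
  · obtain ⟨⟨_, n, rfl⟩, hn⟩ := IsLocalizedModule.exists_of_eq (S := Submonoid.powers f) (f := ψ)
      (x₁ := z) (x₂ := 0) ((hψr z).trans (hz.trans (map_zero ψ).symm))
    exact ⟨n, hn.trans (smul_zero _)⟩

theorem eq_zero_of_span (hE : Coh.IsQCoh E) {V : X.Opens} (hV : IsAffineOpen V) {s : Set Γ(X, V)}
    (hs : Ideal.span s = ⊤) (x : T E p V) (h : ∀ f ∈ s, r E p (X.basicOpen_le f) x = 0) : x = 0 := by
  let I : Ideal Γ(X, V) := LinearMap.ker (LinearMap.toSpanSingleton Γ(X, V) (T E p V) x)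
  have hI : I.radical = ⊤ := top_unique (hs ▸ Ideal.span_le.2 fun f hf => by
    obtain ⟨n, hn⟩ := (exists_localization hE hV f).2 x (h f hf)
    exact ⟨n, hn⟩)
  have h1 : (1 : Γ(X, V)) ∈ I := (Ideal.eq_top_iff_one _).1 (Ideal.radical_eq_top.1 hI)
  exact (one_smul Γ(X, V) x).symm.trans h1

theorem eq_of_span (hE : Coh.IsQCoh E) {V : X.Opens} (hV : IsAffineOpen V) {s : Set Γ(X, V)}
    (hs : Ideal.span s = ⊤) (x x' : T E p V)
    (h : ∀ f ∈ s, r E p (X.basicOpen_le f) x = r E p (X.basicOpen_le f) x') : x = x' :=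
  sub_eq_zero.1 (eq_zero_of_span hE hV hs _ fun f hf => by rw [map_sub, h f hf, sub_self])

theorem pow_smul_eq {A M : Type*} [CommRing A] [AddCommGroup M] [Module A M] {a b : A} {u v : M} {n k N : ℕ}
    (hk : k ≤ N) (h : (a * b) ^ k • (b ^ n • u - a ^ n • v) = 0) :
    b ^ (n + N) • a ^ N • u = a ^ (n + N) • b ^ N • v := by
  have h' : (a * b) ^ N • (b ^ n • u - a ^ n • v) = 0 := by
    rw [← Nat.sub_add_cancel hk, pow_add, mul_smul, h, smul_zero]
  rw [smul_sub, sub_eq_zero, smul_smul, smul_smul] at h'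
  rw [smul_smul, smul_smul, show b ^ (n + N) * a ^ N = (a * b) ^ N * b ^ n by ring,
    show a ^ (n + N) * b ^ N = (a * b) ^ N * a ^ n by ring]
  exact h'

set_option maxHeartbeats 1000000 in
theorem exists_glue (hE : Coh.IsQCoh E) {V : X.Opens} (hV : IsAffineOpen V) (t : Finset Γ(X, V))
    (ht : Ideal.span (t : Set Γ(X, V)) = ⊤) (x : ∀ f : t, T E p (X.basicOpen f.1))
    (hx : ∀ f g : t, r E p ((X.basicOpen_mul f.1 g.1).le.trans inf_le_left) (x f) =
      r E p ((X.basicOpen_mul f.1 g.1).le.trans inf_le_right) (x g)) :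
    ∃ y : T E p V, ∀ f : t, r E p (X.basicOpen_le f.1) y = x f := by
  classical
  choose n₀ z₀ hz₀ using fun f : t => (exists_localization hE hV f.1).1 (x f)
  obtain ⟨n, hn⟩ : ∃ n : ℕ, ∀ f, n₀ f ≤ n := ⟨Finset.univ.sup n₀, fun f => Finset.le_sup (Finset.mem_univ f)⟩
  have hz' : ∀ f : t, ∃ z : T E p V, r E p (X.basicOpen_le f.1) z = rf (X.basicOpen_le f.1) (f.1 ^ n) • x f :=
    fun f => ⟨f.1 ^ (n - n₀ f) • z₀ f, by
      rw [r_smul, hz₀, smul_smul, ← map_mul, ← pow_add, Nat.sub_add_cancel (hn f)]⟩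
  choose z hz using hz'
  have hc : ∀ f g : t, ∃ N : ℕ, (f.1 * g.1) ^ N • (g.1 ^ n • z f - f.1 ^ n • z g) = 0 := fun f g => by
    refine (exists_localization hE hV (f.1 * g.1)).2 _ ?_
    have hl : X.basicOpen (f.1 * g.1) ≤ X.basicOpen f.1 := (X.basicOpen_mul f.1 g.1).le.trans inf_le_left
    have hr : X.basicOpen (f.1 * g.1) ≤ X.basicOpen g.1 := (X.basicOpen_mul f.1 g.1).le.trans inf_le_right
    have key : ∀ (a : t) (ha : X.basicOpen (f.1 * g.1) ≤ X.basicOpen a.1),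
        r E p (X.basicOpen_le (f.1 * g.1)) (z a) =
          rf (X.basicOpen_le (f.1 * g.1)) (a.1 ^ n) • r E p ha (x a) := fun a ha => by
      rw [← r_r E p (X.basicOpen_le a.1) ha (z a), hz a, r_smul, rf_rf]
    rw [map_sub, r_smul E p _ _ (z f), r_smul E p _ _ (z g), key f hl, key g hr, sub_eq_zero]
    exact (smul_comm _ _ _).trans (congrArg (_ • ·) (congrArg (_ • ·) (hx f g)))
  choose N₀ hN₀ using fun q : t × t => hc q.1 q.2
  obtain ⟨N, hN⟩ : ∃ N : ℕ, ∀ q, N₀ q ≤ N := ⟨Finset.univ.sup N₀, fun q => Finset.le_sup (Finset.mem_univ q)⟩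
  let w : t → T E p V := fun f => f.1 ^ N • z f
  have hw : ∀ f g : t, g.1 ^ (n + N) • w f = f.1 ^ (n + N) • w g := fun f g => by
    exact pow_smul_eq (hN (f, g)) (hN₀ (f, g))
  obtain ⟨c, hc1⟩ : ∃ c : t → Γ(X, V), ∑ f, c f * f.1 ^ (n + N) = 1 := by
    have h1 : Ideal.span (Set.range fun f : t => f.1 ^ (n + N)) = ⊤ := by
      refine Ideal.span_pow_eq_top (t : Set Γ(X, V)) ht (n + N) ▸ congrArg Ideal.span ?_
      ext a
      simp
    obtain ⟨c, hc⟩ := (Submodule.mem_span_range_iff_exists_fun Γ(X, V)).1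
      ((Ideal.eq_top_iff_one _).1 h1)
    exact ⟨c, by simpa only [smul_eq_mul] using hc⟩
  refine ⟨∑ f, c f • w f, fun g => ?_⟩
  have key : g.1 ^ (n + N) • ∑ f, c f • w f = w g := by
    rw [Finset.smul_sum]
    calc _ = ∑ f, (c f * f.1 ^ (n + N)) • w g := Finset.sum_congr rfl fun f _ => by
            rw [smul_comm, hw f g, smul_smul]
      _ = w g := by rw [← Finset.sum_smul, hc1, one_smul]
  have hu : IsUnit (rf (X.basicOpen_le g.1) (g.1 ^ (n + N))) := by
    rw [map_pow]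
    exact (RingedSpace.isUnit_res_basicOpen _ g.1).pow _
  refine hu.smul_left_cancel.1 ?_
  rw [← r_smul, key, r_smul, hz, smul_smul, ← map_mul, ← pow_add, add_comm]

variable (E p)

/-- The affine opens inside an open. -/
abbrev Aff (U : X.Opens) : Type u := {V : X.affineOpens // V.1 ≤ U}

/-- Exterior powers over an affine open inside `U`, with scalars from `U`. -/
def TA (U : X.Opens) (V : Aff U) : Type u := T E p V.1.1

instance (U : X.Opens) (V : Aff U) : AddCommGroup (TA E p U V) := inferInstanceAs (AddCommGroup (T E p V.1.1))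

instance (U : X.Opens) (V : Aff U) : Module Γ(X, U) (TA E p U V) :=
  Module.compHom (T E p V.1.1) (rf V.2)

/-- Compatible families of exterior powers over the affine opens inside an open. -/
def sect (U : X.Opens) : Submodule Γ(X, U) (∀ V : Aff U, TA E p U V) where
  carrier := {x | ∀ (V W : Aff U) (h : W.1.1 ≤ V.1.1), r E p h (x V) = x W}
  zero_mem' := fun V W h => map_zero (r E p h)
  add_mem' := fun {x y} hx hy V W h =>
    (map_add (r E p h) (x V) (y V)).trans (congrArg₂ (· + ·) (hx V W h) (hy V W h))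
  smul_mem' := fun a x hx V W h =>
    (r_smul E p h (rf V.2 a) (x V)).trans (congrArg₂ (fun (b : Γ(X, W.1.1)) (z : T E p W.1.1) => b • z)
      (rf_rf V.2 h a) (hx V W h))

/-- The presheaf of compatible families. -/
def psh : (Opens X)ᵒᵖ ⥤ AddCommGrpCat.{u} where
  obj U := AddCommGrpCat.of ↥(sect E p U.unop)
  map {U U'} i := AddCommGrpCat.ofHom
    { toFun := fun x => ⟨fun V => x.1 ⟨V.1, V.2.trans i.unop.le⟩,
        fun V W h => x.2 ⟨V.1, V.2.trans i.unop.le⟩ ⟨W.1, W.2.trans i.unop.le⟩ h⟩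
      map_zero' := rfl
      map_add' := fun _ _ => rfl }
  map_id _ := rfl
  map_comp _ _ := rfl

instance (U : (Opens X)ᵒᵖ) : Module (X.ringCatSheaf.obj.obj U) ((psh E p).obj U) :=
  inferInstanceAs (Module Γ(X, U.unop) ↥(sect E p U.unop))

theorem psh_map_smul ⦃U U' : (Opens X)ᵒᵖ⦄ (i : U ⟶ U') (a : X.ringCatSheaf.obj.obj U) (x : (psh E p).obj U) :
    (psh E p).map i (a • x) = X.ringCatSheaf.obj.map i a • (psh E p).map i x := by
  refine Subtype.ext (funext fun V => ?_)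
  exact congrArg (fun (b : Γ(X, V.1.1)) => b •
      (show T E p V.1.1 from (show ↥(sect E p U.unop) from x).1 ⟨V.1, V.2.trans i.unop.le⟩))
    (rf_rf i.unop.le V.2 (show Γ(X, U.unop) from a)).symm

variable {E p}

theorem exists_span_basicOpen {U V : X.Opens} (hV : IsAffineOpen V) {κ : Type u} (O : κ → X.Opens)
    (hVU : V ≤ U) (hc : U ≤ ⨆ i, O i) :
    ∃ t : Finset Γ(X, V), Ideal.span (t : Set Γ(X, V)) = ⊤ ∧ ∀ f ∈ t, ∃ i, X.basicOpen f ≤ O i := by
  let s : Set Γ(X, V) := {f | ∃ i, X.basicOpen f ≤ O i}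
  have hs : Ideal.span s = ⊤ := by
    rw [← hV.self_le_iSup_basicOpen_iff]
    intro x hx
    obtain ⟨i, hi⟩ := Opens.mem_iSup.1 (hc (hVU hx))
    obtain ⟨f, hf, hxf⟩ := hV.exists_basicOpen_le (V := O i) ⟨x, hi⟩ hx
    exact Opens.mem_iSup.2 ⟨⟨f, i, hf⟩, hxf⟩
  obtain ⟨t, hts, ht⟩ := (Ideal.span_eq_top_iff_finite s).1 hs
  exact ⟨t, ht, fun f hf => hts hf⟩

theorem isSheaf_psh (hE : Coh.IsQCoh E) :
    Presheaf.IsSheaf (Opens.grothendieckTopology X.carrier) (psh E p) := by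
  refine (TopCat.Presheaf.isSheaf_iff_isSheafUniqueGluing (X := X.carrier) (psh E p)).2 fun κ O x hx => ?_
  let x' : ∀ i, ↥(sect E p (O i)) := x
  have hxc : ∀ (i j : κ) (W : X.affineOpens) (hi : W.1 ≤ O i) (hj : W.1 ≤ O j),
      (x' i).1 ⟨W, hi⟩ = (x' j).1 ⟨W, hj⟩ := fun i j W hi hj =>
    congrArg (fun z : (psh E p).obj (op (O i ⊓ O j)) => z.1 ⟨W, le_inf hi hj⟩) (hx i j)
  have huniq : ∀ (V : Aff (iSup O)) (z z' : T E p V.1.1),
      (∀ (W : X.affineOpens) (h : W.1 ≤ V.1.1) (i : κ), W.1 ≤ O i → r E p h z = r E p h z') → z = z' := by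
    intro V z z' H
    obtain ⟨t, ht, htO⟩ := exists_span_basicOpen V.1.2 O V.2 le_rfl
    refine eq_of_span hE V.1.2 ht z z' fun f hf => ?_
    obtain ⟨i, hi⟩ := htO f hf
    exact H ⟨_, V.1.2.basicOpen f⟩ _ i hi
  have hex : ∀ V : Aff (iSup O), ∃ y : T E p V.1.1, ∀ (W : X.affineOpens) (h : W.1 ≤ V.1.1) (i : κ)
      (hi : W.1 ≤ O i), r E p h y = (x' i).1 ⟨W, hi⟩ := by
    intro V
    obtain ⟨t, ht, htO⟩ := exists_span_basicOpen V.1.2 O V.2 le_rfl
    choose j hj using fun f : t => htO f.1 f.2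
    obtain ⟨y, hy⟩ := exists_glue hE V.1.2 t ht
      (fun f => (x' (j f)).1 ⟨⟨_, V.1.2.basicOpen f.1⟩, hj f⟩) fun f g => by
        have hfg : IsAffineOpen (X.basicOpen (f.1 * g.1)) := V.1.2.basicOpen _
        rw [(x' (j f)).2 ⟨⟨_, V.1.2.basicOpen f.1⟩, hj f⟩ ⟨⟨_, hfg⟩, ((X.basicOpen_mul f.1 g.1).le.trans inf_le_left).trans (hj f)⟩ ((X.basicOpen_mul f.1 g.1).le.trans inf_le_left),
          (x' (j g)).2 ⟨⟨_, V.1.2.basicOpen g.1⟩, hj g⟩ ⟨⟨_, hfg⟩, ((X.basicOpen_mul f.1 g.1).le.trans inf_le_right).trans (hj g)⟩ ((X.basicOpen_mul f.1 g.1).le.trans inf_le_right)]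
        exact hxc _ _ ⟨_, hfg⟩ _ _
    refine ⟨y, fun W h i hi => ?_⟩
    have hspan : Ideal.span ((rf h) '' (t : Set Γ(X, V.1.1))) = ⊤ := by
      rw [← Ideal.map_span, ht, Ideal.map_top]
    refine eq_of_span hE W.2 hspan _ _ ?_
    rintro _ ⟨f, hf, rfl⟩
    have hW' : IsAffineOpen (X.basicOpen (rf h f)) := W.2.basicOpen _
    have hle : X.basicOpen (rf h f) ≤ X.basicOpen f := by
      rw [show X.basicOpen (rf h f) = W.1 ⊓ X.basicOpen f from Scheme.basicOpen_res _ _ _]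
      exact inf_le_right
    rw [r_r, ← r_r E p (X.basicOpen_le f) hle y, hy ⟨f, hf⟩,
      (x' (j ⟨f, hf⟩)).2 ⟨⟨_, V.1.2.basicOpen f⟩, hj ⟨f, hf⟩⟩ ⟨⟨_, hW'⟩, hle.trans (hj ⟨f, hf⟩)⟩ hle,
      (x' i).2 ⟨W, hi⟩ ⟨⟨_, hW'⟩, (X.basicOpen_le _).trans hi⟩ (X.basicOpen_le _)]
    exact hxc _ _ ⟨_, hW'⟩ _ _
  choose y hy using hex
  have hmem : y ∈ sect E p (iSup O) := fun V W h => huniq W _ _ fun W' h' i hi => by
    rw [r_r, hy V W' _ i hi, hy W W' h' i hi]
  refine ⟨⟨y, hmem⟩, fun i => Subtype.ext (funext fun V => ?_), fun z hz => Subtype.ext (funext fun V => ?_)⟩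
  · show y ⟨V.1, _⟩ = (x' i).1 V
    rw [← hy ⟨V.1, V.2.trans (le_iSup O i)⟩ V.1 le_rfl i V.2, r_refl]
  · refine huniq V _ _ fun W h i hi => ?_
    rw [hy V W h i hi, z.2 V ⟨W, h.trans V.2⟩ h]
    exact congrArg (fun w : (psh E p).obj (op (O i)) => w.1 ⟨W, hi⟩) (hz i)

/-- The exterior power of a quasi-coherent module. -/
def mod (hE : Coh.IsQCoh E) (p : ℕ) : X.Modules where
  val := PresheafOfModules.ofPresheaf (R := X.ringCatSheaf.obj) (psh E p) (psh_map_smul E p)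
  isSheaf := isSheaf_psh hE

/-- Exterior powers of quasi-coherent modules exist. -/
theorem isExtPow_mod (hE : Coh.IsQCoh E) (p : ℕ) : ExtPow.IsExtPow p E (mod hE p) := by
  let φ : ∀ U : X.affineOpens, ((mod hE p).val.obj (op U.1)) ≃ₗ[Γ(X, U.1)]
      ↥(⋀[Γ(X, U.1)]^p (E.val.obj (op U.1))) := fun U =>
    { toFun := fun x => (show ↥(sect E p U.1) from x).1 ⟨U, le_rfl⟩
      map_add' := fun _ _ => rfl
      map_smul' := fun a x => by
        exact congrArg (fun (b : Γ(X, U.1)) => b •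
          (show T E p U.1 from (show ↥(sect E p U.1) from x).1 ⟨U, le_rfl⟩)) (rf_refl (show Γ(X, U.1) from a))
      invFun := fun z => (show ↥(sect E p U.1) from
        ⟨fun V => r E p V.2 z, fun V W h => r_r E p V.2 h z⟩)
      left_inv := fun x => Subtype.ext (funext fun V => (show ↥(sect E p U.1) from x).2 ⟨U, le_rfl⟩ V V.2)
      right_inv := fun z => r_refl E p z }
  refine ⟨φ, fun U V h e => Subtype.ext (funext fun W => ?_)⟩
  show r E p _ (ιMulti _ p e) = r E p W.2 (ιMulti _ p fun j => rs E h (e j))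
  rw [← r_ιMulti E p h e, r_r]

theorem exists_isExtPow (hE : Coh.IsQCoh E) (p : ℕ) : ∃ L : X.Modules, ExtPow.IsExtPow p E L :=
  ⟨_, isExtPow_mod hE p⟩

end Groth.Agent.DRHyp.ExtSheaf
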