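import Groth.Agent.DRHyp.Forms
import Groth.Agent.SmoothDim.Basic
import Mathlib.RingTheory.Derivation.Lie
import Mathlib.RingTheory.MvPolynomial.Basic
import Mathlib.RingTheory.NoetherNormalization
import Mathlib.RingTheory.Smooth.StandardSmoothCotangent

/-!
# Finiteness of de Rham cohomology of standard smooth algebras in characteristic zero
-/

set_option autoImplicit false

universe u

open exteriorPower MvPolynomial

namespace Groth.Agent.DRHyp.AffFinite

variable {k B : Type u} [Field k] [CommRing B] [Algebra k B]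

lemma finrank_restrictTotalDegree_le (s e : ℕ) :
    Module.finrank k (restrictTotalDegree (Fin s) k e) ≤ (e + 1) ^ s := by
  classical
  have hle := restrictTotalDegree_le_restrictDegree (σ := Fin s) k e
  refine (Submodule.finrank_mono hle).trans ?_
  rw [restrictDegree, Module.finrank_eq_nat_card_basis (basisRestrictSupport k _)]
  let ι : {f : Fin s →₀ ℕ | ∀ i, f i ≤ e} → (Fin s → Fin (e + 1)) := fun f i =>
    ⟨f.1 i, Nat.lt_succ_of_le (f.2 i)⟩
  refine (Nat.card_le_card_of_injective ι fun f f' h => ?_).trans (le_of_eq (by simp))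
  exact Subtype.ext (Finsupp.ext fun i => congrArg Fin.val (congrFun h i))

variable {s L : ℕ} (g : MvPolynomial (Fin s) k →ₐ[k] B) (b : Fin L → B)

/-- Combinations of the generators with coefficients of bounded degree. -/
noncomputable def combMap (e : ℕ) : (Fin L → restrictTotalDegree (Fin s) k e) →ₗ[k] B :=
  ∑ l, (LinearMap.mulRight k (b l)) ∘ₗ g.toLinearMap ∘ₗ (restrictTotalDegree (Fin s) k e).subtype ∘ₗ
    LinearMap.proj l

/-- The degree filtration of a finite algebra over a polynomial ring. -/
noncomputable def E (e : ℕ) : Submodule k B := LinearMap.range (combMap g b e)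

variable {g b}

lemma mem_E_iff {e : ℕ} {y : B} : y ∈ E g b e ↔ ∃ q : Fin L → MvPolynomial (Fin s) k,
    (∀ l, (q l).totalDegree ≤ e) ∧ ∑ l, g (q l) * b l = y := by
  constructor
  · rintro ⟨q, rfl⟩
    exact ⟨fun l => (q l).1, fun l => (mem_restrictTotalDegree _ _ _).1 (q l).2,
      by simp [combMap, LinearMap.sum_apply]⟩
  · rintro ⟨q, hq, rfl⟩
    exact ⟨fun l => ⟨q l, (mem_restrictTotalDegree _ _ _).2 (hq l)⟩,
      by simp [combMap, LinearMap.sum_apply]⟩

lemma E_mono : Monotone (E g b) := fun e e' h y hy => by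
  obtain ⟨q, hq, rfl⟩ := mem_E_iff.1 hy
  exact mem_E_iff.2 ⟨q, fun l => (hq l).trans h, rfl⟩

lemma finrank_E_le (e : ℕ) : Module.finrank k (E g b e) ≤ L * (e + 1) ^ s := by
  refine (LinearMap.finrank_range_le _).trans ?_
  rw [Module.finrank_pi_fintype, Finset.sum_const, Finset.card_univ, Fintype.card_fin, smul_eq_mul]
  exact Nat.mul_le_mul_left L (finrank_restrictTotalDegree_le s e)

lemma poly_mul_mem {c e : ℕ} {P : MvPolynomial (Fin s) k} (hP : P.totalDegree ≤ c) {y : B}
    (hy : y ∈ E g b e) : g P * y ∈ E g b (c + e) := by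
  obtain ⟨q, hq, rfl⟩ := mem_E_iff.1 hy
  refine mem_E_iff.2 ⟨fun l => P * q l, fun l => (totalDegree_mul _ _).trans (add_le_add hP (hq l)), ?_⟩
  rw [Finset.mul_sum]
  simp [mul_assoc]

lemma basis_mem (l : Fin L) (e : ℕ) : b l ∈ E g b e := by
  classical
  refine E_mono (Nat.zero_le e) (mem_E_iff.2 ⟨fun j => if j = l then 1 else 0, fun j => ?_, ?_⟩)
  · dsimp only
    split_ifs <;> simp
  · simp [apply_ite g]

variable (hb : ∀ y : B, ∃ e, y ∈ E g b e)
include hb

lemma exists_mem_all {ι : Type*} [Finite ι] (y : ι → B) : ∃ e, ∀ i, y i ∈ E g b e := by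
  cases nonempty_fintype ι
  choose e he using fun i => hb (y i)
  exact ⟨Finset.univ.sup e, fun i => E_mono (Finset.le_sup (Finset.mem_univ i)) (he i)⟩

lemma exists_mul_mem (y : B) : ∃ a, ∀ e, ∀ z ∈ E g b e, y * z ∈ E g b (e + a) := by
  obtain ⟨a, ha⟩ := exists_mem_all hb (fun l => y * b l)
  refine ⟨a, fun e z hz => ?_⟩
  obtain ⟨q, hq, rfl⟩ := mem_E_iff.1 hz
  rw [Finset.mul_sum]
  refine Submodule.sum_mem _ fun l _ => ?_
  rw [mul_left_comm]
  exact poly_mul_mem (hq l) (ha l)

lemma exists_derivation_mem (D : Derivation k B B) :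
    ∃ a, ∀ e, ∀ z ∈ E g b e, D z ∈ E g b (e + a) := by
  obtain ⟨a₁, ha₁⟩ := exists_mem_all hb (fun l => D (b l))
  obtain ⟨a₂, ha₂⟩ := exists_mem_all hb (fun tl : Fin s × Fin L => D (g (X tl.1)) * b tl.2)
  have key : ∀ (m : Fin s →₀ ℕ) (l : Fin L),
      D (g (monomial m 1) * b l) ∈ E g b ((m.sum fun _ n => n) + max a₁ a₂) := by
    intro m
    induction m using Finsupp.induction_on_max with
    | zero =>
      intro l
      simp only [monomial_zero', map_one, one_mul]
      exact E_mono (by simp) (ha₁ l)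
    | single_add t n f hf hn ih =>
      intro l
      have hdeg : ((Finsupp.single t n + f).sum fun _ e => e) = n + f.sum fun _ e => e := by
        rw [Finsupp.sum_add_index' (fun _ => rfl) (fun _ _ _ => rfl), Finsupp.sum_single_index rfl]
      rw [hdeg, monomial_single_add, map_mul g, map_pow g, mul_assoc, Derivation.leibniz, smul_eq_mul,
        smul_eq_mul, Derivation.leibniz_pow]
      refine Submodule.add_mem _ ?_ ?_
      · rw [← map_pow, add_assoc]
        exact poly_mul_mem ((totalDegree_pow _ _).trans (by simp)) (ih l)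
      · rcases n with _ | n
        · exact (hn rfl).elim
        simp only [Nat.add_sub_cancel, smul_eq_mul, nsmul_eq_mul]
        have hmem : g (monomial f 1 * X t ^ n) * (D (g (X t)) * b l) ∈
            E g b ((f.sum fun _ e => e) + n + a₂) := by
          refine poly_mul_mem ((totalDegree_mul _ _).trans (add_le_add ?_ ((totalDegree_pow _ _).trans
            (by simp)))) (ha₂ (t, l))
          exact (totalDegree_monomial_le _ _).trans le_rfl
        have := Submodule.smul_mem (E g b _) ((n + 1 : ℕ) : k) (E_mono (show (f.sum fun _ e => e) + n + a₂ ≤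
          n + 1 + (f.sum fun _ e => e) + max a₁ a₂ by omega) hmem)
        convert this using 1
        rw [Nat.cast_smul_eq_nsmul, nsmul_eq_mul, map_mul, map_pow]
        ring
  refine ⟨max a₁ a₂, fun e z hz => ?_⟩
  obtain ⟨q, hq, rfl⟩ := mem_E_iff.1 hz
  rw [map_sum]
  refine Submodule.sum_mem _ fun l _ => ?_
  rw [(q l).as_sum, map_sum, Finset.sum_mul, map_sum]
  refine Submodule.sum_mem _ fun m hm => ?_
  rw [← mul_one (coeff m (q l)), ← C_mul_monomial, ← smul_eq_C_mul, map_smul, smul_mul_assoc, Derivation.map_smul]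
  exact Submodule.smul_mem _ _ (E_mono (Nat.add_le_add_right ((le_totalDegree hm).trans (hq l)) _)
    (key m l))

omit hb

/-- The Weyl operators of a family of functions whose differentials form a basis. -/
noncomputable def ops {n : ℕ} (bΩ : Module.Basis (Fin n) B (Ω[B⁄k])) (y : Fin n → B)
    (hy : ∀ i, bΩ i = KaehlerDifferential.D k B (y i)) : Weyl.Ops k n B where
  x i := LinearMap.mulLeft k (y i)
  D i := ((bΩ.coord i).compDer (KaehlerDifferential.D k B)).toLinearMap
  x_comm i j m := mul_left_comm _ _ _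
  D_comm i j m := by
    set Di := (bΩ.coord i).compDer (KaehlerDifferential.D k B) with hDi
    set Dj := (bΩ.coord j).compDer (KaehlerDifferential.D k B) with hDj
    have hcoord : ∀ i' a, (bΩ.coord i').compDer (KaehlerDifferential.D k B) (y a) =
        if a = i' then 1 else 0 := fun i' a => by
      show bΩ.coord i' (KaehlerDifferential.D k B (y a)) = _
      rw [← hy, Module.Basis.coord_apply, Module.Basis.repr_self, Finsupp.single_apply]
    have h0 : ⁅Di, Dj⁆.liftKaehlerDifferential = 0 := bΩ.ext fun a => by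
      rw [hy, Derivation.liftKaehlerDifferential_comp_D, Derivation.commutator_apply, hDi, hDj,
        hcoord, hcoord]
      split_ifs <;> simp
    have h1 := LinearMap.congr_fun h0 (KaehlerDifferential.D k B m)
    rw [Derivation.liftKaehlerDifferential_comp_D, Derivation.commutator_apply] at h1
    exact sub_eq_zero.1 h1
  rel i j m := by
    show bΩ.coord i (KaehlerDifferential.D k B (y j * m)) =
      y j * bΩ.coord i (KaehlerDifferential.D k B m) + _
    rw [Derivation.leibniz, map_add, map_smul, map_smul, smul_eq_mul, smul_eq_mul, ← hy,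
      Module.Basis.coord_apply, Module.Basis.coord_apply, Module.Basis.repr_self, Finsupp.single_apply]
    simp only [eq_comm (a := j), mul_ite, mul_one, mul_zero]

/-- A standard smooth algebra has holonomic growth. -/
theorem hasGrowth [Nontrivial B] (n : ℕ) [Algebra.IsStandardSmoothOfRelativeDimension n k B]
    (bΩ : Module.Basis (Fin n) B (Ω[B⁄k])) (y : Fin n → B)
    (hy : ∀ i, bΩ i = KaehlerDifferential.D k B (y i)) : (ops bΩ y hy).HasGrowth := by
  have : Algebra.IsStandardSmooth k B :=
    Algebra.IsStandardSmoothOfRelativeDimension.isStandardSmooth (n := n)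
  obtain ⟨s, g, hinj, hfin⟩ := exists_finite_inj_algHom_of_fg k B
  let _ : Algebra (MvPolynomial (Fin s) k) B := g.toRingHom.toAlgebra
  have : Module.Finite (MvPolynomial (Fin s) k) B := hfin
  have : FaithfulSMul (MvPolynomial (Fin s) k) B := (faithfulSMul_iff_algebraMap_injective _ _).2 hinj
  have hs : s = n := by
    have h1 := VarDim.ringKrullDim_eq_of_isIntegral (R := MvPolynomial (Fin s) k) (S := B)
    rw [SmoothDim.ringKrullDim_eq k B n, MvPolynomial.ringKrullDim_of_isNoetherianRing,
      ringKrullDim_eq_zero_of_field, zero_add] at h1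
    simpa using (ENat.natCast_inj.1 (WithBot.coe_inj.1 h1)).symm
  obtain ⟨L, b, hbspan⟩ := Module.Finite.exists_fin (R := MvPolynomial (Fin s) k) (M := B)
  have hb : ∀ z : B, ∃ e, z ∈ E g b e := fun z => by
    have hz : z ∈ Submodule.span (MvPolynomial (Fin s) k) (Set.range b) := hbspan ▸ trivial
    obtain ⟨q, rfl⟩ := (Submodule.mem_span_range_iff_exists_fun _).1 hz
    exact ⟨Finset.univ.sup fun l => (q l).totalDegree, mem_E_iff.2
      ⟨q, fun l => Finset.le_sup (f := fun l => (q l).totalDegree) (Finset.mem_univ l), rfl⟩⟩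
  choose ax hax using fun i => exists_mul_mem hb (y i)
  choose aD haD using fun i => exists_derivation_mem hb ((bΩ.coord i).compDer (KaehlerDifferential.D k B))
  let a := max (Finset.univ.sup ax) (Finset.univ.sup aD) + 1
  refine ⟨fun j => E g b (a * j), L * a ^ s, fun i j h => E_mono (Nat.mul_le_mul_left a h),
    fun z => ?_, fun i j z hz => ⟨?_, ?_⟩, fun j => ⟨?_, ?_⟩⟩
  · obtain ⟨e, he⟩ := hb z
    exact ⟨e, E_mono (Nat.le_mul_of_pos_left e (Nat.succ_pos _)) he⟩
  · refine E_mono ?_ (hax i _ z hz)
    have : ax i ≤ Finset.univ.sup ax := Finset.le_sup (Finset.mem_univ i)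
    rw [Nat.mul_succ]; omega
  · refine E_mono ?_ (haD i _ z hz)
    have : aD i ≤ Finset.univ.sup aD := Finset.le_sup (Finset.mem_univ i)
    rw [Nat.mul_succ]; omega
  · exact inferInstanceAs (Module.Finite k (LinearMap.range (combMap g b (a * j))))
  · refine (finrank_E_le _).trans ?_
    rw [← hs, mul_assoc, ← mul_pow]
    exact Nat.mul_le_mul_left L (Nat.pow_le_pow_left (by rw [mul_add, mul_one]; omega) s)

/-- de Rham cohomology of a standard smooth algebra over a field of characteristic zero is finite. -/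
theorem exists_fg_cocycles [CharZero k] [Nontrivial B] (n : ℕ)
    [Algebra.IsStandardSmoothOfRelativeDimension n k B]
    (d : ∀ p : ℕ, ↥(⋀[B]^p (Ω[B⁄k])) →ₗ[k] ↥(⋀[B]^(p + 1) (Ω[B⁄k])))
    (hd : DeRham.IsDiff (KaehlerDifferential.D k B) d) (p : ℕ) :
    ∃ S : Submodule k ↥(⋀[B]^p (Ω[B⁄k])), S.FG ∧
      DeRham.cocycles d p ≤ S ⊔ DeRham.coboundaries d p := by
  classical
  obtain ⟨ι, σ, _, _, P, hP⟩ := ‹Algebra.IsStandardSmoothOfRelativeDimension n k B›.out
  cases nonempty_fintype ι
  cases nonempty_fintype σ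
  have hcard : Fintype.card ↑((Set.range P.map)ᶜ) = n := by
    rw [← hP, Fintype.card_compl_set, Algebra.Presentation.dimension, Nat.card_eq_fintype_card,
      Nat.card_eq_fintype_card, Set.card_range_of_injective P.map_inj]
  let e := Fintype.equivFinOfCardEq hcard
  let bΩ := P.basisKaehler.reindex e
  have hy : ∀ i, bΩ i = KaehlerDifferential.D k B (P.val (e.symm i)) := fun i => by
    simp [bΩ]
  exact Forms.exists_fg_cocycles hd bΩ _ hy (ops bΩ _ hy).D (fun f i => rfl)
    (Koszul.isFinCoh_kos _ (hasGrowth n bΩ _ hy)) p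

end Groth.Agent.DRHyp.AffFinite
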