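import Groth.Agent.DRHyp.Scheme
import Groth.Agent.SiteBase.Sections
import Groth.Agent.S15293
import Groth.Agent.S15294
import Mathlib.Algebra.Homology.ShortComplex.ModuleCat

/-!
# de Rham cohomology over an affine open is computed by forms
-/

set_option autoImplicit false

universe u

open CategoryTheory CategoryTheory.Limits AlgebraicGeometry Opposite TopologicalSpace exteriorPower

namespace Groth.Agent.DRHyp

/-- The additive group of cycles of a family of additive maps modulo boundaries, compared with a group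
receiving a surjection from the cycles with kernel the boundaries, stated for the cohomology of a
complex of modules. -/
theorem nonempty_homology_addEquiv {R : Type u} [CommRing R] (K : CochainComplex (ModuleCat.{u} R) ℕ) (n : ℕ)
    {N : Type u} [AddCommGroup N] (Φ : ((K.d n (n + 1)).hom.toAddMonoidHom).ker →+ N)
    (hs : Function.Surjective Φ)
    (hk : ∀ z, Φ z = 0 ↔ ∃ y : K.X ((ComplexShape.up ℕ).prev n),
      (K.d ((ComplexShape.up ℕ).prev n) n).hom y = z.1) :
    Nonempty (↑(K.homology n) ≃+ N) := by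
  let S := K.sc' ((ComplexShape.up ℕ).prev n) n (n + 1)
  let e0 : K.homology n ≅ S.homology :=
    ShortComplex.homologyMapIso (K.isoSc' _ n (n + 1) rfl (CochainComplex.next ℕ n))
  let e1 := (e0 ≪≫ S.moduleCatHomologyIso).toLinearEquiv.toAddEquiv
  refine ⟨e1.trans ?_⟩
  let Ψ : LinearMap.ker S.g.hom →+ N := AddMonoidHom.mk' (fun z => Φ ⟨z.1, z.2⟩)
    (fun a b => map_add Φ ⟨a.1, a.2⟩ ⟨b.1, b.2⟩)
  have hker : (LinearMap.range S.moduleCatToCycles).toAddSubgroup = Ψ.ker := by
    ext z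
    constructor
    · rintro ⟨y, rfl⟩
      exact (hk _).2 ⟨y, rfl⟩
    · intro hz
      obtain ⟨y, hy⟩ := (hk ⟨z.1, z.2⟩).1 hz
      exact ⟨y, Subtype.ext hy⟩
  exact (QuotientAddGroup.quotientAddEquivOfEq hker).trans
    (QuotientAddGroup.quotientKerEquivOfSurjective Ψ fun x => by
      obtain ⟨z, hz⟩ := hs x
      exact ⟨⟨z.1, z.2⟩, hz⟩)

/-- The complex of maps out of `T` into a non-negative acyclic complex computes hypercohomology. -/
theorem nonempty_homology_addEquiv_HT {A : Type*} [Category* A] [Abelian A] [HasDerivedCategory.{u} A]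
    [HasExt.{u} A] [EnoughInjectives A] (T : A) (K : CochainComplex A ℤ) [K.IsStrictlyGE 0]
    (hK : ∀ n, IsTAcyclic.{u} T (K.X n)) {R : Type u} [CommRing R]
    (M : CochainComplex (ModuleCat.{u} R) ℕ) (e : ∀ p : ℕ, M.X p ≃+ (T ⟶ K.X (p : ℤ)))
    (he : ∀ (p : ℕ) (x : M.X p),
      e p x ≫ K.d (p : ℤ) ((p + 1 : ℕ) : ℤ) = e (p + 1) ((M.d p (p + 1)).hom x)) (n : ℕ) :
    Nonempty (↑(M.homology n) ≃+ E1Deg.HT T K (n : ℤ)) := by
  obtain ⟨hsur, hker⟩ := cls_spec.{u} T K 0 hK (n : ℤ)
  have hcast : ((n + 1 : ℕ) : ℤ) = (n : ℤ) + 1 := by push_cast; rfl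
  have hz : ∀ x : M.X n, (M.d n (n + 1)).hom x = 0 ↔ e n x ≫ K.d (n : ℤ) ((n : ℤ) + 1) = 0 := fun x => by
    rw [← hcast, he, (e (n + 1)).map_eq_zero_iff]
  refine nonempty_homology_addEquiv M n
    (AddMonoidHom.mk' (fun z => cls T K (n : ℤ) (e n z.1) ((hz _).1 z.2)) fun x y =>
      (cls_congr _ (map_add (e n) x.1 y.1) _ _).trans (cls_add _ _ _ _ _))
    (fun x => ?_) fun z => (hker (e n z.1) ((hz _).1 z.2)).trans ?_
  · obtain ⟨g, hg, rfl⟩ := hsur x
    obtain ⟨z, rfl⟩ := (e n).surjective g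
    exact ⟨⟨z, (hz z).2 hg⟩, rfl⟩
  · cases n with
    | zero =>
      rw [CochainComplex.prev_nat_zero]
      have h0 := K.isZero_of_isStrictlyGE 0 (((0 : ℕ) : ℤ) - 1) (by omega)
      rw [M.shape 0 0 (by simp)]
      constructor
      · rintro ⟨g, hg⟩
        refine ⟨0, (e 0).injective ?_⟩
        rw [← hg, h0.eq_of_tgt g 0, zero_comp]
        simp
      · rintro ⟨y, hy⟩
        exact ⟨0, by rw [zero_comp, ← hy]; simp⟩
    | succ m =>
      rw [CochainComplex.prev_nat_succ]
      have hm : ((m + 1 : ℕ) : ℤ) - 1 = (m : ℤ) := by omega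
      constructor
      · rintro ⟨g, hg⟩
        revert g
        rw [hm]
        intro g hg
        obtain ⟨y, rfl⟩ := (e m).surjective g
        exact ⟨y, (e (m + 1)).injective ((he m y).symm.trans hg)⟩
      · rintro ⟨y, hy⟩
        rw [hm]
        exact ⟨e m y, (he m y).trans (congrArg (e (m + 1)) hy)⟩

variable {R : Type u} [CommRing R] {X : Scheme.{u}} {f : X ⟶ Spec (CommRingCat.of R)} [QuasiSeparated f]
  (D : DeRhamSh.OmegaCx f) {U : X.Opens}

/-- Forms over an affine open as maps out of the free sheaf into the term of the complex. -/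
noncomputable def formHom (p : ℕ) (hU : IsAffineOpen U) :
    letI := kAlg f U
    ↥(⋀[Γ(X, U)]^p (Ω[Γ(X, U)⁄R])) ≃+
      (CohCx.freeSheaf (Opens.grothendieckTopology X) U ⟶ D.KZ.X (p : ℤ)) :=
  letI := kAlg f U
  ((secForm D p hU).trans (SiteBase.secEquiv _ U _).symm).trans
    { toFun := fun φ => φ ≫ (D.K.extendXIso ComplexShape.embeddingUpNat (i := p) rfl).inv
      invFun := fun φ => φ ≫ (D.K.extendXIso ComplexShape.embeddingUpNat (i := p) rfl).hom
      left_inv := fun φ => (Category.assoc _ _ _).trans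
        ((congrArg (φ ≫ ·) (Iso.inv_hom_id _)).trans (Category.comp_id φ))
      right_inv := fun φ => (Category.assoc _ _ _).trans
        ((congrArg (φ ≫ ·) (Iso.hom_inv_id _)).trans (Category.comp_id φ))
      map_add' := fun _ _ => Preadditive.add_comp .. }

lemma formHom_d (p : ℕ) (hU : IsAffineOpen U) (m : ℤ) (hm : ((p + 1 : ℕ) : ℤ) = m) :
    letI := kAlg f U
    ∀ z : ↥(⋀[Γ(X, U)]^p (Ω[Γ(X, U)⁄R])),
      formHom D p hU z ≫ D.KZ.d (p : ℤ) m =
        formHom D (p + 1) hU (formD D p hU z) ≫ eqToHom (by rw [hm]) := by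
  subst hm
  let _ := kAlg f U
  intro z
  rw [eqToHom_refl, Category.comp_id]
  show (SiteBase.secEquiv _ U _).symm (secForm D p hU z) ≫
      (D.K.extendXIso ComplexShape.embeddingUpNat (i := p) rfl).inv ≫ D.KZ.d p ((p + 1 : ℕ) : ℤ) =
    (SiteBase.secEquiv _ U _).symm (secForm D (p + 1) hU (formD D p hU z)) ≫
      (D.K.extendXIso ComplexShape.embeddingUpNat (i := p + 1) rfl).inv
  rw [secForm_formD, ← SiteBase.secEquiv_symm_comp, Category.assoc]
  congr 1
  rw [show D.KZ.d (p : ℤ) ((p + 1 : ℕ) : ℤ) = _ from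
    D.K.extend_d_eq ComplexShape.embeddingUpNat (i := p) (j := p + 1) rfl rfl]
  exact Iso.inv_hom_id_assoc _ _

/-- The terms of a de Rham complex are acyclic over affine opens. -/
theorem isTAcyclic_KZ (hU : IsAffineOpen U) (n : ℤ) :
    IsTAcyclic.{u} (CohCx.freeSheaf (Opens.grothendieckTopology X) U) (D.KZ.X n) := by
  intro q
  by_cases hn : 0 ≤ n
  · obtain ⟨p, rfl⟩ := Int.eq_ofNat_of_zero_le hn
    have := subsingleton_ext_of_isAffineOpen (isQCoh_term D p) hU q
    exact (E1Deg.extCongrRight.{u} _ (kzIso D p) (q + 1)).toEquiv.subsingleton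
  · have hz := D.KZ.isZero_of_isStrictlyGE 0 n (by omega)
    refine ⟨fun x y => ?_⟩
    have e : ∀ z : Abelian.Ext.{u} (CohCx.freeSheaf (Opens.grothendieckTopology X) U) (D.KZ.X n) (q + 1),
        z = 0 := fun z => by
      rw [← Abelian.Ext.comp_mk₀_id z, hz.eq_of_src (𝟙 _) 0, Abelian.Ext.mk₀_zero,
        Abelian.Ext.comp_zero]
    rw [e x, e y]

/-- de Rham cohomology of `Spec A` over `Spec R` is the cohomology of the forms of `A` over `R`. -/
theorem nonempty_HdR_addEquiv {A : Type u} [CommRing A] [Algebra R A]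
    (D : DeRhamSh.OmegaCx (Spec.map (CommRingCat.ofHom (algebraMap R A))))
    [HasDerivedCategory.{u} (Sheaf (Opens.grothendieckTopology ↥(Spec (CommRingCat.of A))) AddCommGrpCat.{u})]
    (d : ∀ p : ℕ, ↥(⋀[A]^p (Ω[A⁄R])) →ₗ[R] ↥(⋀[A]^(p + 1) (Ω[A⁄R])))
    (hd : DeRham.IsDiff (KaehlerDifferential.D R A) d) (n : ℕ) :
    Nonempty (DeRhamSh.HdR D (n : ℤ) ≃+ ↑(DeRham.H hd n)) := by
  set f := Spec.map (CommRingCat.ofHom (algebraMap R A))
  have hU := isAffineOpen_top (Spec (CommRingCat.of A))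
  let B : Type u := Γ(Spec (CommRingCat.of A), ⊤)
  let _ : Algebra R B := kAlg f ⊤
  let e : A ≃+* B := (Scheme.ΓSpecIso (CommRingCat.of A)).symm.commRingCatIsoToRingEquiv
  let _ : Algebra A B := e.toRingHom.toAlgebra
  let _ : Algebra B A := e.symm.toRingHom.toAlgebra
  have he : ∀ r, algebraMap R B r = e (algebraMap R A r) := fun r => by
    exact (congr($(f.app_eq_appLE) _)).symm.trans (OmAff.appTop_toΓ (A := R) (B := A) r)
  have : IsScalarTower R A B := IsScalarTower.of_algebraMap_eq he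
  have : IsScalarTower R B A := IsScalarTower.of_algebraMap_eq fun r =>
    ((congrArg e.symm (he r)).trans (e.symm_apply_apply _)).symm
  obtain ⟨ψ, hψ⟩ := Groth.Agent.S15293.result R R A B
  obtain ⟨φ, hφ⟩ := Groth.Agent.S15293.result R R B A
  have hd' : DeRham.IsDiff (KaehlerDifferential.D R B) (fun p => formDLin D p hU) :=
    ⟨formDLin_isRule D hU, fun p => LinearMap.ext fun z => by
      refine (secForm D (p + 1 + 1) hU).injective ?_
      show secForm D _ hU (formD D (p + 1) hU (formD D p hU z)) = secForm D _ hU 0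
      rw [secForm_formD, secForm_formD, map_zero]
      exact congr($(D.K.d_comp_d p (p + 1) (p + 1 + 1)).hom.app (op ⊤) (secForm D p hU z))⟩
  have hc := Groth.Agent.S15294.result R R A B d hd _ hd' ψ hψ
  have hφψ : ∀ p x, φ p (ψ p x) = x := fun p x =>
    Synt29.DRGen.gen_induction (KaehlerDifferential.D R A) (KaehlerDifferential.span_range_derivation R A)
      (P := fun x => φ p (ψ p x) = x) (by simp only [map_zero])
      (fun x y hx hy => by simp only [map_add, hx, hy])
      (fun b₀ b => by rw [hψ, hφ]; simp [RingHom.algebraMap_toAlgebra]) x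
  have hψφ : ∀ p x, ψ p (φ p x) = x := fun p x =>
    Synt29.DRGen.gen_induction (KaehlerDifferential.D R B) (KaehlerDifferential.span_range_derivation R B)
      (P := fun x => ψ p (φ p x) = x) (by simp only [map_zero])
      (fun x y hx hy => by simp only [map_add, hx, hy])
      (fun b₀ b => by rw [hφ, hψ]; simp [RingHom.algebraMap_toAlgebra]) x
  let ψe : ∀ p, ↥(⋀[A]^p (Ω[A⁄R])) ≃+ ↥(⋀[B]^p (Ω[B⁄R])) := fun p =>
    { ψ p with invFun := φ p, left_inv := hφψ p, right_inv := hψφ p }
  obtain ⟨eH⟩ := nonempty_homology_addEquiv_HT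
    (CohCx.freeSheaf (Opens.grothendieckTopology (Spec (CommRingCat.of A))) ⊤) D.KZ (isTAcyclic_KZ D hU)
    (DeRham.cx hd) (fun p => (ψe p).trans (formHom D p hU))
    (fun p x => by
      have hx : (((DeRham.cx hd).d p (p + 1)).hom x) = d p x := by
        simp only [DeRham.cx, CochainComplex.of_d]; rfl
      rw [hx]
      refine ((formHom_d D p hU _ rfl (ψ p x)).trans (Category.comp_id _)).trans ?_
      exact congrArg (formHom D (p + 1) hU) (hc p x).symm) n
  exact ⟨eH.symm⟩

end Groth.Agent.DRHyp
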