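import Groth.Prelude.Def_AnHol
import Groth.Agent.KFlatLib.Scheme.Pullback
import Groth.Agent.KFlatLib.Scheme.Exact
import Groth.Agent.AnLocal.Compare
import Mathlib.Algebra.Category.ModuleCat.Stalk
import Mathlib.Algebra.Homology.ShortComplex.ExactFunctor
import Mathlib.CategoryTheory.Functor.ReflectsIso.Balanced
import Mathlib.RingTheory.Flat.FaithfullyFlat.Algebra

/-!
# Stalks of analytified modules
-/

set_option autoImplicit false
set_option backward.isDefEq.respectTransparency.types false

open CategoryTheory CategoryTheory.Limits AlgebraicGeometry TopologicalSpace Opposite TensorProduct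

noncomputable section

namespace Groth.Agent.DRHyp.AnStalk

variable {X : Scheme.{0}} [X.Over An.SC] (x : An.Pts X)

/-- The analytic local ring. -/
abbrev A : CommRingCat.{0} := (An.holPresheaf X).stalk x

/-- An analytic module as a presheaf of modules over holomorphic functions. -/
abbrev pre (N : An.AnMod X) : PresheafOfModules.{0} (An.holPresheaf X ⋙ forget₂ CommRingCat RingCat) :=
  N.val

/-- The stalk of an analytic module. -/
abbrev st (N : An.AnMod X) : ModuleCat.{0} (A x) :=
  ModuleCat.of (A x) ↑(TopCat.Presheaf.stalk (pre N).presheaf x)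

/-- Germs. -/
def germ {N : An.AnMod X} (U : Opens (An.top X)) (hU : x ∈ U) : N.val.obj (op U) →+ st x N :=
  (TopCat.Presheaf.germ (C := AddCommGrpCat.{0}) (pre N).presheaf U x hU).hom

theorem germ_smul {N : An.AnMod X} (U : Opens (An.top X)) (hU : x ∈ U)
    (r : (An.holPresheaf X).obj (op U)) (m : (pre N).obj (op U)) :
    germ x U hU (r • m) = (An.holPresheaf X).germ U x hU r • germ (N := N) x U hU m :=
  PresheafOfModules.germ_smul (pre N) x U hU r m

theorem germ_res {N : An.AnMod X} {U V : Opens (An.top X)} (i : V ⟶ U) (hV : x ∈ V)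
    (s : (pre N).obj (op U)) :
    germ x V hV ((pre N).presheaf.map i.op s) = germ x U (i.le hV) s :=
  TopCat.Presheaf.germ_res_apply (pre N).presheaf i x hV s

theorem exists_germ {N : An.AnMod X} (m : st x N) :
    ∃ (U : Opens (An.top X)) (hU : x ∈ U) (s : (pre N).obj (op U)), germ x U hU s = m := by
  obtain ⟨U, hU, s, h⟩ := TopCat.Presheaf.exists_germ_eq (C := AddCommGrpCat.{0}) (pre N).presheaf (x := x) m
  exact ⟨U, hU, s, h⟩

theorem exists_germ_smul {N : An.AnMod X} (r : A x) (m : st x N) :
    ∃ (U : Opens (An.top X)) (hU : x ∈ U) (a : (An.holPresheaf X).obj (op U)) (s : (pre N).obj (op U)),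
      (An.holPresheaf X).germ U x hU a = r ∧ germ x U hU s = m := by
  obtain ⟨U, hU, a, rfl⟩ := (An.holPresheaf X).exists_germ_eq (x := x) r
  obtain ⟨V, hV, s, rfl⟩ := exists_germ x m
  exact ⟨U ⊓ V, ⟨hU, hV⟩, (An.holPresheaf X).map (homOfLE inf_le_left).op a,
    (pre N).presheaf.map (homOfLE inf_le_right).op s,
    TopCat.Presheaf.germ_res_apply _ _ _ _ _, germ_res _ _ _ _⟩

/-- The map on stalks, additively. -/
def stMapAb {N N' : An.AnMod X} (φ : N ⟶ N') : st x N →+ st x N' :=
  ((TopCat.Presheaf.stalkFunctor (X := An.top X) AddCommGrpCat.{0} x).map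
    ((PresheafOfModules.toPresheaf _).map (show pre N ⟶ pre N' from φ.val))).hom

theorem stMapAb_germ {N N' : An.AnMod X} (φ : N ⟶ N') (U : Opens (An.top X)) (hU : x ∈ U)
    (s : (pre N).obj (op U)) :
    stMapAb x φ (germ x U hU s) = germ x U hU ((show pre N ⟶ pre N' from φ.val).app (op U) s) :=
  TopCat.Presheaf.stalkFunctor_map_germ_apply U x hU
    ((PresheafOfModules.toPresheaf _).map (show pre N ⟶ pre N' from φ.val)) s

/-- The map on stalks. -/
def stMap {N N' : An.AnMod X} (φ : N ⟶ N') : st x N →ₗ[A x] st x N' where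
  toFun := stMapAb x φ
  map_add' := map_add _
  map_smul' r m := by
    obtain ⟨U, hU, a, s, rfl, rfl⟩ := exists_germ_smul x r m
    rw [RingHom.id_apply, ← germ_smul, stMapAb_germ, stMapAb_germ, ← germ_smul]
    exact congrArg _ (map_smul ((show pre N ⟶ pre N' from φ.val).app (op U)).hom a s)

theorem stMap_germ {N N' : An.AnMod X} (φ : N ⟶ N') (U : Opens (An.top X)) (hU : x ∈ U)
    (s : (pre N).obj (op U)) :
    stMap x φ (germ x U hU s) = germ x U hU ((show pre N ⟶ pre N' from φ.val).app (op U) s) :=
  stMapAb_germ x φ U hU s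

/-- The stalk functor. -/
def stFunctor : An.AnMod X ⥤ ModuleCat.{0} (A x) where
  obj := st x
  map φ := ModuleCat.ofHom (stMap x φ)
  map_id N := by
    refine ModuleCat.hom_ext (LinearMap.ext fun m => ?_)
    obtain ⟨U, hU, s, rfl⟩ := exists_germ x m
    exact stMap_germ x _ U hU s
  map_comp φ ψ := by
    refine ModuleCat.hom_ext (LinearMap.ext fun m => ?_)
    obtain ⟨U, hU, s, rfl⟩ := exists_germ x m
    exact (stMap_germ x _ U hU s).trans
      (((congrArg (stMap x ψ) (stMap_germ x φ U hU s)).trans (stMap_germ x ψ U hU _)).symm)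

theorem hom_ext {N : An.AnMod X} {P : ModuleCat.{0} (A x)} {f g : st x N ⟶ P}
    (h : ∀ (U : Opens (An.top X)) (hU : x ∈ U) (s : (pre N).obj (op U)),
      f (germ x U hU s) = g (germ x U hU s)) : f = g := by
  refine ModuleCat.hom_ext (LinearMap.ext fun m => ?_)
  obtain ⟨U, hU, s, rfl⟩ := exists_germ x m
  exact h U hU s

variable (P : ModuleCat.{0} (A x))

/-- `P` over the sections on `U ∋ x`. -/
abbrev skyFib (U : Opens (An.top X)) (hU : x ∈ U) :
    ModuleCat.{0} ((An.holPresheaf X ⋙ forget₂ CommRingCat RingCat.{0}).obj (op U)) :=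
  (ModuleCat.restrictScalars ((An.holPresheaf X).germ U x hU).hom).obj P

/-- Sections of the skyscraper. -/
abbrev skyObj (U : (Opens (An.top X))ᵒᵖ) :
    ModuleCat.{0} ((An.holPresheaf X ⋙ forget₂ CommRingCat RingCat.{0}).obj U) :=
  ModuleCat.of _ (∀ h : PLift (x ∈ U.unop), skyFib x P U.unop h.down)

/-- The skyscraper presheaf. -/
def skyP : PresheafOfModules.{0} (An.holPresheaf X ⋙ forget₂ CommRingCat RingCat.{0}) where
  obj := skyObj x P
  map {U V} i := ModuleCat.ofHom
    (Y := (ModuleCat.restrictScalars
      ((An.holPresheaf X ⋙ forget₂ CommRingCat RingCat.{0}).map i).hom).obj (skyObj x P V))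
    { toFun := fun s h => s ⟨i.unop.le h.down⟩
      map_add' := fun _ _ => rfl
      map_smul' := fun r s => by
        funext h
        change (An.holPresheaf X).germ U.unop x (i.unop.le h.down) r • (s ⟨i.unop.le h.down⟩ : P) =
          (An.holPresheaf X).germ V.unop x h.down ((An.holPresheaf X).map i r) • (s ⟨i.unop.le h.down⟩ : P)
        exact congrArg (fun t => t • (s ⟨i.unop.le h.down⟩ : P))
          (TopCat.Presheaf.germ_res_apply (An.holPresheaf X) i.unop x h.down r).symm }
  map_id U := by
    apply ModuleCat.hom_ext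
    exact LinearMap.ext fun s => rfl
  map_comp i j := by
    apply ModuleCat.hom_ext
    exact LinearMap.ext fun s => rfl

theorem isSheaf_skyP : Presheaf.IsSheaf (Opens.grothendieckTopology (An.top X)) (skyP x P).presheaf := by
  refine (TopCat.Presheaf.isSheaf_iff_isSheafUniqueGluing (C := AddCommGrpCat.{0})
    (skyP x P).presheaf).2 ?_
  intro ι U sf hsf
  classical
  refine ⟨fun h => (sf (Opens.mem_iSup.1 h.down).choose ⟨(Opens.mem_iSup.1 h.down).choose_spec⟩ : P),
    fun i => ?_, fun s hs => ?_⟩
  · funext h
    have h' := congrArg (fun t : (skyP x P).obj _ =>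
        (t (⟨(Opens.mem_iSup.1 (Opens.mem_iSup.2 ⟨i, h.down⟩ : x ∈ iSup U)).choose_spec, h.down⟩ :
          PLift (x ∈ U (Opens.mem_iSup.1 (Opens.mem_iSup.2 ⟨i, h.down⟩ : x ∈ iSup U)).choose ⊓ U i))
            : P))
      (hsf (Opens.mem_iSup.1 (Opens.mem_iSup.2 ⟨i, h.down⟩ : x ∈ iSup U)).choose i)
    exact h'
  · funext h
    exact congrArg (fun t : (skyP x P).obj _ =>
        (t ⟨(Opens.mem_iSup.1 h.down).choose_spec⟩ : P)) (hs (Opens.mem_iSup.1 h.down).choose)

/-- The skyscraper module. -/
def skyObjM : An.AnMod X where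
  val := skyP x P
  isSheaf := isSheaf_skyP x P

/-- The skyscraper functor. -/
def sky : ModuleCat.{0} (A x) ⥤ An.AnMod X where
  obj P := skyObjM x P
  map {P P'} f :=
    ⟨({ app := fun U => ModuleCat.ofHom (X := skyObj x P U) (Y := skyObj x P' U)
          { toFun := fun s h => f.hom (s h)
            map_add' := fun s t => funext fun h => map_add f.hom (s h) (t h)
            map_smul' := fun r s => funext fun h =>
              map_smul f.hom ((An.holPresheaf X).germ U.unop x h.down r) (s h) }
        naturality := fun {U V} i => rfl } : skyP x P ⟶ skyP x P')⟩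
  map_id P := rfl
  map_comp f g := rfl

/-- The map out of a stalk from a map into a skyscraper, additively. -/
def ofSkyAb {N : An.AnMod X} (ψ : N ⟶ (sky x).obj P) : st x N →+ P :=
  (colimit.desc ((OpenNhds.inclusion (X := An.top X) x).op ⋙ (pre N).presheaf)
    { pt := AddCommGrpCat.of P
      ι :=
        { app := fun U => AddCommGrpCat.ofHom
            { toFun := fun s => ((show pre N ⟶ skyP x P from ψ.val).app (op U.unop.1) s ⟨U.unop.2⟩ : P)
              map_zero' := congrArg (fun t : (skyP x P).obj _ => (t ⟨U.unop.2⟩ : P))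
                (map_zero ((show pre N ⟶ skyP x P from ψ.val).app (op U.unop.1)).hom)
              map_add' := fun a b => congrArg (fun t : (skyP x P).obj _ => (t ⟨U.unop.2⟩ : P))
                (map_add ((show pre N ⟶ skyP x P from ψ.val).app (op U.unop.1)).hom a b) }
          naturality := fun U V i => by
            ext s
            exact congrArg (fun t : (skyP x P).obj (op V.unop.1) => (t ⟨V.unop.2⟩ : P))
              (PresheafOfModules.naturality_apply (show pre N ⟶ skyP x P from ψ.val)
                (show V.unop.1 ⟶ U.unop.1 from (OpenNhds.inclusion (X := An.top X) x).map i.unop).op s) } }).hom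

theorem ofSkyAb_germ {N : An.AnMod X} (ψ : N ⟶ (sky x).obj P) (U : Opens (An.top X)) (hU : x ∈ U)
    (s : (pre N).obj (op U)) :
    ofSkyAb x P ψ (germ x U hU s) = ((show pre N ⟶ skyP x P from ψ.val).app (op U) s ⟨hU⟩ : P) :=
  ConcreteCategory.congr_hom (colimit.ι_desc (F := (OpenNhds.inclusion x).op ⋙ (pre N).presheaf) _
    (op ⟨U, hU⟩)) s

/-- The stalk functor is left adjoint to the skyscraper functor. -/
def skyAdj : stFunctor x ⊣ sky x :=
  Adjunction.mkOfHomEquiv
    { homEquiv := fun N P =>
        { toFun := fun φ => ⟨({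
            app := fun U => ModuleCat.ofHom (Y := skyObj x P U)
              { toFun := fun s h => φ.hom (germ x U.unop h.down s)
                map_add' := fun s t => funext fun h => by
                  exact (congrArg φ.hom (map_add (germ x U.unop h.down) s t)).trans (map_add φ.hom _ _)
                map_smul' := fun r s => funext fun h => by
                  change φ.hom (germ (N := N) x U.unop h.down (r • s)) =
                    (An.holPresheaf X).germ U.unop x h.down r • φ.hom (germ x U.unop h.down s)
                  rw [germ_smul]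
                  exact map_smul φ.hom _ _ }
            naturality := fun {U V} i => by
              apply ModuleCat.hom_ext
              exact LinearMap.ext fun s => funext fun h =>
                congrArg φ.hom (germ_res x i.unop h.down s) } : pre N ⟶ skyP x P)⟩
          invFun := fun ψ => ModuleCat.ofHom
            { toFun := ofSkyAb x P ψ
              map_add' := map_add _
              map_smul' := fun r m => by
                obtain ⟨U, hU, a, s, rfl, rfl⟩ := exists_germ_smul x r m
                rw [RingHom.id_apply, ← germ_smul, ofSkyAb_germ, ofSkyAb_germ]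
                exact congrArg (fun t : (skyP x P).obj (op U) => (t ⟨hU⟩ : P))
                  (map_smul ((show pre N ⟶ skyP x P from ψ.val).app (op U)).hom a s) }
          left_inv := fun φ => hom_ext x fun U hU s => ofSkyAb_germ x P _ U hU s
          right_inv := fun ψ => by
            refine SheafOfModules.hom_ext (PresheafOfModules.Hom.ext (funext fun U => ?_))
            apply ModuleCat.hom_ext
            exact LinearMap.ext fun s => funext fun h => ofSkyAb_germ x P ψ U.unop h.down s }
      homEquiv_naturality_left_symm := fun {N' N P} g ψ => hom_ext x fun U hU s => by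
        refine (ofSkyAb_germ x P (g ≫ ψ) U hU s).trans ?_
        refine ((congrArg (ofSkyAb x P ψ) (stMap_germ x g U hU s)).trans ?_).symm
        exact ofSkyAb_germ x P ψ U hU _
      homEquiv_naturality_right := fun {N P P'} φ g => rfl }

/-- The direct image of a skyscraper is a skyscraper. -/
def skyPushIso : sky x ⋙ An.anPush X ≅
    ModuleCat.restrictScalars (AnLocal.ψ x) ⋙ KFlatLib.sky (x.pt : X) :=
  NatIso.ofComponents
    (fun P => (SheafOfModules.fullyFaithfulForget _).preimageIso
      (PresheafOfModules.isoMk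
        (fun U => LinearEquiv.toModuleIso
          ({ toFun := fun s => fun (h : PLift (x.pt ∈ U.unop)) => (s ⟨h.down⟩ : P)
             invFun := fun s => fun (h : PLift (x ∈ (An.baseF X).obj U.unop)) => (s ⟨h.down⟩ : P)
             map_add' := fun _ _ => rfl
             map_smul' := fun r s => funext fun h => by
               change HSMul.hSMul (α := A x) (β := P) (γ := P)
                   ((An.holPresheaf X).germ _ x h.down ((An.anToScheme X).c.app U r)) (s ⟨h.down⟩) =
                 HSMul.hSMul (α := A x) (β := P) (γ := P)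
                   (AnLocal.ψ x (X.presheaf.germ U.unop x.pt h.down r)) (s ⟨h.down⟩)
               exact congrArg (fun t : A x => HSMul.hSMul (α := A x) (β := P) (γ := P) t (s ⟨h.down⟩))
                 (ConcreteCategory.congr_hom (PresheafedSpace.stalkMap_germ (An.anToScheme X) U.unop x h.down) r).symm
             left_inv := fun _ => rfl
             right_inv := fun _ => rfl } :
            ((((sky x ⋙ An.anPush X).obj P).val.obj U : Type)) ≃ₗ[_]
              (KFlatLib.skyObj (x.pt : X) ((ModuleCat.restrictScalars (AnLocal.ψ x)).obj P) U : Type)))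
        (fun U V i => by apply ModuleCat.hom_ext; exact LinearMap.ext fun s => rfl)))
    (fun {P P'} g => rfl)

/-- `(M^an)_x ≅ O^an_x ⊗ M_x`. -/
def stalkIso : An.analytify X ⋙ stFunctor x ≅
    DerSch.stalkFunctor X (x.pt : X) ⋙ ModuleCat.extendScalars (AnLocal.ψ x) :=
  ((An.analytifyAdj X).comp (skyAdj x)).leftAdjointUniq
    (((KFlatLib.skyAdj (x.pt : X)).comp (ModuleCat.extendRestrictScalarsAdj (AnLocal.ψ x))).ofNatIsoRight
      (skyPushIso x).symm)

/-- Maps injective on all stalks are monomorphisms. -/
theorem mono_of_stalk {N N' : An.AnMod X} (φ : N ⟶ N') (h : ∀ y, Function.Injective (stMap y φ)) : Mono φ := by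
  refine (SheafOfModules.forget _).mono_of_mono_map ?_
  refine PresheafOfModules.mono_of_injective fun U => ?_
  refine (injective_iff_map_eq_zero _).2 fun s hs => ?_
  refine TopCat.Presheaf.section_ext (⟨(pre N).presheaf, N.isSheaf⟩ : TopCat.Sheaf AddCommGrpCat.{0} _)
    U.unop _ _ fun y hy => ?_
  refine Eq.trans (h y ?_) (map_zero (germ (N := N) y U.unop hy)).symm
  rw [map_zero]
  exact (stMap_germ y φ U.unop hy s).trans ((congrArg (germ (N := N') y U.unop hy) hs).trans (map_zero _))

variable [LocallyOfFiniteType (X ↘ An.SC)]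

/-- A morphism of modules is zero if it is zero on stalks at complex points. -/
theorem eq_zero_of_stalk {M N : X.Modules} (φ : M ⟶ N)
    (h : ∀ (y : An.Pts X) (m : (DerSch.stalkFunctor X (y.pt : X)).obj M),
      (DerSch.stalkFunctor X (y.pt : X)).map φ m = 0) : φ = 0 := by
  refine SheafOfModules.hom_ext (PresheafOfModules.Hom.ext (funext fun U => ModuleCat.hom_ext
    (LinearMap.ext fun s => ?_)))
  let t : Γ(N, U.unop) := φ.app U.unop s
  show t = 0
  refine TopCat.Presheaf.section_ext (⟨N.presheaf, N.isSheaf⟩ : TopCat.Sheaf AddCommGrpCat.{0} _)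
    U.unop _ _ fun z hz => ?_
  rw [map_zero]
  let S : Set ↥U.unop := {z | N.presheaf.germ U.unop z.1 z.2 t = 0}
  have hS : IsOpen S := isOpen_iff_forall_mem_open.2 fun w hw => by
    obtain ⟨W, hW, i, i', e⟩ := TopCat.Presheaf.germ_eq (C := AddCommGrpCat.{0}) N.presheaf w.1 w.2 w.2 t 0
      (Eq.trans hw (map_zero _).symm)
    refine ⟨Subtype.val ⁻¹' (W : Set X), fun v hv => ?_, W.2.preimage continuous_subtype_val, hW⟩
    show N.presheaf.germ U.unop v.1 v.2 t = 0
    rw [← TopCat.Presheaf.germ_res_apply (C := AddCommGrpCat.{0}) N.presheaf i v.1 hv t, e, map_zero, map_zero]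
  by_contra hne
  let O : X.Opens := ⟨Subtype.val '' S, U.unop.2.isOpenMap_subtype_val _ hS⟩
  have hmem : z ∈ (U.unop : Set X) \ O := ⟨hz, fun ⟨w, hw, e⟩ => hne (by subst e; exact hw)⟩
  obtain ⟨y, hy, hy'⟩ := AnPts.exists_pt_mem
    (S := (U.unop : Set X) \ O) (U.unop.2.isLocallyClosed.inter O.2.isClosed_compl.isLocallyClosed) ⟨z, hmem⟩
  refine hy' ⟨⟨y.pt, hy⟩, ?_, rfl⟩
  have := h y (M.presheaf.germ U.unop y.pt hy s)
  rw [DerSch.stalkFunctor_map_germ] at this
  exact this

variable [IsReduced X]

theorem extend_injective {M M' : ModuleCat.{0} (X.presheaf.stalk x.pt)} (f : M ⟶ M')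
    (hf : Function.Injective f) :
    Function.Injective ((ModuleCat.extendScalars (AnLocal.ψ x)).map f) := by
  let _ : Algebra (X.presheaf.stalk x.pt) (A x) := (AnLocal.ψ x).toAlgebra
  have : Module.Flat (X.presheaf.stalk x.pt) (A x) := AnLocal.flat_ψ x
  exact Module.Flat.lTensor_preserves_injective_linearMap (M := A x) f.hom hf

theorem extend_faithful {M M' : ModuleCat.{0} (X.presheaf.stalk x.pt)} (f : M ⟶ M')
    (hf : (ModuleCat.extendScalars (AnLocal.ψ x)).map f = 0) (m : M) : f m = 0 := by
  let _ : Algebra (X.presheaf.stalk x.pt) (A x) := (AnLocal.ψ x).toAlgebra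
  have : Module.Flat (X.presheaf.stalk x.pt) (A x) := AnLocal.flat_ψ x
  have : IsLocalRing (A x) := AnLocal.isLocalRing_anStalk x
  have : IsLocalHom (algebraMap (X.presheaf.stalk x.pt) (A x)) := AnLocal.isLocalHom_ψ x
  have : Module.FaithfullyFlat (X.presheaf.stalk x.pt) (A x) := Module.FaithfullyFlat.of_flat_of_isLocalHom
  refine Module.FaithfullyFlat.tensorProduct_mk_injective (A := X.presheaf.stalk x.pt) (B := A x) M' ?_
  rw [map_zero]
  exact congrArg (fun g => g.hom ((1 : A x) ⊗ₜ[X.presheaf.stalk x.pt] m)) hf

variable (X)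

instance additive_anPush : (An.anPush X).Additive where

/-- Analytification preserves monomorphisms. -/
theorem analytify_map_mono {M M' : X.Modules} (φ : M ⟶ M') [Mono φ] : Mono ((An.analytify X).map φ) := by
  refine mono_of_stalk _ fun y => ?_
  have h1 : Function.Injective ((DerSch.stalkFunctor X (y.pt : X)).map φ) := by
    rw [← ModuleCat.mono_iff_injective]
    exact (((ShortComplex.mk (0 : M ⟶ M) φ zero_comp).map (DerSch.stalkFunctor X (y.pt : X))).exact_iff_mono
      ((DerSch.stalkFunctor X (y.pt : X)).map_zero _ _)).1 ((KFlatLib.exact_iff_stalk _).1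
        ((ShortComplex.exact_iff_mono (ShortComplex.mk (0 : M ⟶ M) φ zero_comp) rfl).2 inferInstance) y.pt)
  have h2 := (ModuleCat.mono_iff_injective _).2 (extend_injective y _ h1)
  have h3 : Mono ((An.analytify X ⋙ stFunctor y).map φ) :=
    ((MorphismProperty.monomorphisms _).arrow_mk_iso_iff
      (((Functor.mapArrowFunctor _ _).mapIso (stalkIso y)).app (Arrow.mk φ))).2 h2
  exact (ModuleCat.mono_iff_injective _).1 h3

theorem faithful_analytify : (An.analytify X).Faithful where
  map_injective {M N} f g h := by
    have : (An.analytify X).Additive := (An.analytifyAdj X).left_adjoint_additive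
    rw [← sub_eq_zero]
    refine eq_zero_of_stalk _ fun y m => extend_faithful y _ ?_ m
    have hnat := (stalkIso y).hom.naturality (f - g)
    rw [Functor.comp_map, Functor.map_sub, h, sub_self,
      show (stFunctor y).map (0 : (An.analytify X).obj M ⟶ _) = 0 from
        hom_ext y fun U hU s => (stMap_germ y _ U hU s).trans (map_zero _),
      zero_comp] at hnat
    exact (cancel_epi ((stalkIso y).hom.app M)).1 (hnat.symm.trans comp_zero.symm)

theorem analytify_exact :
    PreservesFiniteLimits (An.analytify X) ∧ PreservesFiniteColimits (An.analytify X) := by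
  have : (An.analytify X).Additive := (An.analytifyAdj X).left_adjoint_additive
  have : PreservesColimitsOfSize.{0, 0} (An.analytify X) := (An.analytifyAdj X).leftAdjoint_preservesColimits
  have hc : PreservesFiniteColimits (An.analytify X) := PreservesColimitsOfSize.preservesFiniteColimits _
  refine ⟨(Functor.preservesFiniteLimits_iff_forall_exact_map_and_mono _).2 fun S hS => ⟨?_, ?_⟩, hc⟩
  · have := hS.epi_g
    exact hS.exact.map_of_epi_of_preservesCokernel (An.analytify X) inferInstance inferInstance
  · have := hS.mono_f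
    exact analytify_map_mono X S.f

end Groth.Agent.DRHyp.AnStalk
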