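import Mathlib.RingTheory.Derivation.Basic
import Mathlib.RingTheory.Unramified.Finite
import Mathlib.RingTheory.Kaehler.Basic
import Mathlib.RingTheory.Etale.Kaehler
import Mathlib.RingTheory.Smooth.StandardSmoothCotangent
import Mathlib.RingTheory.IntegralClosure.Algebra.Basic
import Mathlib.Algebra.Algebra.Epi
import Mathlib.Algebra.CharP.Lemmas
import Mathlib.Algebra.CharP.Invertible
import Mathlib.FieldTheory.Perfect
import Mathlib.Data.Nat.Prime.Factorial

/-!
# Coordinates with dual derivations in characteristic `p`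
-/

set_option autoImplicit false

universe u

open scoped TensorProduct

namespace Groth.Agent.DRHyp.Cartier

variable {B : Type u} [CommRing B]

/-- Derivatives of `c * x ^ n`. -/
theorem iterate_mul_pow {A : Type u} [CommRing A] [Algebra A B] (D : Derivation A B B) {x : B}
    (hx : D x = 1) {c : B} (hc : D c = 0) (n : ℕ) :
    ∀ k, D^[k] (c * x ^ n) = c * (n.descFactorial k : B) * x ^ (n - k)
  | 0 => by simp
  | k + 1 => by
    rw [Function.iterate_succ_apply', iterate_mul_pow D hx hc n k, Derivation.leibniz,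
      Derivation.leibniz, Derivation.leibniz_pow, hx, hc, Derivation.map_natCast, smul_zero, smul_zero,
      add_zero, smul_zero, add_zero, Nat.descFactorial_succ]
    simp only [smul_eq_mul, nsmul_eq_mul, mul_one, Nat.sub_sub]
    push_cast
    ring

variable {p : ℕ} [Fact p.Prime] [CharP B p]

theorem p_eq_zero : (p : B) = 0 := CharP.cast_eq_zero B p

theorem isUnit_factorial {m : ℕ} (hm : m < p) : IsUnit (m.factorial : B) :=
  (CharP.isUnit_natCast_iff (Fact.out : p.Prime)).2 fun h =>
    (not_le.2 hm) ((Nat.Prime.dvd_factorial (Fact.out : p.Prime)).1 h)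

theorem derivation_pow_char {A : Type u} [CommRing A] [Algebra A B] (D : Derivation A B B) (f : B) :
    D (f ^ p) = 0 := by
  rw [Derivation.leibniz_pow, nsmul_eq_mul, p_eq_zero, zero_mul]

/-- Powers `p` of `B` and some coordinates generate a subring. -/
def gens (p : ℕ) {ι : Type*} (x : ι → B) (S : Set ι) : Subring B :=
  Subring.closure (Set.range (fun b : B => b ^ p) ∪ x '' S)

omit [Fact p.Prime] [CharP B p] in
theorem pow_mem_gens {ι : Type*} (x : ι → B) (S : Set ι) (b : B) : b ^ p ∈ gens p x S :=
  Subring.subset_closure (Or.inl ⟨b, rfl⟩)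

omit [Fact p.Prime] [CharP B p] in
theorem gens_mono {ι : Type*} (x : ι → B) {S T : Set ι} (h : S ⊆ T) : gens p x S ≤ gens p x T :=
  Subring.closure_mono (Set.union_subset_union_right _ (Set.image_mono h))

omit [Fact p.Prime] [CharP B p] in
theorem mem_gens_of_mem {ι : Type*} (x : ι → B) {S : Set ι} {i : ι} (h : i ∈ S) : x i ∈ gens p x S :=
  Subring.subset_closure (Or.inr ⟨i, h, rfl⟩)

theorem gens_empty {ι : Type*} (x : ι → B) {b : B} (hb : b ∈ gens p x ∅) : ∃ g, g ^ p = b := by
  induction hb using Subring.closure_induction with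
  | mem y hy =>
    rcases hy with ⟨c, rfl⟩ | ⟨i, hi, -⟩
    · exact ⟨c, rfl⟩
    · exact absurd hi (Set.notMem_empty i)
  | zero => exact ⟨0, zero_pow (Fact.out : p.Prime).ne_zero⟩
  | one => exact ⟨1, one_pow _⟩
  | add y z _ _ hy hz =>
    obtain ⟨a, rfl⟩ := hy
    obtain ⟨c, rfl⟩ := hz
    exact ⟨a + c, add_pow_char ..⟩
  | neg y _ hy =>
    obtain ⟨a, rfl⟩ := hy
    refine ⟨-a, eq_neg_of_add_eq_zero_left ?_⟩
    rw [← add_pow_char, neg_add_cancel, zero_pow (Fact.out : p.Prime).ne_zero]
  | mul y z _ _ hy hz =>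
    obtain ⟨a, rfl⟩ := hy
    obtain ⟨c, rfl⟩ := hz
    exact ⟨a * c, mul_pow a c p⟩

omit [CharP B p] in
/-- One coordinate can be brought to exponents less than `p`. -/
theorem exists_eq_sum {ι : Type*} (x : ι → B) (S : Set ι) (j : ι) {b : B}
    (hb : b ∈ gens p x (insert j S)) :
    ∃ a : ℕ → B, (∀ r, a r ∈ gens p x S) ∧ b = ∑ r ∈ Finset.range p, a r * x j ^ r := by
  classical
  let P := gens p x S
  let G : Set B := {y | ∃ (a : B) (k : ℕ), a ∈ P ∧ a * x j ^ k = y}
  have hG : ∀ y z, y ∈ G → z ∈ G → y * z ∈ G := by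
    rintro _ _ ⟨a, k, ha, rfl⟩ ⟨c, l, hc, rfl⟩
    exact ⟨a * c, k + l, mul_mem ha hc, by ring⟩
  have hmul : ∀ y z, y ∈ AddSubgroup.closure G → z ∈ AddSubgroup.closure G →
      y * z ∈ AddSubgroup.closure G := fun y z hy hz => by
    induction hy using AddSubgroup.closure_induction with
    | mem y hy =>
      induction hz using AddSubgroup.closure_induction with
      | mem z hz => exact AddSubgroup.subset_closure (hG y z hy hz)
      | zero => simp
      | add z z' _ _ h h' => rw [mul_add]; exact add_mem h h'
      | neg z _ h => rw [mul_neg]; exact neg_mem h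
    | zero => simp
    | add y y' _ _ h h' => rw [add_mul]; exact add_mem h h'
    | neg y _ h => rw [neg_mul]; exact neg_mem h
  have hbG : b ∈ AddSubgroup.closure G := by
    induction hb using Subring.closure_induction with
    | mem y hy =>
      refine AddSubgroup.subset_closure ?_
      rcases hy with hy | ⟨i, hi, rfl⟩
      · exact ⟨y, 0, Subring.subset_closure (Or.inl hy), by simp⟩
      · rcases hi with rfl | hi
        · exact ⟨1, 1, one_mem _, by simp⟩
        · exact ⟨x i, 0, mem_gens_of_mem x hi, by simp⟩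
    | zero => exact zero_mem _
    | one => exact AddSubgroup.subset_closure ⟨1, 0, one_mem _, by simp⟩
    | add y z _ _ hy hz => exact add_mem hy hz
    | neg y _ hy => exact neg_mem hy
    | mul y z _ _ hy hz => exact hmul y z hy hz
  have hp := (Fact.out : p.Prime).pos
  clear hb
  induction hbG using AddSubgroup.closure_induction with
  | mem y hy =>
    obtain ⟨a, k, ha, rfl⟩ := hy
    refine ⟨fun r => if r = k % p then a * (x j ^ (k / p)) ^ p else 0, fun r => ?_, ?_⟩
    · show (if r = k % p then a * (x j ^ (k / p)) ^ p else 0) ∈ gens p x S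
      split_ifs
      · exact mul_mem ha (pow_mem_gens x S _)
      · exact zero_mem _
    · simp only [ite_mul, zero_mul, Finset.sum_ite_eq', Finset.mem_range, Nat.mod_lt k hp, if_true]
      rw [mul_assoc, ← pow_mul, ← pow_add, Nat.div_add_mod']
  | zero => exact ⟨fun _ => 0, fun _ => zero_mem _, by simp⟩
  | add y z _ _ hy hz =>
    obtain ⟨a, ha, rfl⟩ := hy
    obtain ⟨c, hc, rfl⟩ := hz
    exact ⟨fun r => a r + c r, fun r => add_mem (ha r) (hc r),
      by simp only [add_mul, Finset.sum_add_distrib]⟩
  | neg y _ hy =>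
    obtain ⟨a, ha, rfl⟩ := hy
    exact ⟨fun r => -a r, fun r => neg_mem (ha r), by simp⟩

section Coords

variable {A : Type u} [CommRing A] [Algebra A B] {ι : Type*} [Fintype ι] {x : ι → B}
  {D : ι → Derivation A B B} (hD : ∀ i, D i (x i) = 1) (hD' : ∀ i j, i ≠ j → D i (x j) = 0)
  (hgen : gens p x Set.univ = ⊤)

include hD' in
theorem D_eq_zero_of_mem {i : ι} {S : Set ι} (hi : i ∉ S) {b : B} (hb : b ∈ gens p x S) :
    D i b = 0 := by
  induction hb using Subring.closure_induction with
  | mem y hy =>
    rcases hy with ⟨c, rfl⟩ | ⟨j, hj, rfl⟩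
    · exact derivation_pow_char _ c
    · exact hD' i j fun h => hi (h ▸ hj)
  | zero => exact map_zero _
  | one => exact Derivation.map_one_eq_zero _
  | add y z _ _ hy hz => rw [map_add, hy, hz, add_zero]
  | neg y _ hy => rw [map_neg, hy, neg_zero]
  | mul y z _ _ hy hz => rw [Derivation.leibniz, hy, hz, smul_zero, smul_zero, add_zero]

include hD hD' hgen in
theorem iterate_p_eq_zero (i : ι) (f : B) : (D i)^[p] f = 0 := by
  classical
  obtain ⟨a, ha, rfl⟩ := exists_eq_sum (p := p) x (Set.univ \ {i}) i (b := f) (by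
    rw [Set.insert_sdiff_singleton, Set.insert_eq_of_mem (Set.mem_univ i), hgen]
    exact Subring.mem_top f)
  have hs : ∀ (s : Finset ℕ) (g : ℕ → B) (k : ℕ),
      (D i)^[k] (∑ r ∈ s, g r) = ∑ r ∈ s, (D i)^[k] (g r) := by
    intro s g k
    induction k with
    | zero => simp
    | succ k ih => simp [Function.iterate_succ_apply', ih]
  rw [hs]
  refine Finset.sum_eq_zero fun r hr => ?_
  rw [iterate_mul_pow (D i) (hD i) (D_eq_zero_of_mem hD' (by simp) (ha r)),
    Nat.descFactorial_eq_zero_iff_lt.2 (Finset.mem_range.1 hr), Nat.cast_zero, mul_zero, zero_mul]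

/-- Taylor expansion in one coordinate. -/
theorem exists_taylor {i : ι} (hDi : D i (x i) = 1) :
    ∀ m ≤ p, ∀ f : B, (D i)^[m] f = 0 →
      ∃ c : ℕ → B, (∀ k, D i (c k) = 0) ∧
        (∀ (E : Derivation A B B), E (x i) = 0 → (∀ g, E (D i g) = D i (E g)) → E f = 0 → ∀ k, E (c k) = 0) ∧
        f = ∑ k ∈ Finset.range m, c k * x i ^ k
  | 0, _, f, hf => ⟨fun _ => 0, fun _ => map_zero _, fun E _ _ _ _ => map_zero E, by simpa using hf⟩
  | m + 1, hm, f, hf => by
    classical
    obtain ⟨u, hu⟩ := isUnit_factorial (B := B) (p := p) (show m < p by omega)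
    let e : B := ↑u⁻¹
    have he : e * (m.factorial : B) = 1 := by rw [← hu]; exact u.inv_mul
    have hek : ∀ E : Derivation A B B, E e = 0 := fun E => by
      have h := congrArg E he
      rw [Derivation.leibniz, Derivation.map_natCast, smul_zero, zero_add, Derivation.map_one_eq_zero,
        smul_eq_mul, ← hu] at h
      exact u.mul_right_eq_zero.1 h
    let c : B := e * (D i)^[m] f
    have hc : D i c = 0 := by
      rw [Derivation.leibniz, hek, smul_zero, add_zero,
        show D i ((D i)^[m] f) = (D i)^[m + 1] f from (Function.iterate_succ_apply' _ _ _).symm, hf,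
        smul_zero]
    have hf' : (D i)^[m] (f - c * x i ^ m) = 0 := by
      rw [iterate_map_sub (D i), iterate_mul_pow (D i) hDi hc m m, Nat.descFactorial_self, Nat.sub_self,
        pow_zero, mul_one, mul_right_comm, he, one_mul, sub_self]
    obtain ⟨c', hc', hc'', hsum⟩ := exists_taylor hDi m (by omega) _ hf'
    refine ⟨fun k => if k = m then c else c' k, fun k => ?_, fun E hEx hEc hEf k => ?_, ?_⟩
    · show D i (if k = m then c else c' k) = 0
      split_ifs
      · exact hc
      · exact hc' k
    · have hEm : E ((D i)^[m] f) = 0 := by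
        have : ∀ k, E ((D i)^[k] f) = 0 := fun k => by
          induction k with
          | zero => exact hEf
          | succ k ih => rw [Function.iterate_succ_apply', hEc, ih, map_zero]
        exact this m
      have hEcc : E c = 0 := by rw [Derivation.leibniz, hek, hEm, smul_zero, smul_zero, add_zero]
      show E (if k = m then c else c' k) = 0
      split_ifs
      · exact hEcc
      · refine hc'' E hEx hEc ?_ k
        rw [map_sub, hEf, Derivation.leibniz, hEcc, Derivation.leibniz_pow, hEx, smul_zero, smul_zero,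
          smul_zero, smul_zero, add_zero, sub_zero]
    · simp only [Finset.sum_range_succ, if_pos rfl]
      rw [sub_eq_iff_eq_add] at hsum
      refine hsum.trans (congrArg (· + _) ?_)
      exact Finset.sum_congr rfl fun k hk => by rw [if_neg (Finset.mem_range.1 hk).ne]

include hD hD' hgen in
/-- The constants are the powers `p`. -/
theorem exists_pow_eq {b : B} (hb : ∀ i, D i b = 0) : ∃ g, g ^ p = b := by
  classical
  suffices key : ∀ S : Finset ι, b ∈ gens p x (Set.univ \ (S : Set ι)) by
    refine gens_empty x ?_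
    have := key Finset.univ
    simpa using this
  intro S
  induction S using Finset.induction with
  | empty => simp [hgen]
  | insert j S hj ih =>
    obtain ⟨a, ha, hsum⟩ := exists_eq_sum (p := p) x (Set.univ \ (↑(insert j S) : Set ι)) j (b := b) (by
      refine gens_mono x ?_ ih
      intro l hl
      by_cases h : l = j
      · exact Or.inl h
      · exact Or.inr ⟨trivial, by simpa [h] using hl.2⟩)
    have haD : ∀ r, D j (a r) = 0 := fun r => D_eq_zero_of_mem hD' (by simp) (ha r)
    suffices hzero : ∀ r, 0 < r → r < p → a r = 0 by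
      rw [hsum, Finset.sum_eq_single 0 (fun r hr h0 => by
        rw [hzero r (Nat.pos_of_ne_zero h0) (Finset.mem_range.1 hr), zero_mul])
        (fun h => absurd (Finset.mem_range.2 (Fact.out : p.Prime).pos) h)]
      rw [pow_zero, mul_one]
      exact ha 0
    -- top coefficient first
    intro r
    induction hk : p - r using Nat.strong_induction_on generalizing r with
    | _ k IH =>
      intro hr0 hrp
      have h0 : (D j)^[r] b = 0 := by
        obtain ⟨r', rfl⟩ : ∃ r', r = r' + 1 := ⟨r - 1, by omega⟩
        rw [Function.iterate_succ_apply, hb j]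
        exact iterate_map_zero (D j) r'
      have hs : ∀ (s : Finset ℕ) (g : ℕ → B),
          (D j)^[r] (∑ l ∈ s, g l) = ∑ l ∈ s, (D j)^[r] (g l) := by
        intro s g
        clear h0 hk IH hr0 hrp
        induction r with
        | zero => simp
        | succ r ih => simp [Function.iterate_succ_apply', ih]
      rw [hsum, hs, Finset.sum_eq_single r (fun l hl hlr => ?_)
        (fun h => absurd (Finset.mem_range.2 hrp) h)] at h0
      · rw [iterate_mul_pow (D j) (hD j) (haD r) r r, Nat.descFactorial_self, Nat.sub_self, pow_zero,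
          mul_one] at h0
        exact (isUnit_factorial hrp).mul_left_eq_zero.1 h0
      · rw [iterate_mul_pow (D j) (hD j) (haD l) l r]
        rcases lt_or_gt_of_ne hlr with h | h
        · rw [Nat.descFactorial_eq_zero_iff_lt.2 h, Nat.cast_zero, mul_zero, zero_mul]
        · rw [IH (p - l) (by have := Finset.mem_range.1 hl; omega) l rfl (by omega)
            (Finset.mem_range.1 hl), zero_mul, zero_mul]

include hD in
/-- Forms `g^p x^(p-1) dx` are exact only if they vanish. -/
theorem eq_zero_of_exact [IsReduced B] (hgen' : gens p x Set.univ = ⊤)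
    (hD'' : ∀ i j, i ≠ j → D i (x j) = 0) {g : ι → B} {h : B}
    (hg : ∀ i, g i ^ p * x i ^ (p - 1) = D i h) (i : ι) : g i = 0 := by
  have hp := (Fact.out : p.Prime).pos
  have h1 : (D i)^[p - 1] (D i h) = 0 := by
    rw [← Function.iterate_succ_apply, Nat.succ_eq_add_one, Nat.sub_add_cancel hp]
    exact iterate_p_eq_zero hD hD'' hgen' i h
  rw [← hg i, iterate_mul_pow (D i) (hD i) (derivation_pow_char _ _) (p - 1) (p - 1),
    Nat.descFactorial_self, Nat.sub_self, pow_zero, mul_one] at h1
  exact IsReduced.eq_zero _ ⟨p, (isUnit_factorial (Nat.sub_lt hp Nat.one_pos)).mul_left_eq_zero.1 h1⟩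

include hD hD' hgen in
/-- Closed forms are exact up to forms `g^p x^(p-1) dx`. -/
theorem exists_of_closed (hcomm : ∀ i j f, D i (D j f) = D j (D i f)) {f : ι → B}
    (hf : ∀ i j, D i (f j) = D j (f i)) :
    ∃ (g : ι → B) (h : B), ∀ i, f i = g i ^ p * x i ^ (p - 1) + D i h := by
  classical
  have hp := (Fact.out : p.Prime).pos
  suffices key : ∀ S : Finset ι, ∃ (g : ι → B) (h : B),
      ∀ i ∈ S, f i = g i ^ p * x i ^ (p - 1) + D i h by
    obtain ⟨g, h, hgh⟩ := key Finset.univ
    exact ⟨g, h, fun i => hgh i (Finset.mem_univ i)⟩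
  intro S
  induction S using Finset.induction with
  | empty => exact ⟨0, 0, by simp⟩
  | insert j S hjS ih =>
    obtain ⟨g₀, h, hgh⟩ := ih
    let g : ι → B := fun i => if i ∈ S then g₀ i else 0
    let f₁ : ι → B := fun i => f i - g i ^ p * x i ^ (p - 1) - D i h
    have hf₁S : ∀ i ∈ S, f₁ i = 0 := fun i hi => by
      simp only [f₁, g, if_pos hi, hgh i hi]
      ring
    have hmono : ∀ i l, i ≠ l → D i (g l ^ p * x l ^ (p - 1)) = 0 := fun i l hil => by
      rw [Derivation.leibniz, derivation_pow_char (D i) (g l), Derivation.leibniz_pow, hD' i l hil]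
      simp
    have hf₁ : ∀ i l, D i (f₁ l) = D l (f₁ i) := fun i l => by
      rcases eq_or_ne i l with rfl | hil
      · rfl
      simp only [f₁, map_sub]
      rw [hf i l, hmono i l hil, hmono l i hil.symm, hcomm i l]
    obtain ⟨c, hc, hcE, hsum⟩ := exists_taylor (hD j) p le_rfl (f₁ j) (iterate_p_eq_zero hD hD' hgen j _)
    let k₀ := Finset.range (p - 1)
    have hu : ∀ k ∈ k₀, IsUnit ((k + 1 : ℕ) : B) := fun k hk =>
      (CharP.isUnit_natCast_iff (Fact.out : p.Prime)).2 fun hd => by
        have := Nat.le_of_dvd (by omega) hd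
        have := Finset.mem_range.1 hk
        omega
    let h₁ : B := ∑ k ∈ k₀, Ring.inverse ((k + 1 : ℕ) : B) * c k * x j ^ (k + 1)
    have hinv : ∀ (E : Derivation A B B) (k : ℕ), k ∈ k₀ → E (Ring.inverse ((k + 1 : ℕ) : B)) = 0 := by
      intro E k hk
      have h1 := congrArg E (Ring.inverse_mul_cancel _ (hu k hk))
      rw [Derivation.leibniz, Derivation.map_natCast, smul_zero, zero_add, Derivation.map_one_eq_zero,
        smul_eq_mul] at h1
      exact (hu k hk).mul_right_eq_zero.1 h1
    have hDh₁ : D j h₁ = f₁ j - c (p - 1) * x j ^ (p - 1) := by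
      rw [hsum, show Finset.range p = Finset.range (p - 1 + 1) by rw [Nat.sub_add_cancel hp],
        Finset.sum_range_succ, add_sub_cancel_right, map_sum]
      refine Finset.sum_congr rfl fun k hk => ?_
      rw [Derivation.leibniz, Derivation.leibniz, hinv _ k hk, hc k, Derivation.leibniz_pow, hD j,
        smul_zero, smul_zero, add_zero, smul_zero, add_zero, Nat.add_sub_cancel]
      simp only [smul_eq_mul, nsmul_eq_mul, mul_one]
      rw [mul_comm (Ring.inverse _) (c k), mul_assoc, ← mul_assoc (Ring.inverse _),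
        Ring.inverse_mul_cancel _ (hu k hk), one_mul]
    have hEf : ∀ i ∈ S, D i (f₁ j) = 0 := fun i hi => by rw [hf₁ i j, hf₁S i hi, map_zero]
    have hjne : ∀ i ∈ S, i ≠ j := fun i hi h => hjS (h ▸ hi)
    have hck : ∀ i ∈ S, ∀ k, D i (c k) = 0 := fun i hi =>
      hcE (D i) (hD' i j (hjne i hi)) (fun g => hcomm i j g) (hEf i hi)
    have hDih₁ : ∀ i ∈ S, D i h₁ = 0 := fun i hi => by
      rw [map_sum]
      refine Finset.sum_eq_zero fun k hk => ?_
      rw [Derivation.leibniz, Derivation.leibniz, hinv _ k hk, hck i hi k, Derivation.leibniz_pow,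
        hD' i j (hjne i hi)]
      simp
    have hcp : ∀ i, D i (c (p - 1)) = 0 := fun i => by
      rcases eq_or_ne i j with rfl | hij
      · exact hc _
      have h1 : D i (c (p - 1) * x j ^ (p - 1)) = D j (f₁ i - D i h₁) := by
        have e : c (p - 1) * x j ^ (p - 1) = f₁ j - D j h₁ := by rw [hDh₁]; ring
        rw [e, map_sub (D i) (f₁ j), map_sub (D j) (f₁ i), hf₁ i j, hcomm i j]
      rw [Derivation.leibniz, Derivation.leibniz_pow, hD' i j hij, smul_zero, smul_zero, smul_zero,
        zero_add, smul_eq_mul] at h1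
      have h2 : (D j)^[p - 1] (x j ^ (p - 1) * D i (c (p - 1))) = 0 := by
        rw [h1, ← Function.iterate_succ_apply, Nat.succ_eq_add_one, Nat.sub_add_cancel hp]
        exact iterate_p_eq_zero hD hD' hgen j _
      rw [mul_comm, iterate_mul_pow (D j) (hD j) (by rw [hcomm j i, hc, map_zero]) (p - 1) (p - 1),
        Nat.descFactorial_self, Nat.sub_self, pow_zero, mul_one] at h2
      exact (isUnit_factorial (Nat.sub_lt hp Nat.one_pos)).mul_left_eq_zero.1 h2
    obtain ⟨γ, hγ⟩ := exists_pow_eq hD hD' hgen hcp
    refine ⟨Function.update g j γ, h + h₁, fun i hi => ?_⟩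
    rcases Finset.mem_insert.1 hi with rfl | hiS
    · rw [Function.update_self, hγ, map_add, hDh₁]
      simp only [f₁, g, if_neg hjS, zero_pow (Fact.out : p.Prime).ne_zero, zero_mul, sub_zero]
      ring
    · rw [Function.update_of_ne (hjne i hiS), map_add, hDih₁ i hiS, add_zero]
      simp only [g, if_pos hiS]
      exact hgh i hiS

end Coords

section Gens

omit [Fact p.Prime] in
theorem eq_of_pow_mem [Fact p.Prime] {S : Subring B} [Algebra.FiniteType S B]
    [Algebra.FormallyUnramified S B] (h : ∀ b : B, b ^ p ∈ S) : S = ⊤ := by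
  rcases subsingleton_or_nontrivial B with hB | hB
  · exact eq_top_iff.2 fun b _ => (Subsingleton.elim b 0).symm ▸ zero_mem S
  have hint : Algebra.IsIntegral S B := ⟨fun b =>
    IsIntegral.of_pow (Fact.out : p.Prime).pos (isIntegral_algebraMap (x := (⟨b ^ p, h b⟩ : S)))⟩
  have : Module.Finite S B := Algebra.IsIntegral.finite
  obtain ⟨t, ht, ht1⟩ := Algebra.FormallyUnramified.iff_exists_tensorProduct.1 ‹_›
  have : CharP (B ⊗[S] B) p := by
    have : Nontrivial (B ⊗[S] B) := ⟨⟨1, 0, fun he => one_ne_zero (α := B) (by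
      have := congrArg (Algebra.TensorProduct.lmul' S (S := B)) he
      rwa [map_one, map_zero] at this)⟩⟩
    refine (CharP.charP_iff_prime_eq_zero (Fact.out : p.Prime)).2 ?_
    rw [← map_natCast (algebraMap B (B ⊗[S] B)) p, p_eq_zero, map_zero]
  have hI : ∀ z ∈ KaehlerDifferential.ideal S B, IsNilpotent z := by
    intro z hz
    rw [← KaehlerDifferential.span_range_eq_ideal] at hz
    induction hz using Submodule.span_induction with
    | mem y hy =>
      obtain ⟨s, rfl⟩ := hy
      refine ⟨p, ?_⟩
      rw [sub_pow_char, Algebra.TensorProduct.tmul_pow, Algebra.TensorProduct.tmul_pow, one_pow, sub_eq_zero]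
      have : s ^ p = (⟨s ^ p, h s⟩ : S) • (1 : B) := by rw [Subring.smul_def, smul_eq_mul, mul_one]
      rw [this]
      exact (TensorProduct.smul_tmul _ _ _).symm
    | zero => exact IsNilpotent.zero
    | add y z _ _ hy hz => exact (Commute.all y z).isNilpotent_add hy hz
    | smul a y _ hy => exact (Commute.all a y).isNilpotent_mul_left hy
  have hu : IsUnit t := by
    have hz : 1 - t ∈ KaehlerDifferential.ideal S B := by
      rw [KaehlerDifferential.ideal, RingHom.mem_ker, map_sub, map_one, ht1, sub_self]
    simpa using (hI _ hz).isUnit_one_sub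
  have : Algebra.IsEpi S B := (Algebra.isEpi_iff_forall_one_tmul_eq S B).2 fun s =>
    sub_eq_zero.1 (hu.mul_left_eq_zero.1 (ht s))
  have hs := Algebra.isEpi_iff_surjective_algebraMap_of_finite.1 this
  exact eq_top_iff.2 fun b _ => by
    obtain ⟨s, rfl⟩ := hs b
    exact s.2

/-- Differentials generating `Ω` give generators over the powers `p`. -/
theorem gens_eq_top {A : Type u} [CommRing A] [CharP A p] [PerfectRing A p] [Algebra A B]
    [Algebra.FiniteType A B] {ι : Type*} (x : ι → B)
    (hx : Submodule.span B (Set.range fun i => KaehlerDifferential.D A B (x i)) = ⊤) :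
    gens p x Set.univ = ⊤ := by
  let S := gens p x Set.univ
  have hA : ∀ a : A, algebraMap A B a ∈ S := fun a => by
    obtain ⟨c, hc⟩ := (PerfectRing.bijective_frobenius (R := A) (p := p)).2 a
    rw [← show c ^ p = a from hc, map_pow]
    exact pow_mem_gens x _ _
  let _ : Algebra A S := ((algebraMap A B).codRestrict S hA).toAlgebra
  have : IsScalarTower A S B := IsScalarTower.of_algebraMap_eq fun _ => rfl
  have : Algebra.FiniteType S B := Algebra.FiniteType.of_restrictScalars_finiteType A S B
  have : Algebra.FormallyUnramified S B := by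
    refine ⟨⟨fun a b => ?_⟩⟩
    suffices h : ∀ z : Ω[B⁄S], z = 0 by rw [h a, h b]
    intro z
    obtain ⟨w, rfl⟩ := KaehlerDifferential.map_surjective A S B z
    have hw : w ∈ Submodule.span B (Set.range fun i => KaehlerDifferential.D A B (x i)) := hx ▸ trivial
    induction hw using Submodule.span_induction with
    | mem y hy =>
      obtain ⟨i, rfl⟩ := hy
      rw [KaehlerDifferential.map_D]
      exact (KaehlerDifferential.D S B).map_algebraMap (⟨x i, mem_gens_of_mem x (Set.mem_univ i)⟩ : S)
    | zero => exact map_zero _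
    | add y y' _ _ hy hy' => rw [map_add, hy, hy', add_zero]
    | smul b y _ hy => rw [map_smul, hy, smul_zero]
  exact eq_of_pow_mem (p := p) (S := S) (pow_mem_gens x _)

end Gens

end Groth.Agent.DRHyp.Cartier
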