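import Groth.Prelude.Def_KLinDR
import Groth.Agent.TriCat.Resolve
import Groth.Agent.TriCat.Adapted
import Mathlib.Algebra.Homology.DerivedCategory.KInjective
import Mathlib.Algebra.Homology.HomotopyCategory.HomComplexSingle
import Mathlib.Algebra.Homology.HomotopyCategory.HomComplexCohomology
import Mathlib.Algebra.Homology.DerivedCategory.Ext.ExactSequences
import Mathlib.Algebra.Homology.DerivedCategory.Ext.EnoughInjectives
import Mathlib.Algebra.Homology.ShortComplex.Ab

/-!
# Classes of cocycles in hypercohomology; complexes of acyclic objects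

For a cochain complex `K` in an abelian category and a test object `T`, a morphism `f : T ⟶ Kⁿ`
killed by the differential has a class in `Hom_D(T, K⟦n⟧)`.  This is natural in `K`; for a bounded
below complex of `T`-acyclic objects every class is of this form and the zero class comes exactly
from the coboundaries.
-/

set_option autoImplicit false

universe w' w v u

open CategoryTheory CategoryTheory.Limits CochainComplex.HomComplex ZeroObject

namespace Groth.Agent.DRHyp

variable {A : Type u} [Category.{v} A] [Abelian A] [HasDerivedCategory.{w} A]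

/-- The class of a cochain map into a shift. -/
noncomputable def classMap {M : CochainComplex A ℤ} (K : CochainComplex A ℤ) (n : ℤ) (z : Cocycle M K n) :
    DerivedCategory.Q.obj M ⟶ (DerivedCategory.Q.obj K)⟦n⟧ :=
  DerivedCategory.Q.map (Cocycle.equivHomShift.symm z) ≫
    (DerivedCategory.Q.commShiftIso n).hom.app K

lemma classMap_add {M K : CochainComplex A ℤ} (n : ℤ) (z z' : Cocycle M K n) :
    classMap K n (z + z') = classMap K n z + classMap K n z' := by
  simp [classMap, Functor.map_add, Preadditive.add_comp]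

lemma classMap_zero {M : CochainComplex A ℤ} (K : CochainComplex A ℤ) (n : ℤ) :
    classMap K n (0 : Cocycle M K n) = 0 := by
  simp [classMap]

lemma classMap_postcomp {M K L : CochainComplex A ℤ} (n : ℤ) (z : Cocycle M K n) (φ : K ⟶ L) :
    classMap L n (z.postcomp φ) =
      classMap K n z ≫ (shiftFunctor (DerivedCategory A) n).map (DerivedCategory.Q.map φ) := by
  have := (DerivedCategory.Q.commShiftIso n).hom.naturality φ
  dsimp at this
  simp only [classMap, Cocycle.equivHomShift_symm_postcomp, Functor.map_comp, Category.assoc]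
  rw [this]

/-- The class in `Hom_D(T, K⟦n⟧)` of a cocycle `T ⟶ Kⁿ`. -/
noncomputable def cls (T : A) (K : CochainComplex A ℤ) (n : ℤ) (f : T ⟶ K.X n)
    (hf : f ≫ K.d n (n + 1) = 0) : E1Deg.HT T K n :=
  classMap K n (Cocycle.fromSingleMk f (zero_add n) (n + 1) rfl hf)

variable {T : A} {K L : CochainComplex A ℤ}

lemma cls_congr (n : ℤ) {f g : T ⟶ K.X n} (h : f = g) (hf : f ≫ K.d n (n + 1) = 0)
    (hg : g ≫ K.d n (n + 1) = 0) : cls T K n f hf = cls T K n g hg := by
  subst h; rfl

lemma cls_add (n : ℤ) (f g : T ⟶ K.X n) (hf : f ≫ K.d n (n + 1) = 0) (hg : g ≫ K.d n (n + 1) = 0) :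
    cls T K n (f + g) (by simp [hf, hg]) = cls T K n f hf + cls T K n g hg :=
  (congrArg (classMap K n) (Cocycle.fromSingleMk_add f g (zero_add n) (n + 1) rfl hf hg)).trans
    (classMap_add n _ _)

lemma cls_zero (n : ℤ) : cls T K n 0 (by simp) = 0 :=
  (congrArg (classMap K n) (Cocycle.fromSingleMk_zero T K (zero_add n) (n + 1) rfl)).trans
    (classMap_zero K n)

lemma cls_comp (φ : K ⟶ L) (n : ℤ) (f : T ⟶ K.X n) (hf : f ≫ K.d n (n + 1) = 0) :
    cls T L n (f ≫ φ.f n) (by simp [reassoc_of% hf]) = E1Deg.HTmap T φ n (cls T K n f hf) :=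
  (congrArg (classMap L n) (Cocycle.fromSingleMk_postcomp f (zero_add n) (n + 1) rfl hf φ)).trans
    (classMap_postcomp n _ φ)

/-- The class map on cocycles, as an additive map from the kernel of the differential. -/
noncomputable def clsHom (T : A) (K : CochainComplex A ℤ) (n : ℤ) :
    (Preadditive.rightComp T (K.d n (n + 1))).ker →+ E1Deg.HT T K n :=
  AddMonoidHom.mk' (fun f => cls T K n f.1 f.2) (fun f g => cls_add n f.1 g.1 f.2 g.2)

section KInjective

variable [L.IsKInjective]

omit [L.IsKInjective] in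
private lemma classMap_eq (n : ℤ) (z : Cocycle K L n) :
    classMap L n z = (DerivedCategory.quotientCompQhIso _).inv.app K ≫
      DerivedCategory.Qh.map (CohomologyClass.toHom (.mk z)) ≫
        (DerivedCategory.quotientCompQhIso _).hom.app (L⟦n⟧) ≫
          (DerivedCategory.Q.commShiftIso n).hom.app L := by
  simp only [classMap, CohomologyClass.toHom_mk]
  have h := (DerivedCategory.quotientCompQhIso A).hom.naturality (Cocycle.equivHomShift.symm z)
  dsimp at h
  rw [reassoc_of% h, Iso.inv_hom_id_app_assoc]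

theorem exists_classMap_eq {M : CochainComplex A ℤ} (L : CochainComplex A ℤ) [L.IsKInjective]
    (n : ℤ) (x : DerivedCategory.Q.obj M ⟶ (DerivedCategory.Q.obj L)⟦n⟧) :
    ∃ z : Cocycle M L n, classMap L n z = x := by
  obtain ⟨g, hg⟩ := (CochainComplex.IsKInjective.Qh_map_bijective
    ((HomotopyCategory.quotient _ _).obj M) (L⟦n⟧)).2
      ((DerivedCategory.quotientCompQhIso _).hom.app M ≫ x ≫
        (DerivedCategory.Q.commShiftIso n).inv.app L ≫
          (DerivedCategory.quotientCompQhIso _).inv.app (L⟦n⟧))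
  obtain ⟨c, rfl⟩ := (CohomologyClass.toHom_bijective _ L n).2 g
  obtain ⟨z, rfl⟩ := c.mk_surjective
  refine ⟨z, ?_⟩
  rw [classMap_eq, hg]
  simp

theorem classMap_eq_zero_iff {M : CochainComplex A ℤ} (L : CochainComplex A ℤ) [L.IsKInjective]
    (n : ℤ) (z : Cocycle M L n) : classMap L n z = 0 ↔ z ∈ coboundaries M L n := by
  rw [← CohomologyClass.toHom_mk_eq_zero_iff]
  constructor
  · intro h
    refine (CochainComplex.IsKInjective.Qh_map_bijective _ (L⟦n⟧)).1 ?_
    rw [Functor.map_zero]
    rw [classMap_eq, Preadditive.IsIso.comp_left_eq_zero, Preadditive.IsIso.comp_right_eq_zero] at h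
    exact h
  · intro h
    rw [classMap_eq, h, Functor.map_zero, zero_comp, comp_zero]

/-- For a K-injective complex every class is the class of a cocycle. -/
theorem exists_cls_eq_of_isKInjective (T : A) (L : CochainComplex A ℤ) [L.IsKInjective] (n : ℤ)
    (x : E1Deg.HT T L n) : ∃ f hf, cls T L n f hf = x := by
  obtain ⟨z, hz⟩ := exists_classMap_eq (M := (CochainComplex.singleFunctor A 0).obj T) L n x
  obtain ⟨f, hf, rfl⟩ := Cocycle.fromSingleMk_surjective z n (zero_add n) (n + 1) rfl
  exact ⟨f, hf, hz⟩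

/-- For a K-injective complex a class vanishes exactly on the coboundaries. -/
theorem cls_eq_zero_iff_of_isKInjective (T : A) (L : CochainComplex A ℤ) [L.IsKInjective] (n : ℤ)
    (f : T ⟶ L.X n) (hf : f ≫ L.d n (n + 1) = 0) :
    cls T L n f hf = 0 ↔ ∃ g : T ⟶ L.X (n - 1), g ≫ L.d (n - 1) n = f :=
  (classMap_eq_zero_iff L n _).trans
    (Cocycle.fromSingleMk_mem_coboundaries_iff f (zero_add n) (n + 1) rfl hf (n - 1) (by omega))

end KInjective

section Acyclic

variable [HasExt.{w'} A]

/-- `X` has no higher `Ext` out of `T`. -/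
def IsTAcyclic (T X : A) : Prop := ∀ i : ℕ, Subsingleton (Abelian.Ext.{w'} T X (i + 1))

lemma isTAcyclic_of_injective (T I : A) [Injective I] : IsTAcyclic.{w'} T I := fun _ =>
  ⟨fun x y => (Abelian.Ext.eq_zero_of_injective x).trans (Abelian.Ext.eq_zero_of_injective y).symm⟩

lemma isAdapted_isTAcyclic (T : A) :
    TriCat.IsAdapted (preadditiveCoyoneda.obj (Opposite.op T)) (IsTAcyclic.{w'} T) where
  zero Z hZ i := ⟨fun x y => by
    have h : ∀ z : Abelian.Ext.{w'} T Z (i + 1), z = 0 := fun z => by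
      rw [← Abelian.Ext.comp_mk₀_id z, hZ.eq_of_src (𝟙 Z) 0, Abelian.Ext.mk₀_zero,
        Abelian.Ext.comp_zero]
    rw [h x, h y]⟩
  ses S hS h₁ h₂ := by
    refine ⟨fun i => ⟨fun x y => ?_⟩, fun w => ?_⟩
    · have key : ∀ z : Abelian.Ext.{w'} T S.X₃ (i + 1), z = 0 := fun z => by
        obtain ⟨x₂, rfl⟩ := Abelian.Ext.covariant_sequence_exact₃ T hS z (n₁ := i + 1 + 1) rfl
          (@Subsingleton.elim _ (h₁ (i + 1)) _ _)
        rw [@Subsingleton.elim _ (h₂ i) x₂ 0, Abelian.Ext.zero_comp]
      rw [key x, key y]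
    · have := hS.mono_f
      refine { exact := (ShortComplex.ab_exact_iff _).2 fun (a : T ⟶ S.X₂) (ha : a ≫ S.g = 0) => ?_
               mono_f := (AddCommGrpCat.mono_iff_injective _).2
                fun (a b : T ⟶ S.X₁) (hab : a ≫ S.f = b ≫ S.f) => (cancel_mono S.f).1 hab
               epi_g := (AddCommGrpCat.epi_iff_surjective _).2 fun (c : T ⟶ S.X₃) => ?_ }
      · exact ⟨hS.exact.lift a ha, hS.exact.lift_f a ha⟩
      · obtain ⟨x₂, hx₂⟩ := Abelian.Ext.covariant_sequence_exact₃ T hS (Abelian.Ext.mk₀ c) (n₁ := 1)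
          rfl (@Subsingleton.elim _ (h₁ 0) _ _)
        obtain ⟨b, rfl⟩ := (Abelian.Ext.mk₀_bijective T S.X₂).2 x₂
        exact ⟨b, (Abelian.Ext.mk₀_bijective T S.X₃).1
          ((Abelian.Ext.mk₀_comp_mk₀ b S.g).symm.trans hx₂)⟩

private lemma cycle_lift_of_quasiIso {K' L' : CochainComplex AddCommGrpCat.{v} ℤ} (s : K' ⟶ L')
    [QuasiIso s] (n : ℤ) :
    (∀ y : L'.X n, L'.d n (n + 1) y = 0 → ∃ (x : K'.X n) (z : L'.X (n - 1)),
      K'.d n (n + 1) x = 0 ∧ s.f n x = y + L'.d (n - 1) n z) ∧
    (∀ x : K'.X n, K'.d n (n + 1) x = 0 → (∃ z : L'.X (n - 1), L'.d (n - 1) n z = s.f n x) →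
      ∃ z : K'.X (n - 1), K'.d (n - 1) n z = x) := by
  have hq : ShortComplex.QuasiIso ((HomologicalComplex.shortComplexFunctor' AddCommGrpCat.{v}
      (ComplexShape.up ℤ) (n - 1) n (n + 1)).map s) :=
    (quasiIsoAt_iff' s (n - 1) n (n + 1) (by simp) (by simp)).1 inferInstance
  set φ := (HomologicalComplex.shortComplexFunctor' AddCommGrpCat.{v}
      (ComplexShape.up ℤ) (n - 1) n (n + 1)).map s with hφ
  have hbij : Function.Bijective (ShortComplex.homologyMap φ) :=
    ConcreteCategory.bijective_of_isIso (ShortComplex.homologyMap φ)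
  let S := (HomologicalComplex.shortComplexFunctor' AddCommGrpCat.{v}
      (ComplexShape.up ℤ) (n - 1) n (n + 1)).obj K'
  let S' := (HomologicalComplex.shortComplexFunctor' AddCommGrpCat.{v}
      (ComplexShape.up ℤ) (n - 1) n (n + 1)).obj L'
  have hnat : ∀ c, ShortComplex.homologyMap φ (S.homologyπ c) =
      S'.homologyπ (ShortComplex.cyclesMap φ c) := fun c =>
    ConcreteCategory.congr_hom (ShortComplex.homologyπ_naturality φ) c
  have hi : ∀ c, S'.iCycles (ShortComplex.cyclesMap φ c) = s.f n (S.iCycles c) := fun c =>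
    ConcreteCategory.congr_hom (ShortComplex.cyclesMap_i φ) c
  have hex' := (ShortComplex.ab_exact_iff (ShortComplex.mk S'.toCycles S'.homologyπ
    (by simp))).1 (ShortComplex.exact_of_g_is_cokernel _ S'.homologyIsCokernel)
  have hex := (ShortComplex.ab_exact_iff (ShortComplex.mk S.toCycles S.homologyπ
    (by simp))).1 (ShortComplex.exact_of_g_is_cokernel _ S.homologyIsCokernel)
  constructor
  · intro y hy
    let cy := (S'.abCyclesIso).inv ⟨y, hy⟩
    have hcy : S'.iCycles cy = y := ShortComplex.abCyclesIso_inv_apply_iCycles _ _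
    obtain ⟨h, hh⟩ := hbij.2 (S'.homologyπ cy)
    obtain ⟨c, rfl⟩ := (AddCommGrpCat.epi_iff_surjective S.homologyπ).1 inferInstance h
    rw [hnat] at hh
    obtain ⟨z, hz⟩ := hex' (ShortComplex.cyclesMap φ c - cy) (by
      show S'.homologyπ (_ - _) = 0
      rw [map_sub, hh, sub_self])
    refine ⟨S.iCycles c, z, ConcreteCategory.congr_hom S.iCycles_g c, ?_⟩
    have h2 := congrArg S'.iCycles hz
    change S'.iCycles (S'.toCycles z) = S'.iCycles (_ - _) at h2
    rw [map_sub, hi, hcy, ← ConcreteCategory.comp_apply, ShortComplex.toCycles_i] at h2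
    rw [eq_add_of_sub_eq h2.symm, add_comm]
    rfl
  · rintro x hx ⟨z, hz⟩
    let cx := (S.abCyclesIso).inv ⟨x, hx⟩
    have hcx : S.iCycles cx = x := ShortComplex.abCyclesIso_inv_apply_iCycles _ _
    have h0 : S.homologyπ cx = 0 := by
      refine hbij.1 ?_
      rw [map_zero, hnat]
      have : ShortComplex.cyclesMap φ cx = S'.toCycles z := by
        apply (AddCommGrpCat.mono_iff_injective S'.iCycles).1 inferInstance
        rw [hi, hcx]
        exact hz.symm.trans (ConcreteCategory.congr_hom S'.toCycles_i z).symm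
      rw [this]
      exact ConcreteCategory.congr_hom S'.toCycles_comp_homologyπ z
    obtain ⟨w, hw⟩ := hex cx h0
    refine ⟨w, ?_⟩
    have h2 := congrArg S.iCycles hw
    change S.iCycles (S.toCycles w) = S.iCycles cx at h2
    rwa [hcx, ← ConcreteCategory.comp_apply, ShortComplex.toCycles_i] at h2

variable [EnoughInjectives A] (T : A) (K : CochainComplex A ℤ) (a : ℤ) [K.IsStrictlyGE a]
  (hK : ∀ n, IsTAcyclic.{w'} T (K.X n)) (n : ℤ)

include a hK

/-- Bounded below complexes of acyclic objects compute hypercohomology. -/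
theorem cls_spec :
    (∀ x : E1Deg.HT T K n, ∃ f hf, cls T K n f hf = x) ∧
    (∀ (f : T ⟶ K.X n) (hf : f ≫ K.d n (n + 1) = 0),
      cls T K n f hf = 0 ↔ ∃ g : T ⟶ K.X (n - 1), g ≫ K.d (n - 1) n = f) := by
  obtain ⟨I, s, hI, hinj, hm, hs⟩ := TriCat.exists_quasiIso_resolution (A := A) Injective
    ⟨0, isZero_zero _, IsZero.injective (isZero_zero _)⟩
    (fun M => ⟨Injective.under M, Injective.ι M, inferInstance, inferInstance⟩) K a
  haveI := hI
  haveI := hs
  haveI := hinj
  haveI : I.IsKInjective := CochainComplex.isKInjective_of_injective _ a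
  haveI := TriCat.quasiIso_map_of_adapted (isAdapted_isTAcyclic.{w'} T) s hm a hK
    (fun n => isTAcyclic_of_injective T _)
  obtain ⟨hlift, hrefl⟩ := cycle_lift_of_quasiIso
    (((preadditiveCoyoneda.obj (Opposite.op T)).mapHomologicalComplex (ComplexShape.up ℤ)).map s) n
  have hbij : Function.Bijective (E1Deg.HTmap T s n) := by
    have : IsIso (DerivedCategory.Q.map s) := inferInstance
    exact ⟨fun x y h => (cancel_mono ((shiftFunctor (DerivedCategory A) n).map
        (DerivedCategory.Q.map s))).1 h,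
      fun y => ⟨y ≫ inv ((shiftFunctor (DerivedCategory A) n).map (DerivedCategory.Q.map s)),
        (Category.assoc _ _ _).trans (by rw [IsIso.inv_hom_id]; exact Category.comp_id y)⟩⟩
  refine ⟨fun x => ?_, fun f hf => ?_⟩
  · obtain ⟨g, hg, he⟩ := exists_cls_eq_of_isKInjective T I n (E1Deg.HTmap T s n x)
    obtain ⟨f, z, hf, hfg⟩ := hlift g hg
    change f ≫ K.d n (n + 1) = 0 at hf
    change f ≫ s.f n = g + z ≫ I.d (n - 1) n at hfg
    refine ⟨f, hf, hbij.1 ?_⟩
    obtain ⟨z, hz, hzd⟩ : ∃ w : T ⟶ I.X n, (∃ z : T ⟶ I.X (n - 1), z ≫ I.d (n - 1) n = w) ∧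
        f ≫ s.f n = g + w := ⟨_, ⟨z, rfl⟩, hfg⟩
    have hz0 : z ≫ I.d n (n + 1) = 0 := by
      obtain ⟨z', rfl⟩ := hz
      rw [Category.assoc, HomologicalComplex.d_comp_d, comp_zero]
    rw [← cls_comp s n f hf, cls_congr n hzd _ (by rw [Preadditive.add_comp, hg, hz0, add_zero]),
      cls_add n g z hg hz0, he, (cls_eq_zero_iff_of_isKInjective T I n _ hz0).2 hz, add_zero]
  · rw [← hbij.1.eq_iff, map_zero, ← cls_comp s n f hf, cls_eq_zero_iff_of_isKInjective]
    refine ⟨fun h => hrefl f hf h, fun ⟨g, hg⟩ => ⟨g ≫ s.f (n - 1), ?_⟩⟩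
    rw [Category.assoc, s.comm, ← Category.assoc, hg]

end Acyclic

end Groth.Agent.DRHyp
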