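import Groth.Agent.DRHyp.Proper

/-!
# Hypercohomology when the first page is concentrated in one spot
-/

set_option autoImplicit false

universe w' w v u

open CategoryTheory CategoryTheory.Limits Pretriangulated Abelian

namespace Groth.Agent.DRHyp

variable {A : Type u} [Category.{v} A] [Abelian A] [HasDerivedCategory.{w} A]

/-- Surjectivity onto the quotient complex. -/
lemma exists_HTmap_eq₃ {S : ShortComplex (CochainComplex A ℤ)} (hS : S.ShortExact) (T : A) (n : ℤ)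
    (h1 : Subsingleton (E1Deg.HT T S.X₁ (n + 1))) (x : E1Deg.HT T S.X₃ n) :
    ∃ y, E1Deg.HTmap T S.g n y = x := by
  let Δ := DerivedCategory.triangleOfSES hS
  have hΔ := DerivedCategory.triangleOfSES_distinguished hS
  have hs : Subsingleton ((DerivedCategory.singleFunctor A 0).obj T ⟶
      ((DerivedCategory.Q.obj S.X₁)⟦n⟧)⟦(1 : ℤ)⟧) :=
    ((((shiftFunctorAdd' (DerivedCategory A) n 1 (n + 1) rfl).app
      (DerivedCategory.Q.obj S.X₁)).homToEquiv)).subsingleton_congr.1 h1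
  obtain ⟨y, hy⟩ := Triangle.coyoneda_exact₃ _ (Triangle.shift_distinguished Δ hΔ n) x
    (hs.elim _ _)
  replace hy : x = y ≫ (n.negOnePow • (DerivedCategory.Q.map S.g)⟦n⟧') := hy
  refine ⟨n.negOnePow • (y : _ ⟶ (DerivedCategory.Q.obj S.X₂)⟦n⟧), ?_⟩
  rw [hy]
  exact (Linear.units_smul_comp _ _ _).trans (Linear.comp_units_smul _ _ _).symm

lemma HTmap_injective {S : ShortComplex (CochainComplex A ℤ)} (hS : S.ShortExact) (T : A) (n : ℤ)
    (h1 : Subsingleton (E1Deg.HT T S.X₁ n)) : Function.Injective (E1Deg.HTmap T S.g n) :=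
  (injective_iff_map_eq_zero _).2 fun x hx => by
    obtain ⟨y, hy⟩ := exists_HTmap_eq hS T n x hx
    rw [← hy, h1.elim y 0, map_zero]

lemma HTmap_f_injective {S : ShortComplex (CochainComplex A ℤ)} (hS : S.ShortExact) (T : A) (n : ℤ)
    (h3 : Subsingleton (E1Deg.HT T S.X₃ (n - 1))) : Function.Injective (E1Deg.HTmap T S.f n) := by
  refine (injective_iff_map_eq_zero _).2 fun x hx => ?_
  let Δ := DerivedCategory.triangleOfSES hS
  have hΔ := DerivedCategory.triangleOfSES_distinguished hS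
  have hs : Subsingleton ((DerivedCategory.singleFunctor A 0).obj T ⟶
      ((DerivedCategory.Q.obj S.X₃)⟦n⟧)⟦(-1 : ℤ)⟧) :=
    ((((shiftFunctorAdd' (DerivedCategory A) n (-1) (n - 1) (by omega)).app
      (DerivedCategory.Q.obj S.X₃)).homToEquiv)).subsingleton_congr.1 h3
  obtain ⟨y, hy⟩ := Triangle.coyoneda_exact₂ _
    (inv_rot_of_distTriang _ (Triangle.shift_distinguished Δ hΔ n)) x (by
    show x ≫ (n.negOnePow • (DerivedCategory.Q.map S.f)⟦n⟧') = 0
    rw [Linear.comp_units_smul]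
    rw [show x ≫ (DerivedCategory.Q.map S.f)⟦n⟧' = 0 from hx]
    exact smul_zero _)
  rw [hy]
  exact (congrArg (· ≫ _) (hs.elim y 0)).trans zero_comp

variable [HasExt.{w'} A] (T : A)

lemma isStrictlyGE_sigma (K : CochainComplex A ℤ) (a : ℤ) :
    (KFlatLib.sigmaSES K a).X₁.IsStrictlyGE a :=
  inferInstanceAs (CochainComplex.IsStrictlyGE (K.stupidTrunc (ComplexShape.embeddingUpIntGE a)) a)

lemma isStrictlyGE_sigma₃ (K : CochainComplex A ℤ) (a b : ℤ) [K.IsStrictlyGE a] :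
    (KFlatLib.sigmaSES K b).X₃.IsStrictlyGE a :=
  (CochainComplex.isStrictlyGE_iff _ _).2 fun i hi => by
    have := ((KFlatLib.sigmaSES_shortExact K b).map_of_exact
      (HomologicalComplex.eval A (ComplexShape.up ℤ) i)).epi_g
    exact @IsZero.of_epi _ _ _ _ _ ((KFlatLib.sigmaSES K b).g.f i) this
      (K.isZero_of_isStrictlyGE a i hi)

lemma subsingleton_ext_of_isZero {X : A} (hX : IsZero X) (q : ℕ) : Subsingleton (Ext.{w'} T X q) :=
  ⟨fun x y => by
    rw [← Ext.comp_mk₀_id x, ← Ext.comp_mk₀_id y, hX.eq_of_src (𝟙 _) 0, Ext.mk₀_zero, Ext.comp_zero,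
      Ext.comp_zero]⟩

lemma subsingleton_HT_sigma (K : CochainComplex A ℤ) (b n : ℤ)
    (h : ∀ (i : ℤ) (q : ℕ), b ≤ i → i + q = n → Subsingleton (Ext.{w'} T (K.X i) q)) :
    Subsingleton (E1Deg.HT T (KFlatLib.sigmaSES K b).X₁ n) := by
  have := isStrictlyGE_sigma K b
  refine subsingleton_HT.{w'} T _ b n fun i q hiq => ?_
  by_cases hi : b ≤ i
  · have := KFlatLib.isIso_sigmaGEι_f K b i hi
    exact ((E1Deg.extCongrRight.{w'} T (@asIso _ _ ((KFlatLib.sigmaSES K b).X₁.X i) (K.X i)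
      ((KFlatLib.sigmaGEι K b).f i) this) q).toEquiv).subsingleton_congr.2 (h i q hi hiq)
  · exact subsingleton_ext_of_isZero T ((KFlatLib.sigmaSES K b).X₁.isZero_of_isStrictlyGE b i (by omega)) q

lemma subsingleton_HT_sigma₃ (K : CochainComplex A ℤ) (a b n : ℤ) [K.IsStrictlyGE a]
    (h : ∀ (i : ℤ) (q : ℕ), i < b → i + q = n → Subsingleton (Ext.{w'} T (K.X i) q)) :
    Subsingleton (E1Deg.HT T (KFlatLib.sigmaSES K b).X₃ n) := by
  have := isStrictlyGE_sigma₃ K a b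
  refine subsingleton_HT.{w'} T _ a n fun i q hiq => ?_
  by_cases hi : i < b
  · exact ((E1Deg.extCongrRight.{w'} T
      (KFlatLib.nonempty_sigmaSES_X₃_iso K b i hi).some q).toEquiv).subsingleton_congr.1 (h i q hi hiq)
  · have := KFlatLib.isStrictlyLE_sigmaSES_X₃ K b
    exact subsingleton_ext_of_isZero T
      ((KFlatLib.sigmaSES K b).X₃.isZero_of_isStrictlyLE (b - 1) i (by omega)) q

/-- The map to the bottom term is bijective when the higher terms do not contribute. -/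
lemma HTmap_toSingle_bijective (K : CochainComplex A ℤ) (i n : ℤ) [K.IsStrictlyGE i]
    (h : ∀ (j : ℤ) (q : ℕ), i + 1 ≤ j → (j + q = n ∨ j + q = n + 1) →
      Subsingleton (Ext.{w'} T (K.X j) q)) :
    Function.Bijective (E1Deg.HTmap T (toSingle K i) n) := by
  let S := KFlatLib.sigmaSES K (i + 1)
  have hS : S.ShortExact := KFlatLib.sigmaSES_shortExact K (i + 1)
  have h1 := subsingleton_HT_sigma.{w'} T K (i + 1) n fun j q hj hjq => h j q hj (Or.inl hjq)
  have h2 := subsingleton_HT_sigma.{w'} T K (i + 1) (n + 1) fun j q hj hjq => h j q hj (Or.inr hjq)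
  have hX₃ : S.X₃.IsStrictlyLE (i + 1 - 1) := KFlatLib.isStrictlyLE_sigmaSES_X₃ K (i + 1)
  rw [show i + 1 - 1 = i by omega] at hX₃
  have : S.X₃.IsStrictlyGE i := isStrictlyGE_sigma₃ K i (i + 1)
  have := isIso_toSingle S.X₃ i
  have hiso : IsIso (S.g.f i) := by
    have hmap := hS.map_of_exact (HomologicalComplex.eval A (ComplexShape.up ℤ) i)
    have : Epi (S.g.f i) := hmap.epi_g
    have : Mono (S.g.f i) := hmap.exact.mono_g
      ((KFlatLib.isZero_stupidTrunc_of_lt K (i + 1) i (by omega)).eq_of_src _ _)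
    exact isIso_of_mono_of_epi (S.g.f i)
  have hsingle : IsIso ((HomologicalComplex.single A (ComplexShape.up ℤ) i).map (S.g.f i)) := inferInstance
  have e : ∀ x, E1Deg.HTmap T ((HomologicalComplex.single A (ComplexShape.up ℤ) i).map (S.g.f i)) n
      (E1Deg.HTmap T (toSingle K i) n x) = E1Deg.HTmap T (toSingle S.X₃ i) n (E1Deg.HTmap T S.g n x) :=
    fun x => (E1Deg.HTmap_comp T _ _ n x).symm.trans
      ((congrArg (fun ψ => E1Deg.HTmap T ψ n x) (toSingle_natural K i S.g).symm).trans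
        (E1Deg.HTmap_comp T _ _ n x))
  refine (Function.Bijective.of_comp_iff'
    (HTmap_isIso_bijective T ((HomologicalComplex.single A (ComplexShape.up ℤ) i).map (S.g.f i)) n)
      (E1Deg.HTmap T (toSingle K i) n)).1 ?_
  rw [show (E1Deg.HTmap T ((HomologicalComplex.single A (ComplexShape.up ℤ) i).map (S.g.f i)) n) ∘
      (E1Deg.HTmap T (toSingle K i) n) =
      (E1Deg.HTmap T (toSingle S.X₃ i) n) ∘ (E1Deg.HTmap T S.g n) from funext e]
  exact (HTmap_isIso_bijective T (toSingle S.X₃ i) n).comp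
    ⟨HTmap_injective hS T n h1, fun x => exists_HTmap_eq₃ hS T n h2 x⟩

/-- Hypercohomology is one group of the first page, naturally in endomorphisms. -/
theorem exists_HT_equiv_diag (K : CochainComplex A ℤ) (a i n : ℤ) (q : ℕ) [K.IsStrictlyGE a]
    (hq : i + q = n)
    (hlo : ∀ (j : ℤ) (r : ℕ), j < i → (j + r = n - 1 ∨ j + r = n) → Subsingleton (Ext.{w'} T (K.X j) r))
    (hhi : ∀ (j : ℤ) (r : ℕ), i < j → (j + r = n ∨ j + r = n + 1) → Subsingleton (Ext.{w'} T (K.X j) r)) :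
    ∃ E : E1Deg.HT T K n ≃+ Ext.{w'} T (K.X i) q, ∀ (φ : K ⟶ K) (x : E1Deg.HT T K n),
      E (E1Deg.HTmap T φ n x) = (E x).comp (Ext.mk₀ (φ.f i)) (add_zero q) := by
  let S := KFlatLib.sigmaSES K i
  have hS : S.ShortExact := KFlatLib.sigmaSES_shortExact K i
  have : S.X₁.IsStrictlyGE i := isStrictlyGE_sigma K i
  have h3 := subsingleton_HT_sigma₃.{w'} T K a i n fun j r hj hjr => hlo j r hj (Or.inr hjr)
  have h3' := subsingleton_HT_sigma₃.{w'} T K a i (n - 1) fun j r hj hjr => hlo j r hj (Or.inl hjr)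
  have hbij : Function.Bijective (E1Deg.HTmap T S.f n) :=
    ⟨HTmap_f_injective hS T n h3', fun x => exists_HTmap_eq hS T n x (h3.elim _ _)⟩
  have hone : IsIso ((KFlatLib.sigmaGEι K i).f i) := KFlatLib.isIso_sigmaGEι_f K i i le_rfl
  let ei : S.X₁.X i ≅ K.X i := @asIso _ _ (S.X₁.X i) (K.X i) ((KFlatLib.sigmaGEι K i).f i) hone
  have htop := HTmap_toSingle_bijective.{w'} T S.X₁ i n fun j r hj hjr => by
    have := KFlatLib.isIso_sigmaGEι_f K i j (by omega)
    exact ((E1Deg.extCongrRight.{w'} T (@asIso _ _ (S.X₁.X j) (K.X j)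
      ((KFlatLib.sigmaGEι K i).f j) this) r).toEquiv).subsingleton_congr.2 (hhi j r (by omega) hjr)
  let E₀ : E1Deg.HT T S.X₁ n ≃+ Ext.{w'} T (S.X₁.X i) q :=
    (AddEquiv.ofBijective (E1Deg.HTmap T (toSingle S.X₁ i) n) htop).trans
      (E1Deg.HTsingleEquiv.{w', w} T (S.X₁.X i) i n q hq)
  let F : E1Deg.HT T S.X₁ n ≃+ E1Deg.HT T K n := AddEquiv.ofBijective (E1Deg.HTmap T S.f n) hbij
  refine ⟨F.symm.trans (E₀.trans (E1Deg.extCongrRight.{w'} T ei q)), fun φ x => ?_⟩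
  obtain ⟨y, rfl⟩ := F.surjective x
  let φ' : S.X₁ ⟶ S.X₁ := HomologicalComplex.stupidTruncMap φ (ComplexShape.embeddingUpIntGE i)
  have hnat : φ' ≫ S.f = S.f ≫ φ := sigmaGEι_natural φ i
  have hFy : E1Deg.HTmap T φ n (F y) = F (E1Deg.HTmap T φ' n y) := by
    show E1Deg.HTmap T φ n (E1Deg.HTmap T S.f n y) = E1Deg.HTmap T S.f n (E1Deg.HTmap T φ' n y)
    exact (E1Deg.HTmap_comp T S.f φ n y).symm.trans
      ((congrArg (fun ψ => E1Deg.HTmap T ψ n y) hnat.symm).trans (E1Deg.HTmap_comp T φ' S.f n y))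
  rw [hFy]
  simp only [AddEquiv.trans_apply, AddEquiv.symm_apply_apply]
  have hE₀ : E₀ (E1Deg.HTmap T φ' n y) = (E₀ y).comp (Ext.mk₀ (φ'.f i)) (add_zero q) := by
    show E1Deg.HTsingleEquiv T (S.X₁.X i) i n q hq
      (E1Deg.HTmap T (toSingle S.X₁ i) n (E1Deg.HTmap T φ' n y)) =
      (E1Deg.HTsingleEquiv T (S.X₁.X i) i n q hq (E1Deg.HTmap T (toSingle S.X₁ i) n y)).comp
        (Ext.mk₀ (φ'.f i)) (add_zero q)
    refine Eq.trans (congrArg _ ?_) (HTsingleEquiv_natural T (φ'.f i) i n q hq _)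
    exact (E1Deg.HTmap_comp T φ' _ n y).symm.trans
      ((congrArg (fun ψ => E1Deg.HTmap T ψ n y) (toSingle_natural S.X₁ i φ')).trans
        (E1Deg.HTmap_comp T _ _ n y))
  rw [hE₀]
  show ((E₀ y).comp (Ext.mk₀ (φ'.f i)) (add_zero q)).comp (Ext.mk₀ ei.hom) (add_zero q) =
    ((E₀ y).comp (Ext.mk₀ ei.hom) (add_zero q)).comp (Ext.mk₀ (φ.f i)) (add_zero q)
  have hi : φ'.f i ≫ ei.hom = ei.hom ≫ φ.f i := congrArg (fun ψ : S.X₁ ⟶ K => ψ.f i) hnat
  simp [hi]

end Groth.Agent.DRHyp
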