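import Groth.Agent.AnSites.EpsCont
import Groth.Agent.AnSites.Flat
import Groth.Agent.SitePullUnit.Basic
import Groth.Agent.EtFound.LocConst
import Groth.Agent.EtFound.Cospec
import Groth.Agent.S4191

/-!
# The unit of `ε^* ⊣ ε_*` on finite locally constant sheaves
-/

set_option autoImplicit false

open AlgebraicGeometry CategoryTheory CategoryTheory.Limits TopologicalSpace Opposite Topology

noncomputable section

namespace Groth.Agent.DRHyp.EpsUnit

open An An.Pts Groth.Agent.SitePullUnit Groth.Agent.EtFound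

set_option backward.isDefEq.respectTransparency.types false

variable {X : Scheme.{0}} [X.Over SC] [LocallyOfFiniteType (X ↘ SC)] [Fact EtaleLH] [EpsCont X]
  (F : EtCoh.Ab X)

/-- The extension of `F` to the classical site, as constructed. -/
abbrev GP : (Cl (Pts X))ᵒᵖ ⥤ AddCommGrpCat.{1} := pulled (eps X) (Cl.topology (Pts X)) F

instance : RepresentablyFlat (eps X) := AnSites.representablyFlat_eps X

/-- A germ of a section. -/
abbrev gm {d : Cl (Pts X)} {U : X.Etale} (b : d ⟶ (eps X).obj U) (x : F.obj.obj (op U)) :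
    (GP F).obj (op d) :=
  sGerm (eps X) (Cl.topology (Pts X)) F b x

omit [LocallyOfFiniteType (X ↘ SC)] [Fact EtaleLH] [EpsCont X] in
/-- Covering sieves of the classical site from neighbourhoods. -/
theorem cover_of_nbhds {d : Cl (Pts X)} (S : Sieve d)
    (h : ∀ a : d.E, ∃ (B : Cl (Pts X)) (f : B ⟶ d), IsOpenEmbedding f.toFun ∧ a ∈ Set.range f.toFun ∧ S f) :
    S ∈ Cl.topology (Pts X) d := fun a => by
  obtain ⟨B, f, hf, ha, hS⟩ := h a
  exact ⟨B, f, hS, hf, ha⟩

/-- Sections of the extension agree if they agree near every point. -/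
theorem gp_ext {d : Cl (Pts X)} (t t' : (GP F).obj (op d))
    (h : ∀ a : d.E, ∃ (B : Cl (Pts X)) (f : B ⟶ d), IsOpenEmbedding f.toFun ∧ a ∈ Set.range f.toFun ∧
      (GP F).map f.op t = (GP F).map f.op t') : t = t' := by
  have hsh : Presieve.IsSheaf (Cl.topology (Pts X)) (GP F ⋙ forget AddCommGrpCat.{1}) := by
    rw [← isSheaf_iff_isSheaf_of_type, ← Presheaf.isSheaf_iff_isSheaf_forget]
    exact ((presheafToSheaf (Cl.topology (Pts X)) AddCommGrpCat.{1}).obj _).property
  have hS : Presheaf.equalizerSieve t t' ∈ Cl.topology (Pts X) d := cover_of_nbhds _ h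
  exact (hsh _ hS).isSeparatedFor.ext fun Y f hf => hf

/-- The fibre point of a complex point. -/
def zpt {V : X.Etale} (a : Pts V.left) :
    (Scheme.pointSmallEtale (a.1 ≫ V.hom)).fiber.obj V :=
  CategoryTheory.Over.homMk a.1 rfl

/-- Near a complex point of the target, germs of sections can be chosen constant. -/
theorem locally_germ {U : X.Etale} {M : AddCommGrpCat.{1}} {φ : M ⟶ F.obj.obj (op U)} (hφ : ConstBy F φ)
    {d : Cl (Pts X)} (b : d ⟶ (eps X).obj U) (t : (GP F).obj (op d)) (a : d.E) :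
    ∃ (B : Cl (Pts X)) (f : B ⟶ d) (m : M), IsOpenEmbedding f.toFun ∧ a ∈ Set.range f.toFun ∧
      (GP F).map f.op t = gm F (f ≫ b) (φ m) := by
  obtain ⟨R, hR, hgerm⟩ := exists_cover_sGerm (eps X) (Cl.topology (Pts X)) F t
  obtain ⟨B, f, hRf, hf, a', rfl⟩ := hR a
  obtain ⟨W, b', x, hx⟩ := hgerm f hRf
  obtain ⟨S, p, q, -⟩ := IsCofilteredOrEmpty.cone_objs
    (StructuredArrow.mk b' : StructuredArrow B (eps X)) (StructuredArrow.mk (f ≫ b))
  let T := S.right
  let c : B ⟶ (eps X).obj T := S.hom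
  have hp : c ≫ (eps X).map p.right = b' := StructuredArrow.w p
  have hq : c ≫ (eps X).map q.right = f ≫ b := StructuredArrow.w q
  let a₀ : Pts T.left := c.toFun a'
  let Φ := Scheme.pointSmallEtale (a₀.1 ≫ T.hom)
  let p' : T ⟶ W := p.right
  let q' : T ⟶ U := q.right
  obtain ⟨m, hm⟩ := (hφ ℂ (a₀.1 ≫ T.hom) (Φ.fiber.map q' (zpt a₀))).2
    (Φ.toPresheafFiber T (zpt a₀) F.obj (F.obj.map p'.op x))
  have hm' : Φ.toPresheafFiber T (zpt a₀) F.obj (F.obj.map q'.op (φ m)) =
      Φ.toPresheafFiber T (zpt a₀) F.obj (F.obj.map p'.op x) :=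
    (Φ.toPresheafFiber_w_apply q' (zpt a₀) F.obj (φ m)).trans
      ((ConcreteCategory.comp_apply _ _ m).symm.trans hm)
  obtain ⟨T', r, v, hv, hg⟩ : ∃ (T' : X.Etale) (r : T' ⟶ T) (v : Φ.fiber.obj T'),
      Φ.fiber.map r v = zpt a₀ ∧
        F.obj.map r.op (F.obj.map q'.op (φ m)) = F.obj.map r.op (F.obj.map p'.op x) :=
    (Φ.toPresheafFiber_eq_iff' (P := F.obj) T (zpt a₀) _ _).1 hm'
  have := AnSites.lft_etale X T
  have := AnSites.lft_etale X T'
  have : Etale r.left := EtFound.etale_left r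
  let v₀ : Spec (CommRingCat.of ℂ) ⟶ T'.left := v.left
  have hv₀ : v₀ ≫ T'.hom = a₀.1 ≫ T.hom := CategoryTheory.Over.w v
  let a₁ : Pts T'.left := ⟨v₀, by
    show v₀ ≫ (T'.hom ≫ X ↘ SC) = _
    rw [← Category.assoc, hv₀, Category.assoc]
    exact a₀.2⟩
  have ha₁ : Pts.map r.left a₁ = a₀ := Subtype.ext (congrArg CommaMorphism.left hv)
  obtain ⟨N, hN, hNe⟩ := isLocalHomeomorph_iff_isOpenEmbedding_restrict.1
    ((Fact.out : EtaleLH) T'.left T.left r.left) a₁
  obtain ⟨N₀, hNN, hNo, hN₁⟩ := mem_nhds_iff.1 hN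
  let g₀ : Cl.restrictOpen ((eps X).obj T') N₀ hNo ⟶ (eps X).obj T :=
    Cl.restrictOpenι ((eps X).obj T') N₀ hNo ≫ (eps X).map r
  have hg₀ : IsOpenEmbedding g₀.toFun := hNe.comp (.inclusion hNN (hNo.preimage continuous_subtype_val))
  have hWo : IsOpen (c.toFun ⁻¹' Set.range g₀.toFun) := hg₀.isOpen_range.preimage c.continuous
  let ι₀ := Cl.restrictOpenι B (c.toFun ⁻¹' Set.range g₀.toFun) hWo
  let c' : Cl.restrictOpen B (c.toFun ⁻¹' Set.range g₀.toFun) hWo ⟶ (eps X).obj T' :=
    Cl.liftThrough c g₀ hg₀ ≫ Cl.restrictOpenι ((eps X).obj T') N₀ hNo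
  have hc' : c' ≫ (eps X).map r = ι₀ ≫ c := by
    rw [Category.assoc]; exact Cl.liftThrough_comp c g₀ hg₀
  refine ⟨_, ι₀ ≫ f, m, hf.comp hWo.isOpenEmbedding_subtypeVal,
    ⟨⟨a', ⟨⟨a₁, hN₁⟩, ha₁⟩⟩, rfl⟩, ?_⟩
  have e1 : (GP F).map (ι₀ ≫ f).op t = gm F c' (F.obj.map r.op (F.obj.map p'.op x)) := by
    rw [op_comp, Functor.map_comp, ConcreteCategory.comp_apply, ← hx, map_sGerm, gm, sGerm_map, sGerm_map,
      hc', Category.assoc, hp]
  rw [e1, ← hg, gm, gm, sGerm_map, sGerm_map, hc', Category.assoc, hq, Category.assoc]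

/-- Constant germs are determined by their value at a point. -/
theorem gm_injective {U : X.Etale} {M : AddCommGrpCat.{1}} {φ : M ⟶ F.obj.obj (op U)} (hφ : ConstBy F φ)
    {d : Cl (Pts X)} (b : d ⟶ (eps X).obj U) (a : d.E) {m m' : M}
    (h : gm F b (φ m) = gm F b (φ m')) : m = m' := by
  obtain ⟨R, hR, heq⟩ := exists_cover_of_sGerm_eq (eps X) (Cl.topology (Pts X)) F b (φ m) (φ m') h
  obtain ⟨B, f, hRf, -, a', rfl⟩ := hR a
  obtain ⟨W', b', c, -, hc⟩ := heq f hRf
  let a₀ : Pts W'.left := b'.toFun a'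
  let Φ := Scheme.pointSmallEtale (a₀.1 ≫ W'.hom)
  refine (hφ ℂ (a₀.1 ≫ W'.hom) (Φ.fiber.map c (zpt a₀))).1 ?_
  refine (ConcreteCategory.comp_apply _ _ m).trans (Eq.trans ?_ (ConcreteCategory.comp_apply _ _ m').symm)
  rw [← Φ.toPresheafFiber_w_apply, ← Φ.toPresheafFiber_w_apply, hc]

/-- Every open subscheme is an etale scheme. -/
def openEt (T : X.Etale) (O : T.left.Opens) : X.Etale :=
  MorphismProperty.Over.mk _ (O.ι ≫ T.hom) (by
    have : Etale T.hom := T.prop
    exact inferInstanceAs (Etale (O.ι ≫ T.hom)))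

/-- The inclusion. -/
def openEtι (T : X.Etale) (O : T.left.Opens) : openEt T O ⟶ T := MorphismProperty.Over.homMk O.ι rfl

/-- Points have connected open neighbourhoods. -/
theorem exists_connected_nhd (T : X.Etale) (x : T.left) :
    ∃ O : T.left.Opens, x ∈ O ∧ _root_.IsConnected (O : Set T.left) := by
  have := AnSites.lft_etale X T
  have : IsLocallyNoetherian T.left := LocallyOfFiniteType.isLocallyNoetherian (T.left ↘ SC)
  obtain ⟨O, hxO, hO⟩ := EtFound.exists_open_components (X := T.left) isClosed_univ x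
  refine ⟨O, hxO, ⟨x, hxO⟩, isPreconnected_of_forall x fun q hq => ?_⟩
  obtain ⟨g, -, hgx, hgq⟩ := hO q hq trivial
  refine ⟨closure {g} ∩ O, Set.inter_subset_right, ⟨hgx.mem_closure, hxO⟩, ⟨hgq.mem_closure, hq⟩, ?_⟩
  refine isPreconnected_singleton.subset_closure ?_ Set.inter_subset_left
  exact Set.singleton_subset_iff.2 ⟨subset_closure rfl, hgx.mem_open O.2 hxO⟩

/-- Sections over a connected object are constant. -/
theorem exists_const {U V : X.Etale} (g : V ⟶ U) [ConnectedSpace ↥V.left] {M : AddCommGrpCat.{1}}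
    {φ : M ⟶ F.obj.obj (op U)} (hφ : ConstBy F φ) (t : (GP F).obj (op ((eps X).obj V))) :
    ∃ m : M, t = gm F ((eps X).map g) (φ m) := by
  have := AnSites.lft_etale X V
  have hconn : ConnectedSpace (Pts V.left) := (S4191.result V.left).1 inferInstance
  have hloc := fun a : Pts V.left => locally_germ F hφ ((eps X).map g) t a
  choose B f m hf ha hm using hloc
  have key : ∀ a (b : (B a).E), m ((f a).toFun b) = m a := fun a b => by
    obtain ⟨b', hb'⟩ := ha ((f a).toFun b)
    have hWo : IsOpen ((f ((f a).toFun b)).toFun ⁻¹' Set.range (f a).toFun) :=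
      (hf a).isOpen_range.preimage (f ((f a).toFun b)).continuous
    let i := Cl.restrictOpenι _ ((f ((f a).toFun b)).toFun ⁻¹' Set.range (f a).toFun) hWo
    let l := Cl.liftThrough (f ((f a).toFun b)) (f a) (hf a)
    have hl : l ≫ f a = i ≫ f ((f a).toFun b) := Cl.liftThrough_comp _ _ _
    refine gm_injective F hφ (i ≫ f ((f a).toFun b) ≫ (eps X).map g) ⟨b', b, hb'.symm⟩ ?_
    calc gm F (i ≫ f _ ≫ (eps X).map g) (φ (m ((f a).toFun b)))
        = (GP F).map i.op ((GP F).map (f ((f a).toFun b)).op t) := by rw [hm, gm, map_sGerm]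
      _ = (GP F).map l.op ((GP F).map (f a).op t) := by
          rw [← ConcreteCategory.comp_apply, ← ConcreteCategory.comp_apply, ← Functor.map_comp,
            ← Functor.map_comp, ← op_comp, ← op_comp, hl]
      _ = gm F (i ≫ f _ ≫ (eps X).map g) (φ (m a)) := by
          rw [hm, gm, map_sGerm, gm, ← Category.assoc, hl, Category.assoc]
  have hlc : IsLocallyConstant m := (IsLocallyConstant.iff_exists_open m).2 fun a =>
    ⟨Set.range (f a).toFun, (hf a).isOpen_range, ha a, fun _ ⟨b, hb⟩ => hb ▸ key a b⟩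
  obtain ⟨a₀⟩ := hconn.toNonempty
  refine ⟨m a₀, gp_ext F _ _ fun a => ⟨B a, f a, hf a, ha a, ?_⟩⟩
  rw [hm, gm, gm, map_sGerm, show m a₀ = m a from congrFun (hlc.eq_const a) a₀]

/-- The unit is locally injective, for every sheaf. -/
theorem isLocallyInjective_conUnit :
    Presheaf.IsLocallyInjective X.smallEtaleTopology (conUnit (eps X) (Cl.topology (Pts X)) F) := by
  refine ⟨fun {V} x y h => ?_⟩
  obtain ⟨V⟩ := V
  rw [EtFound.mem_topology_iff]
  intro w
  have h' : gm F (𝟙 ((eps X).obj V)) x = gm F (𝟙 ((eps X).obj V)) y := by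
    simp only [gm, sGerm, op_id, CategoryTheory.Functor.map_id, ConcreteCategory.id_apply]
    exact h
  obtain ⟨R, hR, heq⟩ := exists_cover_of_sGerm_eq (eps X) (Cl.topology (Pts X)) F _ x y h'
  have := AnSites.lft_etale X V
  let O : Set V.left := ⋃ (W : X.Etale) (c : W ⟶ V) (_ : F.obj.map c.op x = F.obj.map c.op y), Set.range c.left.base
  have hO : IsOpen O := isOpen_iUnion fun W => isOpen_iUnion fun c => isOpen_iUnion fun _ => by
    have : Etale c.left := EtFound.etale_left c
    exact c.left.isOpenMap.isOpen_range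
  suffices hu : O = Set.univ by
    have hw : w ∈ O := hu ▸ trivial
    simp only [O, Set.mem_iUnion] at hw
    obtain ⟨W, c, hc, v, hv⟩ := hw
    exact ⟨W, c, v, hc, hv⟩
  refine AnPts.eq_univ_of_isLocallyClosed hO.isLocallyClosed fun (a : Pts V.left) => ?_
  obtain ⟨B, f, hRf, -, b, hb⟩ := hR a
  obtain ⟨W', b', c, hbc, hc⟩ := heq f hRf
  refine Set.mem_iUnion.2 ⟨W', Set.mem_iUnion.2 ⟨c, Set.mem_iUnion.2 ⟨hc, (b'.toFun b).pt, ?_⟩⟩⟩
  have e := congrFun (congrArg Cl.Hom.toFun hbc) b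
  have e' : Pts.map c.left (b'.toFun b) = a := e.trans hb
  rw [← e', Pts.pt_map]

/-- The unit is locally surjective on finite locally constant sheaves. -/
theorem isLocallySurjective_conUnit (hF : ∀ x : X, ∃ (U : X.Etale) (p : U.left), U.hom.base p = x ∧
      ∃ (M : AddCommGrpCat.{1}) (φ : M ⟶ F.obj.obj (op U)), ConstBy F φ) :
    Presheaf.IsLocallySurjective X.smallEtaleTopology (conUnit (eps X) (Cl.topology (Pts X)) F) := by
  refine ⟨fun {V} t => ?_⟩
  rw [EtFound.mem_topology_iff]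
  intro x
  obtain ⟨Ω, _, _, ξ, z, hz⟩ := EtFound.exists_algClosed_point V x
  obtain ⟨U, p, hp, M, φ, hφ⟩ := hF (ξ.base (default : Spec (CommRingCat.of Ω)))
  obtain ⟨u, -⟩ := Scheme.pointSmallEtaleFiberObjToPreimage_surjective ξ rfl U ⟨p, hp⟩
  obtain ⟨⟨T, w⟩, ⟨a₀, ha₀⟩, ⟨b₀, -⟩, -⟩ := IsCofilteredOrEmpty.cone_objs
    ((Scheme.pointSmallEtale ξ).fiber.elementsMk V z) ((Scheme.pointSmallEtale ξ).fiber.elementsMk U u)
  let a : T ⟶ V := a₀
  let b : T ⟶ U := b₀
  let w₀ : T.left := (w.left : Spec (CommRingCat.of Ω) ⟶ T.left).base (default : Spec (CommRingCat.of Ω))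
  obtain ⟨O, hwO, hO⟩ := exists_connected_nhd T w₀
  have : ConnectedSpace ↥(openEt T O).left := isConnected_iff_connectedSpace.1 hO
  obtain ⟨m, hm⟩ := exists_const F (openEtι T O ≫ b) hφ ((GP F).map ((eps X).map (openEtι T O ≫ a)).op t)
  refine ⟨openEt T O, openEtι T O ≫ a, ⟨w₀, hwO⟩, ⟨F.obj.map (openEtι T O ≫ b).op (φ m), ?_⟩, ?_⟩
  · refine Eq.trans ?_ hm.symm
    rw [NatTrans.naturality_apply]
    rfl
  · show (O.ι ≫ a.left).base ⟨w₀, hwO⟩ = x
    rw [← hz, ← show (Scheme.pointSmallEtale ξ).fiber.map a w = z from ha₀]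
    rfl



section Const

instance {T : Type} [TopologicalSpace T] (A : Cl T) :
    HasWeakSheafify ((Cl.topology T).over A) AddCommGrpCat.{1} :=
  have : Small.{1} (Over A) := small_self _
  have : LocallySmall.{1} (Over A) := inferInstance
  have : EssentiallySmall.{1} (Over A) := essentiallySmall_of_small_of_locallySmall _
  have : HasSheafify ((Cl.topology T).over A) AddCommGrpCat.{1} := hasSheafifyEssentiallySmallSite _ _
  inferInstance

/-- A locally bijective map from a constant presheaf identifies a sheaf with the constant sheaf. -/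
theorem nonempty_iso_constantSheaf {T : Type} [TopologicalSpace T] (A : Cl T) (M : AddCommGrpCat.{1})
    (G : Sheaf ((Cl.topology T).over A) AddCommGrpCat.{1}) (η : (Functor.const (Over A)ᵒᵖ).obj M ⟶ G.obj)
    (hi : Presheaf.IsLocallyInjective ((Cl.topology T).over A) η)
    (hs : Presheaf.IsLocallySurjective ((Cl.topology T).over A) η) :
    Nonempty (G ≅ (constantSheaf ((Cl.topology T).over A) AddCommGrpCat.{1}).obj M) := by
  let J := (Cl.topology T).over A
  have : IsIso ((presheafToSheaf J AddCommGrpCat.{1}).map η) := by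
    have hW : J.W η := (J.W_iff_isLocallyBijective η).2 ⟨hi, hs⟩
    rwa [J.W_iff] at hW
  exact ⟨(asIso ((presheafToSheaf J AddCommGrpCat.{1}).map η ≫
    (sheafificationAdjunction J AddCommGrpCat.{1}).counit.app G)).symm⟩

/-- A constant sheaf restricts to a constant sheaf. -/
theorem nonempty_over_const {T : Type} [TopologicalSpace T] (A : Cl T) (M : AddCommGrpCat.{1}) :
    Nonempty (((constantSheaf (Cl.topology T) AddCommGrpCat.{1}).obj M).over A ≅
      (constantSheaf ((Cl.topology T).over A) AddCommGrpCat.{1}).obj M) := by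
  let η₀ := toSheafify (Cl.topology T) ((Functor.const (Cl T)ᵒᵖ).obj M)
  refine nonempty_iso_constantSheaf A M _ (Functor.whiskerLeft (Over.forget A).op η₀)
    ⟨fun {W} x y h => ?_⟩ ⟨fun {W} s => ?_⟩
  · rw [GrothendieckTopology.mem_over_iff]
    refine (Cl.topology T).superset_covering ?_ (Presheaf.equalizerSieve_mem (Cl.topology T) η₀
      (X := op W.unop.left) x y h)
    intro Y g hg
    rw [Sieve.overEquiv_iff]
    exact hg
  · rw [GrothendieckTopology.mem_over_iff]
    refine (Cl.topology T).superset_covering ?_ (Presheaf.imageSieve_mem (Cl.topology T) η₀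
      (U := op W.left) s)
    intro Y g hg
    rw [Sieve.overEquiv_iff]
    exact hg

end Const

/-- Over a trivializing object the extension is constant. -/
theorem nonempty_gp_over {U : X.Etale} {M : AddCommGrpCat.{1}} {φ : M ⟶ F.obj.obj (op U)} (hφ : ConstBy F φ) :
    Nonempty ((((presheafToSheaf (Cl.topology (Pts X)) AddCommGrpCat.{1}).obj (lanP (eps X) F)).over
        ((eps X).obj U)) ≅
      (constantSheaf ((Cl.topology (Pts X)).over ((eps X).obj U)) AddCommGrpCat.{1}).obj M) := by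
  let A := (eps X).obj U
  let η : (Functor.const (Over A)ᵒᵖ).obj M ⟶ (Over.forget A).op ⋙ GP F :=
    { app := fun W => φ ≫ (conUnit (eps X) (Cl.topology (Pts X)) F).app (op U) ≫ (GP F).map W.unop.hom.op
      naturality := fun W W' g => by
        refine (Category.id_comp _).trans ?_
        show _ = (φ ≫ _ ≫ (GP F).map W.unop.hom.op) ≫ (GP F).map g.unop.left.op
        rw [Category.assoc, Category.assoc, ← Functor.map_comp, ← op_comp, Over.w]
        rfl }
  have hη : ∀ (W : (Over A)ᵒᵖ) (m : M), η.app W m = gm F W.unop.hom (φ m) := fun W m =>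
    (ConcreteCategory.comp_apply φ _ m).trans (ConcreteCategory.comp_apply _ _ (φ m))
  refine nonempty_iso_constantSheaf A M _ η ⟨fun {W} x y h => ?_⟩ ⟨fun {W} s => ?_⟩
  · rw [GrothendieckTopology.mem_over_iff]
    refine cover_of_nbhds _ fun a => ⟨_, 𝟙 _, IsOpenEmbedding.id, ⟨a, rfl⟩, ?_⟩
    rw [Sieve.overEquiv_iff]
    have hxy : x = y := gm_injective F hφ W.unop.hom a ((hη W x).symm.trans (h.trans (hη W y)))
    subst hxy
    rfl
  · rw [GrothendieckTopology.mem_over_iff]
    refine cover_of_nbhds _ fun a => ?_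
    obtain ⟨B, f, m, hf, ha, hm⟩ := locally_germ F hφ W.hom s a
    refine ⟨B, f, hf, ha, ?_⟩
    rw [Sieve.overEquiv_iff]
    exact ⟨m, (hη (op (Over.mk (f ≫ W.hom))) m).trans hm.symm⟩

/-- The unit on a finite locally constant sheaf is invertible and the inverse image is finite locally constant. -/
theorem main (hF : EtCoh.IsFiniteLocallyConstant F) :
    IsIso ((An.epsAdj X).unit.app F) ∧ An.Cl.IsFiniteLocallyConstant ((An.epsPull X).obj F) := by
  obtain ⟨ι, U, hU, h⟩ := hF
  choose M iM fM he using h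
  choose φ hφ using fun i => EtFound.exists_constBy (he i).some
  refine ⟨?_, ι, fun i => (eps X).obj (U i), fun t => ?_, fun i => ⟨M i, iM i, fM i, ?_⟩⟩
  · exact isIso_unit (eps X) (Cl.topology (Pts X)) F (isLocallyInjective_conUnit F)
      (isLocallySurjective_conUnit F fun x => by
        obtain ⟨i, p, hp⟩ := hU x
        exact ⟨U i, p, hp, _, φ i, hφ i⟩)
  · obtain ⟨i, p, hp⟩ := hU t.pt
    have := AnSites.lft_etale X (U i)
    obtain ⟨a, ha⟩ := AnPts.exists_map_eq ((U i).left ↘ X) t ⟨p, hp⟩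
    exact ⟨i, a, ha⟩
  · obtain ⟨e₁⟩ := nonempty_gp_over F (hφ i)
    obtain ⟨e₂⟩ := nonempty_over_const (T := Pts X) ((eps X).obj (U i)) (AddCommGrpCat.of (ULift.{1} (M i)))
    let K := Cl.topology (Pts X)
    have e₀ : (An.epsPull X).obj F ≅ (presheafToSheaf K AddCommGrpCat.{1}).obj (lanP (eps X) F) :=
      (Adjunction.leftAdjointUniq (An.epsAdj X) (Functor.sheafPullbackConstruction.sheafAdjunctionContinuous
        (eps X) AddCommGrpCat.{1} X.smallEtaleTopology K)).app F
    exact ⟨(K.overPullback AddCommGrpCat.{1} ((eps X).obj (U i))).mapIso e₀ ≪≫ e₁ ≪≫ e₂.symm⟩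

end Groth.Agent.DRHyp.EpsUnit
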