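import Groth.Agent.Synt29.ExtBC
import Groth.Agent.DRHyp.Omega

/-!
# Exterior powers commute with localization
-/

set_option autoImplicit false

universe u

open exteriorPower TensorProduct

namespace Groth.Agent.DRHyp

variable {B B' N N' : Type u} [CommRing B] [CommRing B'] [Algebra B B'] [AddCommGroup N] [Module B N]
  [AddCommGroup N'] [Module B' N'] [Module B N'] [IsScalarTower B B' N']

/-- Exterior powers of a localized module are the localized exterior powers. -/
theorem exists_isLocalizedModule_extPow (S : Submonoid B) [IsLocalization S B'] (g : N →ₗ[B] N')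
    [IsLocalizedModule S g] (p : ℕ) :
    ∃ φ : ↥(⋀[B]^p N) →ₗ[B] ↥(⋀[B']^p N'), IsLocalizedModule S φ ∧
      ∀ v, φ (ιMulti B p v) = ιMulti B' p (fun i => g (v i)) := by
  have hg : IsBaseChange B' g := (isLocalizedModule_iff_isBaseChange S B' g).1 inferInstance
  let E := (LinearEquiv.ofBijective (Synt29.ExtBC.fwd B B' N p) (Synt29.ExtBC.bijective_fwd p)).trans
    (extMapEquiv p hg.equiv)
  let φ : ↥(⋀[B]^p N) →ₗ[B] ↥(⋀[B']^p N') :=
    (E.toLinearMap.restrictScalars B).comp (TensorProduct.mk B B' _ 1)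
  refine ⟨φ, (isLocalizedModule_iff_isBaseChange S B' φ).2 (IsBaseChange.of_equiv E fun x => rfl),
    fun v => ?_⟩
  show extMapEquiv p hg.equiv (Synt29.ExtBC.fwd B B' N p (1 ⊗ₜ ιMulti B p v)) = _
  rw [Synt29.ExtBC.fwd_tmul, one_smul, extMapEquiv_ιMulti]
  simp [IsBaseChange.equiv_tmul]

end Groth.Agent.DRHyp
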