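import Groth.Agent.DRHyp.Koszul
import Groth.Agent.Synt29.DRGen
import Mathlib.LinearAlgebra.ExteriorAlgebra.Grading
import Mathlib.LinearAlgebra.CliffordAlgebra.Contraction

/-!
# The de Rham complex of an algebra with a basis of exact one-forms

If `Ω[B⁄k]` has a basis of differentials of functions, the de Rham complex is the Koszul complex
of the dual derivations; finiteness of the latter gives finiteness of the cocycles modulo
coboundaries.
-/

set_option autoImplicit false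

universe u

open exteriorPower

namespace Groth.Agent.DRHyp.Forms

variable {k B : Type u} [Field k] [CommRing B] [Algebra k B]

local notation "Λ" => ExteriorAlgebra B (Ω[B⁄k])
local notation "ι'" => ExteriorAlgebra.ι B (M := Ω[B⁄k])
local notation "δ" => KaehlerDifferential.D k B

/-- The de Rham differential on the whole exterior algebra. -/
noncomputable def dAll (d : ∀ p : ℕ, ↥(⋀[B]^p (Ω[B⁄k])) →ₗ[k] ↥(⋀[B]^(p + 1) (Ω[B⁄k]))) : Λ →+ Λ :=
  (DirectSum.toAddMonoid fun p =>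
      (⋀[B]^(p + 1) (Ω[B⁄k])).subtype.toAddMonoidHom.comp (d p).toAddMonoidHom).comp
    (DirectSum.decomposeAddEquiv (fun i : ℕ => ⋀[B]^i (Ω[B⁄k]))).toAddMonoidHom

variable {d : ∀ p : ℕ, ↥(⋀[B]^p (Ω[B⁄k])) →ₗ[k] ↥(⋀[B]^(p + 1) (Ω[B⁄k]))}

lemma dAll_coe (p : ℕ) (z : ↥(⋀[B]^p (Ω[B⁄k]))) : dAll d (z : Λ) = (d p z : Λ) := by
  show DirectSum.toAddMonoid _ (DirectSum.decompose (fun i : ℕ => ⋀[B]^i (Ω[B⁄k])) (z : Λ)) = _
  rw [DirectSum.decompose_coe, DirectSum.toAddMonoid_of]
  rfl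

variable (hd : DeRham.IsDiff (KaehlerDifferential.D k B) d)
include hd

lemma dAll_algebraMap (f : B) : dAll d (algebraMap B Λ f) = ι' (δ f) := by
  have h : algebraMap B Λ f = (DeRham.gen δ 0 f Fin.elim0 : ↥(⋀[B]^0 (Ω[B⁄k]))) := by
    rw [DeRham.gen, Submodule.coe_smul, ιMulti_apply_coe, ExteriorAlgebra.ιMulti_zero_apply,
      Algebra.algebraMap_eq_smul_one]
  rw [h, dAll_coe, hd.1, ιMulti_apply_coe, ExteriorAlgebra.ιMulti_succ_apply,
    ExteriorAlgebra.ιMulti_zero_apply, mul_one]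
  simp

lemma dAll_ι_mul (y : B) (η : Λ) : dAll d (ι' (δ y) * η) = -(ι' (δ y) * dAll d η) := by
  induction η using DirectSum.Decomposition.inductionOn (fun i : ℕ => ⋀[B]^i (Ω[B⁄k])) with
  | zero => simp
  | add a b ha hb => simp only [mul_add, map_add, ha, hb, neg_add]
  | homogeneous z =>
    rename_i p
    induction z using Synt29.DRGen.gen_induction δ (KaehlerDifferential.span_range_derivation k B) with
    | hzero => simp
    | hadd a b ha hb => simp only [Submodule.coe_add, mul_add, map_add, ha, hb, neg_add]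
    | hgenP b₀ b =>
      have h1 : ι' (δ y) * (DeRham.gen δ p b₀ b : Λ) = (DeRham.gen δ (p + 1) b₀ (Fin.cons y b) : Λ) := by
        simp only [DeRham.gen, Submodule.coe_smul, ιMulti_apply_coe, mul_smul_comm]
        rw [ExteriorAlgebra.ιMulti_succ_apply]
        simp [Matrix.vecTail, Function.comp_def]
      rw [h1, dAll_coe, dAll_coe, hd.1, hd.1, ιMulti_apply_coe, ιMulti_apply_coe]
      simp only [ExteriorAlgebra.ιMulti_succ_apply, Fin.cons_zero, Matrix.vecTail, Function.comp_def,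
        Fin.cons_succ]
      rw [← mul_assoc, ← mul_assoc,
        eq_neg_of_add_eq_zero_left (ExteriorAlgebra.ι_add_mul_swap (δ b₀) (δ y)), neg_mul]

omit hd

variable (k) in
/-- The exterior algebra element of a function of a set of variables. -/
noncomputable def Φ : {m : ℕ} → (Fin m → Ω[B⁄k]) → ((Fin m → Bool) → B) →ₗ[B] Λ
  | 0, _ => Algebra.linearMap B Λ ∘ₗ LinearMap.proj Fin.elim0
  | m + 1, e =>
    Φ (fun i => e i.succ) ∘ₗ
        LinearMap.funLeft B B (fun w : Fin m → Bool => (Fin.cons false w : Fin (m + 1) → Bool)) +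
      LinearMap.mulLeft B (ι' (e 0)) ∘ₗ Φ (fun i => e i.succ) ∘ₗ
        LinearMap.funLeft B B (fun w : Fin m → Bool => (Fin.cons true w : Fin (m + 1) → Bool))

lemma Φ_succ {m : ℕ} (e : Fin (m + 1) → Ω[B⁄k]) (c : (Fin (m + 1) → Bool) → B) :
    Φ k e c = Φ k (fun i => e i.succ) (Koszul.lo (k := k) c) +
      ι' (e 0) * Φ k (fun i => e i.succ) (Koszul.hi (k := k) c) := rfl

lemma contract_Φ (φ : Module.Dual B (Ω[B⁄k])) : ∀ {m : ℕ} (e : Fin m → Ω[B⁄k]), (∀ i, φ (e i) = 0) →
    ∀ c, CliffordAlgebra.contractLeft (Q := (0 : QuadraticForm B (Ω[B⁄k]))) φ (Φ k e c) = 0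
  | 0, _, _, c => CliffordAlgebra.contractLeft_algebraMap _ _ _
  | m + 1, e, he, c => by
    rw [Φ_succ, map_add, CliffordAlgebra.contractLeft_ι_mul, he, zero_smul,
      contract_Φ φ _ (fun i => he i.succ), contract_Φ φ _ (fun i => he i.succ), mul_zero, sub_zero,
      add_zero]

lemma Φ_injective : ∀ {m : ℕ} (e : Fin m → Ω[B⁄k]) (φ : Fin m → Module.Dual B (Ω[B⁄k])),
    (∀ i j, φ i (e j) = if i = j then 1 else 0) → ∀ c, Φ k e c = 0 → c = 0
  | 0, _, _, _, c, h => funext fun v => by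
    rw [Subsingleton.elim v Fin.elim0]
    exact (ExteriorAlgebra.algebraMap_inj (Ω[B⁄k]) _ 0).1 (h.trans (map_zero _).symm)
  | m + 1, e, φ, hφ, c, h => by
    have h' : ∀ i j, φ (Fin.succ i) (e (Fin.succ j)) = if i = j then 1 else 0 := fun i j => by
      simp [hφ, Fin.succ_inj]
    have h0 : ∀ j, φ 0 (e (Fin.succ j)) = 0 := fun j => by
      simp [hφ, (Fin.succ_ne_zero j).symm]
    rw [Φ_succ] at h
    have h2 := congrArg (CliffordAlgebra.contractLeft (Q := (0 : QuadraticForm B (Ω[B⁄k]))) (φ 0)) h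
    rw [map_add, map_zero, CliffordAlgebra.contractLeft_ι_mul, hφ, if_pos rfl, one_smul,
      contract_Φ _ _ h0, contract_Φ _ _ h0, mul_zero, sub_zero, zero_add] at h2
    rw [h2, mul_zero, add_zero] at h
    exact Koszul.ext_lo_hi (k := k) ((Φ_injective _ _ h' _ h).trans (map_zero _).symm)
      ((Φ_injective _ _ h' _ h2).trans (map_zero _).symm)

lemma one_mem_range : ∀ {m : ℕ} (e : Fin m → Ω[B⁄k]), (1 : Λ) ∈ LinearMap.range (Φ k e)
  | 0, _ => ⟨fun _ => 1, map_one (algebraMap B Λ)⟩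
  | m + 1, e => by
    obtain ⟨a, ha⟩ := one_mem_range (fun i => e i.succ)
    exact ⟨Koszul.join a 0, by rw [Φ_succ, Koszul.lo_join, Koszul.hi_join, map_zero, mul_zero, add_zero, ha]⟩

lemma ι_mul_mem_range : ∀ {m : ℕ} (e : Fin m → Ω[B⁄k]) (i : Fin m) (c : (Fin m → Bool) → B),
    ι' (e i) * Φ k e c ∈ LinearMap.range (Φ k e)
  | m + 1, e, i, c => by
    rcases Fin.eq_zero_or_eq_succ i with rfl | ⟨j, rfl⟩
    · refine ⟨Koszul.join 0 (Koszul.lo (k := k) c), ?_⟩
      rw [Φ_succ, Φ_succ, Koszul.lo_join, Koszul.hi_join, map_zero, zero_add, mul_add, ← mul_assoc,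
        ExteriorAlgebra.ι_sq_zero, zero_mul, add_zero]
    · obtain ⟨a, ha⟩ := ι_mul_mem_range (fun i => e i.succ) j (Koszul.lo (k := k) c)
      obtain ⟨b, hb⟩ := ι_mul_mem_range (fun i => e i.succ) j (Koszul.hi (k := k) c)
      refine ⟨Koszul.join a (-b), ?_⟩
      rw [Φ_succ, Φ_succ, Koszul.lo_join, Koszul.hi_join, map_neg, ha, hb, mul_add, mul_neg,
        ← mul_assoc, ← mul_assoc,
        eq_neg_of_add_eq_zero_left (ExteriorAlgebra.ι_add_mul_swap (e j.succ) (e 0)), neg_mul]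

lemma Φ_surjective {n : ℕ} (b : Module.Basis (Fin n) B (Ω[B⁄k])) :
    Function.Surjective (Φ k b) := fun z => by
  suffices key : ∀ z : Λ, ∀ w ∈ LinearMap.range (Φ k b), z * w ∈ LinearMap.range (Φ k b) by
    simpa using key z 1 (one_mem_range _)
  intro z
  induction z using ExteriorAlgebra.induction with
  | algebraMap r => intro w hw; rw [← Algebra.smul_def]; exact Submodule.smul_mem _ r hw
  | ι m =>
    intro w hw
    obtain ⟨c, rfl⟩ := hw
    have : ι' m * Φ k b c ∈ LinearMap.range (Φ k b) := by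
      rw [← b.sum_repr m, map_sum, Finset.sum_mul]
      refine Submodule.sum_mem _ fun i _ => ?_
      rw [map_smul, smul_mul_assoc]
      exact Submodule.smul_mem _ _ (ι_mul_mem_range _ i c)
    exact this
  | mul a c ha hc => intro w hw; rw [mul_assoc]; exact ha _ (hc w hw)
  | add a c ha hc => intro w hw; rw [add_mul]; exact add_mem (ha w hw) (hc w hw)

include hd in
/-- The differential in terms of the Koszul complex. -/
lemma dAll_Φ : ∀ {m : ℕ} (y : Fin m → B) (D : Fin m → Module.End k B) {l : ℕ} (y' : Fin l → B)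
    (D' : Fin l → Module.End k B),
    (∀ f : B, δ f = ∑ i, D' i f • δ (y' i) + ∑ i, D i f • δ (y i)) →
    ∀ c : (Fin m → Bool) → B, dAll d (Φ k (fun i => δ (y i)) c) =
      Φ k (fun i => δ (y i)) (Koszul.kos D c) +
        ∑ i, ι' (δ (y' i)) * Φ k (fun i => δ (y i)) ((D' i).compLeft _ c)
  | 0, y, D, l, y', D', h, c => by
    show dAll d (algebraMap B Λ (c Fin.elim0)) = algebraMap B Λ (0 : B) + _
    rw [dAll_algebraMap hd, h, map_zero, zero_add]
    simp only [Finset.univ_eq_empty, Finset.sum_empty, add_zero, map_sum, map_smul]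
    refine Finset.sum_congr rfl fun i _ => ?_
    show _ = ι' (δ (y' i)) * algebraMap B Λ _
    rw [← Algebra.commutes, ← Algebra.smul_def]
    rfl
  | m + 1, y, D, l, y', D', h, c => by
    have IH := dAll_Φ (fun i => y i.succ) (fun i => D i.succ) (Fin.cons (y 0) y') (Fin.cons (D 0) D')
      (fun f => by
        rw [h f, Fin.sum_univ_succ, Fin.sum_univ_succ (f := fun i => (Fin.cons (D 0) D' : Fin (l + 1) → Module.End k B) i f • δ ((Fin.cons (y 0) y' : Fin (l + 1) → B) i))]
        simp only [Fin.cons_zero, Fin.cons_succ]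
        abel)
    rw [Φ_succ, map_add, dAll_ι_mul hd, IH, IH, Fin.sum_univ_succ, Fin.sum_univ_succ, Φ_succ,
      Koszul.lo_kos, Koszul.hi_kos]
    simp only [Fin.cons_zero, Fin.cons_succ, map_sub, mul_sub, mul_add, Φ_succ, Finset.sum_add_distrib,
      ← mul_assoc, ExteriorAlgebra.ι_sq_zero, zero_mul, zero_add, Finset.mul_sum]
    have hs : ∀ i : Fin l, ι' (δ (y' i)) * ι' (δ (y 0)) = -(ι' (δ (y 0)) * ι' (δ (y' i))) := fun i =>
      eq_neg_of_add_eq_zero_left (ExteriorAlgebra.ι_add_mul_swap _ _)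
    simp only [hs, neg_mul, Finset.sum_neg_distrib]
    have e1 : ∀ i, Koszul.lo (k := k) ((D' i).compLeft _ c) = (D' i).compLeft _ (Koszul.lo (k := k) c) :=
      fun _ => rfl
    have e2 : ∀ i, Koszul.hi (k := k) ((D' i).compLeft _ c) = (D' i).compLeft _ (Koszul.hi (k := k) c) :=
      fun _ => rfl
    simp only [e1, e2]
    abel

include hd in
/-- Finiteness of cocycles modulo coboundaries from finiteness of the Koszul complex. -/
theorem exists_fg_cocycles {n : ℕ} (b : Module.Basis (Fin n) B (Ω[B⁄k])) (y : Fin n → B)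
    (hy : ∀ i, b i = δ (y i)) (D : Fin n → Module.End k B) (hD : ∀ f i, D i f = b.repr (δ f) i)
    (hfin : Koszul.IsFinCoh (Koszul.kos D)) (p : ℕ) :
    ∃ S : Submodule k ↥(⋀[B]^p (Ω[B⁄k])), S.FG ∧
      DeRham.cocycles d p ≤ S ⊔ DeRham.coboundaries d p := by
  obtain ⟨S, hS, hker⟩ := hfin
  have hb : (fun i => δ (y i)) = b := funext fun i => (hy i).symm
  have hcomm : ∀ c, dAll d (Φ k b c) = Φ k b (Koszul.kos D c) := fun c => by
    have := dAll_Φ hd y D (l := 0) Fin.elim0 Fin.elim0 (fun f => by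
      conv_lhs => rw [← b.sum_repr (δ f)]
      simp [hD, hy]) c
    rw [hb] at this
    simpa using this
  have hinj : Function.Injective (Φ k b) := (injective_iff_map_eq_zero (Φ k b)).2 fun c hc =>
    Φ_injective b (fun i => b.coord i) (fun i j => by simp [Finsupp.single_apply, eq_comm]) c hc
  let comp : Λ →+ ↥(⋀[B]^p (Ω[B⁄k])) :=
    (DFinsupp.evalAddMonoidHom p).comp
      (DirectSum.decomposeAddEquiv (fun i : ℕ => ⋀[B]^i (Ω[B⁄k]))).toAddMonoidHom
  have hcomp : ∀ z : ↥(⋀[B]^p (Ω[B⁄k])), comp (z : Λ) = z := fun z =>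
    Subtype.ext (DirectSum.decompose_of_mem_same _ z.2)
  have hcompd : ∀ w : Λ, comp (dAll d w) ∈ DeRham.coboundaries d p := fun w => by
    induction w using DirectSum.Decomposition.inductionOn (fun i : ℕ => ⋀[B]^i (Ω[B⁄k])) with
    | zero => simp
    | add a c ha hc => rw [map_add, map_add]; exact add_mem ha hc
    | homogeneous z =>
      rename_i q
      rw [dAll_coe]
      by_cases hq : q + 1 = p
      · subst hq
        rw [hcomp]
        exact ⟨z, rfl⟩
      · rw [show comp (d q z : Λ) = 0 from Subtype.ext (DirectSum.decompose_of_mem_ne _ (d q z).2 hq)]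
        exact zero_mem _
  let Ψ : ((Fin n → Bool) → B) →+ ↥(⋀[B]^p (Ω[B⁄k])) := comp.comp (Φ k b).toAddMonoidHom
  let Ψ' : ((Fin n → Bool) → B) →ₗ[k] ↥(⋀[B]^p (Ω[B⁄k])) :=
    { Ψ with
      map_smul' := fun r c => Subtype.ext (by
        show (DirectSum.decompose (fun i : ℕ => ⋀[B]^i (Ω[B⁄k])) (Φ k b (r • c)) p : Λ) =
          r • (DirectSum.decompose (fun i : ℕ => ⋀[B]^i (Ω[B⁄k])) (Φ k b c) p : Λ)
        rw [← algebraMap_smul B r c, map_smul, DirectSum.decompose_smul, ← algebraMap_smul B r]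
        rfl) }
  refine ⟨S.map Ψ', hS.map _, fun z hz => ?_⟩
  obtain ⟨c, hc⟩ := Φ_surjective b (z : Λ)
  have hck : Koszul.kos D c = 0 := hinj (by
    rw [map_zero, ← hcomm, hc, dAll_coe, show d p z = 0 from hz]
    rfl)
  obtain ⟨s, hs, t, ⟨w, rfl⟩, hst⟩ := Submodule.mem_sup.1 (hker hck)
  refine Submodule.mem_sup.2 ⟨Ψ' s, ⟨s, hs, rfl⟩, comp (dAll d (Φ k b w)), hcompd _, ?_⟩
  show comp (Φ k b s) + _ = z
  rw [hcomm, ← map_add, ← map_add, hst, hc, hcomp]

end Groth.Agent.DRHyp.Forms
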