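import Groth.Agent.DRHyp.ExtSheaf
import Groth.Agent.QCoh.Support
import Groth.Agent.QCoh.SubCompare
import Groth.Agent.QCoh.TensorSections
import Groth.Agent.InvX.Tensor
import Mathlib.LinearAlgebra.ExteriorPower.Basis

/-!
# Morphisms given on a basis, cokernels on affines, twists by frames
-/

set_option autoImplicit false

universe u

open CategoryTheory CategoryTheory.Limits AlgebraicGeometry Opposite TopologicalSpace exteriorPower
open Groth.Agent.LogModGeo (rs rf rs_rs rf_rf rs_refl rf_refl rs_smul app_rs eq_of_locally)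

noncomputable section

namespace Groth.Agent.DRHyp.Hyp

variable {X : Scheme.{u}}

/-- A predicate holding on a basis. -/
def IsBase (P : X.Opens → Prop) : Prop :=
  ∀ (U : X.Opens) (x : X), x ∈ U → ∃ (V : X.Opens), P V ∧ V ≤ U ∧ x ∈ V

/-- A morphism given by compatible linear maps on a basis. -/
theorem exists_hom_of_base {M N : X.Modules} {P : X.Opens → Prop} (hP : IsBase P)
    (f : ∀ V, P V → (Γ(M, V) →ₗ[Γ(X, V)] Γ(N, V)))
    (hf : ∀ (V W : X.Opens) (hV : P V) (hW : P W) (h : W ≤ V) (x : Γ(M, V)),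
      rs N h (f V hV x) = f W hW (rs M h x)) :
    ∃ φ : M ⟶ N, ∀ (V : X.Opens) (hV : P V) (x : Γ(M, V)), φ.app V x = f V hV x := by
  obtain ⟨φ, hφ⟩ := LogModGeo.exists_hom_of_rel
    (fun U x y => ∀ (V : X.Opens) (hV : P V) (h : V ≤ U), rs N h y = f V hV (rs M h x))
    (fun {U U'} i x y H V hV h => by rw [rs_rs, rs_rs]; exact H V hV _)
    (fun U x x' y y' H H' V hV h => by rw [map_add, map_add, map_add, H V hV h, H' V hV h])
    (fun U a x y H V hV h => by rw [rs_smul, rs_smul, map_smul, H V hV h])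
    (fun U x y y' H H' => eq_of_locally N _ _ fun p hp => by
      obtain ⟨V, hV, h, hpV⟩ := hP U p hp
      exact ⟨V, h, hpV, (H V hV h).trans (H' V hV h).symm⟩)
    (fun U x p hp => by
      obtain ⟨V, hV, h, hpV⟩ := hP U p hp
      exact ⟨V, h, hpV, f V hV (rs M h x), fun W hW h' => hf V W hV hW h' _⟩)
  exact ⟨φ, fun V hV x => hφ V x _ fun W hW h => hf V W hV hW h x⟩

/-- Morphisms agreeing on a basis are equal. -/
theorem hom_ext_of_base {M N : X.Modules} {P : X.Opens → Prop} (hP : IsBase P) {φ ψ : M ⟶ N}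
    (h : ∀ V, P V → ∀ x : Γ(M, V), φ.app V x = ψ.app V x) : φ = ψ := by
  refine Scheme.Modules.hom_ext _ _ fun U => ?_
  ext x
  refine eq_of_locally N _ _ fun p hp => ?_
  obtain ⟨V, hV, hVU, hpV⟩ := hP U p hp
  exact ⟨V, hVU, hpV, (app_rs φ hVU x).symm.trans ((h V hV _).trans (app_rs ψ hVU x))⟩

theorem mono_of_base {M N : X.Modules} {P : X.Opens → Prop} (hP : IsBase P) (φ : M ⟶ N)
    (h : ∀ V, P V → Function.Injective (φ.app V)) : Mono φ :=
  QCoh.mono_of_isBasis φ (B := {V | P V}) (Opens.isBasis_iff_nbhd.2 fun {U x} hx => by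
    obtain ⟨V, hV, hVU, hxV⟩ := hP U x hx
    exact ⟨V, hV, hxV, hVU⟩) fun V hV => h V hV

/-- Sections of a cokernel over an affine open. -/
theorem cokernel_sections {A B : X.Modules} (hA : Coh.IsQCoh A) (hB : Coh.IsQCoh B) (α : A ⟶ B)
    {U : X.Opens} (hU : IsAffineOpen U) :
    Function.Surjective ((cokernel.π α).app U) ∧
      ∀ z : Γ(B, U), (cokernel.π α).app U z = 0 ↔ ∃ a, α.app U a = z := by
  refine ⟨QCoh.app_surjective_of_epi hB (QCoh.isQCoh_cokernel hA hB α) _ hU,
    fun z => ⟨fun hz => ?_, ?_⟩⟩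
  · have hι : (cokernel.π (Abelian.image.ι α)).app U z = 0 := by
      have h0 : α ≫ cokernel.π (Abelian.image.ι α) = 0 := by
        refine (congrArg (· ≫ cokernel.π (Abelian.image.ι α)) (Abelian.image.fac α).symm).trans ?_
        exact (Category.assoc _ _ _).trans ((congrArg _ (cokernel.condition _)).trans comp_zero)
      refine (congr(($(cokernel.π_desc α _ h0)).app U z)).symm.trans ?_
      show (cokernel.desc α _ h0).app U ((cokernel.π α).app U z) = 0
      rw [hz, map_zero]
    obtain ⟨w, hw⟩ := (QCoh.mem_range_iff_cokernel (Abelian.image.ι α) U z).1 hι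
    have hI : Coh.IsQCoh (Abelian.image α) :=
      QCoh.isQCoh_kernel hB (QCoh.isQCoh_cokernel hA hB α) (cokernel.π α)
    obtain ⟨a, ha⟩ := QCoh.app_surjective_of_epi hA hI (Abelian.factorThruImage α) hU w
    refine ⟨a, ?_⟩
    refine (congr(($(Abelian.image.fac α)).app U a)).symm.trans ?_
    show (Abelian.image.ι α).app U ((Abelian.factorThruImage α).app U a) = z
    rw [ha]
    exact hw
  · rintro ⟨a, rfl⟩
    exact congr(($(cokernel.condition α)).app U a)

/-- Tensoring with a frame on an affine open. -/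
theorem bijective_tmul_frame {F P : X.Modules} (hF : Coh.IsQCoh F) (hP : Coh.IsQCoh P) {U : X.Opens}
    (hU : IsAffineOpen U) {e : Γ(P, U)} (he : InvX.IsFrame e) :
    Function.Bijective (fun y : Γ(F, U) => InvX.tmul y e) := by
  have hid : AModX.res P (le_refl U) e = e := AModX.res_self _
  have hb : Function.Bijective (LinearMap.toSpanSingleton Γ(X, U) Γ(P, U) e) := by
    have := he U le_rfl
    simp only [hid] at this
    exact this
  let ee := LinearEquiv.ofBijective _ hb
  let E := (TensorProduct.rid Γ(X, U) Γ(F, U)).symm.trans (TensorProduct.congr (LinearEquiv.refl _ _) ee)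
  have : (fun y : Γ(F, U) => InvX.tmul y e) = QCoh.tmLin F P U ∘ E := funext fun y => by
    have : E y = y ⊗ₜ[Γ(X, U)] e := by simp [E, ee]
    rw [Function.comp_apply, this]
    rfl
  rw [this]
  exact (QCoh.bijective_tmLin hF hP hU).comp E.bijective

/-- Tensoring on the right with a section. -/
def tmulRight (F : X.Modules) {P : X.Modules} {U : X.Opens} (e : Γ(P, U)) :
    Γ(F, U) →ₗ[Γ(X, U)] Γ(CohB1.tensorMod F P, U) where
  toFun y := InvX.tmul y e
  map_add' x y := QCoh.tmS_add_left F P x y e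
  map_smul' a y := InvX.tmul_smul_left a y e

theorem tmul_zero_left {F P : X.Modules} {U : X.Opens} (e : Γ(P, U)) : InvX.tmul (0 : Γ(F, U)) e = 0 :=
  (LinearMap.map_zero₂ (LinearMap.mk₂ Γ(X, U) (QCoh.tmS F P) (QCoh.tmS_add_left F P) (QCoh.tmS_smul_left F P)
    (QCoh.tmS_add_right F P) (QCoh.tmS_smul_right F P)) e)

variable {E : X.Modules} (hE : Coh.IsQCoh E) {p : ℕ}

/-- Sections of the exterior power over an affine open. -/
def ev (p : ℕ) {U : X.Opens} (hU : IsAffineOpen U) :
    Γ(ExtSheaf.mod hE p, U) ≃ₗ[Γ(X, U)] ExtSheaf.T E p U :=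
  (ExtSheaf.isExtPow_mod hE p).choose ⟨U, hU⟩

theorem ev_symm_res {U V : X.Opens} (hU : IsAffineOpen U) (hV : IsAffineOpen V) (h : V ≤ U)
    (x : ExtSheaf.T E p U) :
    rs (ExtSheaf.mod hE p) h ((ev hE p hU).symm x) = (ev hE p hV).symm (ExtSheaf.r E p h x) := by
  induction x using Wedge.induct with
  | h0 => simp only [map_zero]
  | hadd x y hx hy => simp only [map_add, hx, hy]
  | hgen a v =>
    rw [map_smul, rs_smul, ExtSheaf.r_smul, map_smul, ExtSheaf.r_ιMulti]
    exact congrArg _ ((ExtSheaf.isExtPow_mod hE p).choose_spec ⟨U, hU⟩ ⟨V, hV⟩ h v)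


/-- A regular function is regular on exterior powers of a projective module. -/
theorem smul_eq_zero_of_projective {A M : Type u} [CommRing A] [AddCommGroup M] [Module A M]
    [Module.Projective A M] {g : A} (hg : ∀ a : A, g * a = 0 → a = 0) {p : ℕ} {x : ↥(⋀[A]^p M)}
    (hx : g • x = 0) : x = 0 := by
  classical
  obtain ⟨s, hs⟩ := (Module.projective_def' (R := A) (P := M)).1 inferInstance
  let _ : LinearOrder M := linearOrderOfSTO WellOrderingRel
  have hinj := exteriorPower.map_injective (n := p) (Finsupp.linearCombination A (id : M → M)) hs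
  refine hinj ?_
  let b := (Finsupp.basisSingleOne (R := A) (ι := M)).exteriorPower p
  rw [map_zero]
  refine b.ext_elem fun i => ?_
  have h := congrArg (fun z => b.repr (exteriorPower.map p s z) i) hx
  simp only [map_smul, map_zero, Finsupp.smul_apply, smul_eq_mul, Finsupp.zero_apply] at h
  rw [map_zero, Finsupp.zero_apply]
  exact hg _ h

end Groth.Agent.DRHyp.Hyp
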