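import Groth.Agent.DRHyp.Terms
import Groth.Agent.SmoothDim.Basic
import Mathlib.RingTheory.Smooth.StandardSmoothCotangent
import Mathlib.Topology.KrullDimension

/-!
# Vanishing of algebraic de Rham cohomology
-/

set_option autoImplicit false

universe u

open CategoryTheory CategoryTheory.Limits AlgebraicGeometry Opposite TopologicalSpace exteriorPower

namespace Groth.Agent.DRHyp

variable {X S : Scheme.{u}}

/-- The terms of the `ℤ`-indexed complex of a de Rham complex. -/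
noncomputable def kzIso {f : X ⟶ S} {Ω' : X.Modules} {δ : OmegaSh.Der f Ω'} (D : DeRhamSh.Cx f Ω' δ)
    (p : ℕ) : D.KZ.X (p : ℤ) ≅ Coh.toAb (D.term p) :=
  HomologicalComplex.extendXIso D.K ComplexShape.embeddingUpNat (i := p) rfl ≪≫ D.iso p

/-- de Rham cohomology vanishes in a degree where all the Hodge cohomology vanishes. -/
theorem subsingleton_HdR {f : X ⟶ S} {Ω' : X.Modules} {δ : OmegaSh.Der f Ω'} (D : DeRhamSh.Cx f Ω' δ)
    [HasDerivedCategory.{u} (Sheaf (Opens.grothendieckTopology X) AddCommGrpCat.{u})] (i : ℤ)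
    (h : ∀ p q : ℕ, (p : ℤ) + q = i → Subsingleton (Coh.HH X (D.term p) q)) :
    Subsingleton (DeRhamSh.HdR D i) := by
  refine subsingleton_HT.{u, u} _ D.KZ 0 i fun j q hjq => ?_
  by_cases hj : 0 ≤ j
  · obtain ⟨p, rfl⟩ := Int.eq_ofNat_of_zero_le hj
    have := h p q hjq
    exact ((E1Deg.extCongrRight.{u} _ (kzIso D p) q).trans
      (extTopEquiv (Coh.toAb (D.term p)) q)).toEquiv.subsingleton
  · refine ⟨fun x y => ?_⟩
    have hz := D.KZ.isZero_of_isStrictlyGE 0 j (by omega)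
    have e : ∀ z : Abelian.Ext.{u} (CohCx.freeSheaf (Opens.grothendieckTopology X) ⊤) (D.KZ.X j) q,
        z = 0 := fun z => by
      rw [← Abelian.Ext.comp_mk₀_id z, hz.eq_of_src (𝟙 _) 0, Abelian.Ext.mk₀_zero,
        Abelian.Ext.comp_zero]
    rw [e x, e y]

/-- A quasi-coherent module with no sections over the members of an affine cover has no cohomology. -/
theorem subsingleton_HH_of_cover {M : X.Modules} (hM : Coh.IsQCoh M)
    (h : ∀ x : X, ∃ V : X.Opens, IsAffineOpen V ∧ x ∈ V ∧ Subsingleton Γ(M, V)) (q : ℕ) :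
    Subsingleton (Coh.HH X M q) := by
  suffices hz : IsZero (Coh.toAb M) by
    refine ⟨fun x y => ?_⟩
    have e : ∀ z : Abelian.Ext.{u} ((constantSheaf (Opens.grothendieckTopology X) AddCommGrpCat.{u}).obj
        (AddCommGrpCat.of (ULift.{u} ℤ))) (Coh.toAb M) q, z = 0 := fun z => by
      rw [← Abelian.Ext.comp_mk₀_id z, hz.eq_of_src (𝟙 _) 0, Abelian.Ext.mk₀_zero,
        Abelian.Ext.comp_zero]
    exact (e x).trans (e y).symm
  rw [IsZero.iff_id_eq_zero]
  apply Sheaf.hom_ext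
  ext W s
  change (s : Γ(M, W.unop)) = 0
  refine TopCat.Sheaf.eq_of_locally_eq' (F := (⟨M.presheaf, M.isSheaf⟩ : TopCat.Sheaf Ab X))
    (fun x : W.unop => ⨆ V : {V : X.Opens // V ≤ W.unop ∧ x.1 ∈ V ∧ Subsingleton Γ(M, V)}, V.1) _
    (fun x => homOfLE (iSup_le fun V => V.2.1)) ?_ _ _ fun x => ?_
  · intro x hx
    obtain ⟨V, hV, hxV, hs⟩ := h x
    obtain ⟨g, hg, hxg⟩ := hV.exists_basicOpen_le ⟨x, hx⟩ hxV
    refine Opens.mem_iSup.2 ⟨⟨x, hx⟩, Opens.mem_iSup.2 ⟨⟨X.basicOpen g, hg, hxg, ?_⟩, hxg⟩⟩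
    let _ := QCoh.basicModule g M
    have := QCoh.isLocalizedModule_basicRes g hM hV
    refine ⟨fun a b => ?_⟩
    obtain ⟨⟨a', s⟩, ha⟩ := IsLocalizedModule.surj (Submonoid.powers g) (QCoh.basicRes g M) a
    obtain ⟨⟨b', t⟩, hb⟩ := IsLocalizedModule.surj (Submonoid.powers g) (QCoh.basicRes g M) b
    rw [Subsingleton.elim a' 0, map_zero] at ha
    rw [Subsingleton.elim b' 0, map_zero] at hb
    exact ((IsLocalizedModule.smul_inj (QCoh.basicRes g M) s a 0).1 (ha.trans (smul_zero s).symm)).trans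
      ((IsLocalizedModule.smul_inj (QCoh.basicRes g M) t b 0).1 (hb.trans (smul_zero t).symm)).symm
  · refine TopCat.Sheaf.eq_of_locally_eq' (F := (⟨M.presheaf, M.isSheaf⟩ : TopCat.Sheaf Ab X))
      (fun V : {V : X.Opens // V ≤ W.unop ∧ x.1 ∈ V ∧ Subsingleton Γ(M, V)} => V.1) _
      (fun V => homOfLE (le_iSup _ V)) le_rfl _ _ fun V => ?_
    have : Subsingleton Γ(M, V.1) := V.2.2.2
    exact Subsingleton.elim (α := Γ(M, V.1)) _ _

/-- Forms of degree above the dimension of a smooth scheme over a field vanish near every point. -/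
theorem exists_subsingleton_term {k : Type u} [Field k] {f : X ⟶ Spec (CommRingCat.of k)}
    [QuasiSeparated f] [Smooth f] (n : ℕ) (hn : topologicalKrullDim ↥X ≤ n) (D : DeRhamSh.OmegaCx f)
    (p : ℕ) (hp : n < p) (x : X) :
    ∃ V : X.Opens, IsAffineOpen V ∧ x ∈ V ∧ Subsingleton Γ(D.term p, V) := by
  obtain ⟨U, hU, V, hV, hxV, e, hstd⟩ := Smooth.exists_isStandardSmooth f x
  obtain rfl : U = ⊤ := top_le_iff.1 fun y _ => by
    rw [Subsingleton.elim y (f x)]
    exact e hxV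
  refine ⟨V, hV, hxV, ?_⟩
  let _ := kAlg f V
  have : Algebra.IsStandardSmooth k Γ(X, V) := by
    have h1 : RingHom.IsStandardSmooth (constHom f V) :=
      RingHom.isStandardSmooth_respectsIso.2 _
        (Scheme.ΓSpecIso (CommRingCat.of k)).symm.commRingCatIsoToRingEquiv hstd
    exact h1.toAlgebra
  have : Nonempty V := ⟨⟨x, hxV⟩⟩
  obtain ⟨ι, σ, _, _, ⟨P⟩⟩ := ‹Algebra.IsStandardSmooth k Γ(X, V)›.out
  have : Algebra.IsStandardSmoothOfRelativeDimension P.dimension k Γ(X, V) :=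
    ⟨ι, σ, inferInstance, inferInstance, P, rfl⟩
  have hdim : (P.dimension : WithBot ℕ∞) ≤ n := by
    rw [← SmoothDim.ringKrullDim_eq k Γ(X, V) P.dimension,
      ← PrimeSpectrum.topologicalKrullDim_eq_ringKrullDim]
    refine (Topology.IsInducing.topologicalKrullDim_le (f := ⇑hV.fromSpec) ?_).trans hn
    exact hV.fromSpec.isOpenEmbedding.isInducing
  have hm : P.dimension ≤ n := by exact_mod_cast hdim
  have hr : Module.finrank Γ(X, V) Ω[Γ(X, V)⁄k] = P.dimension :=
    Module.finrank_eq_of_rank_eq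
      (Algebra.IsStandardSmoothOfRelativeDimension.rank_kaehlerDifferential P.dimension)
  have : Subsingleton ↥(⋀[Γ(X, V)]^p (Ω[Γ(X, V)⁄k])) := by
    rw [← Module.finrank_eq_zero_iff_of_free (R := Γ(X, V)), exteriorPower.finrank_eq, hr,
      Nat.choose_eq_zero_of_lt (by omega)]
  exact (formEquiv (U := V) D p hV).symm.toEquiv.subsingleton

/-- de Rham cohomology of a smooth scheme vanishes from `n + r` on, if quasi-coherent cohomology
vanishes from `r` on and the dimension is at most `n`. -/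
theorem subsingleton_HdR_of_smooth {k : Type u} [Field k] {f : X ⟶ Spec (CommRingCat.of k)}
    [QuasiSeparated f] [Smooth f] (n : ℕ) (hn : topologicalKrullDim ↥X ≤ n) (r : ℕ)
    (hcd : ∀ (F : X.Modules), Coh.IsQCoh F → ∀ q : ℕ, r ≤ q → Subsingleton (Coh.HH X F q))
    (D : DeRhamSh.OmegaCx f)
    [HasDerivedCategory.{u} (Sheaf (Opens.grothendieckTopology ↥X) AddCommGrpCat.{u})]
    (i : ℤ) (hi : (n : ℤ) + r ≤ i) : Subsingleton (DeRhamSh.HdR D i) := by
  refine subsingleton_HdR D i fun p q hpq => ?_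
  by_cases hq : r ≤ q
  · exact hcd _ (isQCoh_term D p) q hq
  · exact subsingleton_HH_of_cover (isQCoh_term D p)
      (exists_subsingleton_term n hn D p (by omega)) q

end Groth.Agent.DRHyp
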