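import Groth.Agent.DRHyp.HypPres
import Groth.Agent.DRHyp.Scheme
import Groth.Agent.QCoh.HHExact
import Groth.Agent.QCoh.Support

/-!
# Vanishing of cohomology of twisted forms on a smooth hypersurface
-/

set_option autoImplicit false

universe u

open CategoryTheory CategoryTheory.Limits AlgebraicGeometry Opposite TopologicalSpace exteriorPower
open Groth.Agent.LogModGeo (rs rf rs_rs rf_rf rs_refl rf_refl rs_smul app_rs)

noncomputable section

namespace Groth.Agent.DRHyp.Hyp

section Exact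

variable {X : Scheme.{u}} {S : ShortComplex X.Modules}

theorem subsingleton_H_X₁ {Y : TopCat.{u}} {T : ShortComplex (CohTop.Ab Y)} (hT : T.ShortExact) (a : ℕ)
    (h₂ : Subsingleton (CohTop.H T.X₂ (a + 1))) (h₃ : Subsingleton (CohTop.H T.X₃ a)) :
    Subsingleton (CohTop.H T.X₁ (a + 1)) := by
  refine subsingleton_of_forall_eq 0 fun x => ?_
  obtain ⟨y, hy⟩ := Abelian.Ext.covariant_sequence_exact₁ _ hT x (h₂.elim _ _) rfl
  rw [← hy, h₃.elim y 0]
  exact Abelian.Ext.zero_comp _ _ _ _ _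

theorem subsingleton_H_X₃ {Y : TopCat.{u}} {T : ShortComplex (CohTop.Ab Y)} (hT : T.ShortExact) (a : ℕ)
    (h₂ : Subsingleton (CohTop.H T.X₂ a)) (h₁ : Subsingleton (CohTop.H T.X₁ (a + 1))) :
    Subsingleton (CohTop.H T.X₃ a) := by
  refine subsingleton_of_forall_eq 0 fun x => ?_
  obtain ⟨y, hy⟩ := Abelian.Ext.covariant_sequence_exact₃ _ hT x rfl (h₁.elim _ _)
  rw [← hy, h₂.elim y 0]
  exact Abelian.Ext.zero_comp _ _ _ _ _

/-- Cohomology of a submodule from that of the module and of the quotient. -/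
theorem subsingleton_HH_X₁ (hS : S.ShortExact) (a : ℕ) (h₂ : Subsingleton (Coh.HH X S.X₂ (a + 1)))
    (h₃ : Subsingleton (Coh.HH X S.X₃ a)) : Subsingleton (Coh.HH X S.X₁ (a + 1)) :=
  subsingleton_H_X₁ (Y := X.toPresheafedSpace.carrier) (T := S.map (QCoh.toAbFunctor X))
    (QCoh.toAb_shortExact hS) a h₂ h₃

/-- Cohomology of a quotient from that of the module and of the submodule. -/
theorem subsingleton_HH_X₃ (hS : S.ShortExact) (a : ℕ) (h₂ : Subsingleton (Coh.HH X S.X₂ a))
    (h₁ : Subsingleton (Coh.HH X S.X₁ (a + 1))) : Subsingleton (Coh.HH X S.X₃ a) :=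
  subsingleton_H_X₃ (Y := X.toPresheafedSpace.carrier) (T := S.map (QCoh.toAbFunctor X))
    (QCoh.toAb_shortExact hS) a h₂ h₁

theorem shortExact_cokernel {A B : X.Modules} (α : A ⟶ B) [Mono α] :
    (ShortComplex.mk α (cokernel.π α) (cokernel.condition α)).ShortExact where
  exact := ShortComplex.exact_cokernel α

end Exact

variable {k : Type u} [Field k] {X : Scheme.{u}} (f : X ⟶ Spec (CommRingCat.of k)) [QuasiSeparated f]
  [Smooth f]

/-- Forms of degree above the dimension vanish on small opens around every point. -/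
theorem exists_subsingleton_TO (n : ℕ) (hn : topologicalKrullDim ↥X ≤ n) {M : X.Modules}
    (hM : PicF.IsInvertible M) {p : ℕ} (hp : n < p) (x : X) :
    ∃ V : X.Opens, Small (M := M) V ∧ x ∈ V ∧ Subsingleton (TO f p V) := by
  obtain ⟨U, hU, V, hV, hxV, e, hstd⟩ := Smooth.exists_isStandardSmooth f x
  obtain rfl : U = ⊤ := top_le_iff.1 fun y _ => by
    rw [Subsingleton.elim y (f x)]
    exact e hxV
  obtain ⟨O, hxO, e₀, he₀⟩ := InvX.exists_frame hM x
  obtain ⟨g, hg, hxg⟩ := hV.exists_basicOpen_le (V := O) ⟨x, hxO⟩ hxV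
  refine ⟨X.basicOpen g, ⟨hV.basicOpen g, _, he₀.res hg⟩, hxg, ?_⟩
  have hTV : Subsingleton (TO f p V) := by
    let _ := kAlg f V
    have : Algebra.IsStandardSmooth k Γ(X, V) := by
      have h1 : RingHom.IsStandardSmooth (constHom f V) :=
        RingHom.isStandardSmooth_respectsIso.2 _
          (Scheme.ΓSpecIso (CommRingCat.of k)).symm.commRingCatIsoToRingEquiv hstd
      exact h1.toAlgebra
    have : Nonempty V := ⟨⟨x, hxV⟩⟩
    obtain ⟨ι, σ, _, _, ⟨P⟩⟩ := ‹Algebra.IsStandardSmooth k Γ(X, V)›.out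
    have : Algebra.IsStandardSmoothOfRelativeDimension P.dimension k Γ(X, V) :=
      ⟨ι, σ, inferInstance, inferInstance, P, rfl⟩
    have hdim : (P.dimension : WithBot ℕ∞) ≤ n := by
      rw [← SmoothDim.ringKrullDim_eq k Γ(X, V) P.dimension,
        ← PrimeSpectrum.topologicalKrullDim_eq_ringKrullDim]
      refine (Topology.IsInducing.topologicalKrullDim_le (f := ⇑hV.fromSpec) ?_).trans hn
      exact hV.fromSpec.isOpenEmbedding.isInducing
    have hm : P.dimension ≤ n := by exact_mod_cast hdim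
    have hr : Module.finrank Γ(X, V) Ω[Γ(X, V)⁄k] = P.dimension :=
      Module.finrank_eq_of_rank_eq
        (Algebra.IsStandardSmoothOfRelativeDimension.rank_kaehlerDifferential P.dimension)
    have : Subsingleton ↥(⋀[Γ(X, V)]^p (Ω[Γ(X, V)⁄k])) := by
      rw [← Module.finrank_eq_zero_iff_of_free (R := Γ(X, V)), exteriorPower.finrank_eq, hr,
        Nat.choose_eq_zero_of_lt (by omega)]
    exact (extMapEquiv p (omegaEquiv f hV)).symm.toEquiv.subsingleton
  refine subsingleton_of_forall_eq 0 fun y => ?_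
  obtain ⟨m, z, hz⟩ := (ExtSheaf.exists_localization (isQCoh_omega f) hV g).1 y
  rw [hTV.elim z 0, map_zero, map_pow] at hz
  have hu : IsUnit (rf (X.basicOpen_le g) g ^ m) := (RingedSpace.isUnit_res_basicOpen _ g).pow m
  exact hu.smul_left_cancel.1 (hz.symm.trans (smul_zero _).symm)

variable {f} {M : X.Modules} (hM : PicF.IsInvertible M) (s : Coh.structureModule X ⟶ M) [Mono s]

include hM in
theorem mono_upN (j t : ℕ) : Mono (upN f s j t) := by
  refine mono_of_base (isBase_small hM) _ fun V hV => ?_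
  obtain ⟨hVa, e, he⟩ := hV
  refine (injective_iff_map_eq_zero ((upN f s j t).app V).hom).2 fun y hy => ?_
  obtain ⟨x, rfl⟩ := (qN_bijective f hM j t hVa he).2 y
  have h1 : qN f j (t + 1) hVa e (coef s he • x) = qN f j (t + 1) hVa e 0 :=
    (upN_qN f s j t hVa he x).symm.trans (hy.trans (map_zero _).symm)
  haveI := projective_omega f hVa
  rw [smul_eq_zero_of_projective (coef_regular s he) ((qN_bijective f hM j (t + 1) hVa he).1 h1), map_zero]

include hM in
theorem subsingleton_CC_of_lt (n : ℕ) (hn : topologicalKrullDim ↥X ≤ n) {j : ℕ} (hj : n < j) (t : ℕ)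
    (x : X) : ∃ V : X.Opens, Small (M := M) V ∧ x ∈ V ∧ Subsingleton Γ(CC f s j t, V) := by
  obtain ⟨V, hV, hxV, hs⟩ := exists_subsingleton_TO f n hn hM hj x
  obtain ⟨hVa, e, he⟩ := id hV
  exact ⟨V, hV, hxV, ((presCC f s hM j t).surj hVa he).subsingleton⟩

include hM in
theorem subsingleton_HH_CC (n : ℕ) (hn : topologicalKrullDim ↥X ≤ n)
    (hv : ∀ j ≤ n, ∀ t p, Subsingleton (Coh.HH X (N f (M := M) j t) (p + 1))) (j t a : ℕ) :
    Subsingleton (Coh.HH X (CC f s j t) (a + 1)) := by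
  by_cases hj : j ≤ n
  · haveI := mono_upN hM s (f := f) j t
    exact subsingleton_HH_X₃ (shortExact_cokernel (upN f s j t)) (a + 1) (hv j hj (t + 1) a) (hv j hj t (a + 1))
  · exact subsingleton_HH_of_cover (isQCoh_CC f hM s j t) (fun x => by
      obtain ⟨V, hV, hxV, h⟩ := subsingleton_CC_of_lt hM s (f := f) n hn (by omega : n < j) t x
      exact ⟨V, hV.1, hxV, h⟩) (a + 1)

/-- A submodule of twisted forms cut out by the cycles. -/
structure IsCycles (hM : PicF.IsInvertible M) (j t : ℕ) {K : X.Modules} (ι : K ⟶ CC f s j t) : Prop where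
  qcoh : Coh.IsQCoh K
  inj : ∀ V, Small (M := M) V → Function.Injective (ι.app V)
  mem : ∀ (V : X.Opens) (hV : IsAffineOpen V) (e : Γ(M, V)) (he : InvX.IsFrame e) (x : TO f j V),
    (∃ y, ι.app V y = (presCC f s hM j t).q hV he x) ↔ ∃ z, dwedge f s he j x = coef s he • z

variable [Smooth ((PicF2.zeroScheme M s).subschemeι ≫ f)]
  [QuasiSeparated ((PicF2.zeroScheme M s).subschemeι ≫ f)]

theorem exists_of_dwedge_eq {V : X.Opens} (hV : IsAffineOpen V) {e : Γ(M, V)} (he : InvX.IsFrame e) {j : ℕ}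
    (hM : PicF.IsInvertible M) {x : TO f (j + 1) V} {z : TO f (j + 2) V}
    (h : dwedge f s he (j + 1) x = coef s he • z) : ∃ y w, x = dwedge f s he j y + coef s he • w := by
  obtain ⟨φ, c, hφ⟩ := exists_dual_d f (PicF2.zeroScheme M s) ⟨V, hV⟩ (ideal_eq s hM hV he) (coef_regular s he)
  exact Wedge.exists_of_wedge_eq hφ h

theorem presCC_q_eq_iff (j t : ℕ) {V : X.Opens} (hV : IsAffineOpen V) {e : Γ(M, V)} (he : InvX.IsFrame e)
    (x y : TO f j V) :
    (presCC f s hM j t).q hV he x = (presCC f s hM j t).q hV he y ↔ ∃ z, x = y + coef s he • z := by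
  rw [← sub_eq_zero, ← map_sub, presCC_eq_zero_iff]
  exact exists_congr fun z => by rw [sub_eq_iff_eq_add, add_comm]

include hM in
/-- The vanishing, by dimension shift. -/
theorem subsingleton_HH_cycles (n : ℕ) (hn : topologicalKrullDim ↥X ≤ n)
    (hv : ∀ j ≤ n, ∀ t p, Subsingleton (Coh.HH X (N f (M := M) j t) (p + 1))) :
    ∀ (a j t : ℕ) {K : X.Modules} (ι : K ⟶ CC f s (j + 1) t), IsCycles s hM (j + 1) t ι →
      n + 1 ≤ a + (j + 1) → Subsingleton (Coh.HH X K a) := by
  intro a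
  induction a with
  | zero =>
    intro j t K ι hι hle
    refine subsingleton_HH_of_cover hι.qcoh (fun x => ?_) 0
    obtain ⟨V, hV, hxV, h⟩ := subsingleton_CC_of_lt hM s (f := f) n hn (by omega : n < j + 1) t x
    exact ⟨V, hV.1, hxV, (hι.inj V hV).subsingleton⟩
  | succ a ih =>
    intro j t K ι hι hle
    haveI : Mono ι := mono_of_base (isBase_small hM) ι hι.inj
    obtain ⟨d, hd⟩ := exists_dHom hM (presCC f s hM (j + 1) t) (presCC f s hM (j + 2) (t + 1)) rfl
      fun {V} hV {e} he x hx => by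
        obtain ⟨z, rfl⟩ := (presCC_eq_zero_iff f hM s (j + 1) t hV he x).1 hx
        rw [map_smul, (presCC f s hM (j + 2) (t + 1)).coef_smul]
    have hιd : ι ≫ d = 0 := hom_ext_of_base (isBase_small hM) fun V hV y => by
      obtain ⟨hVa, e, he⟩ := id hV
      obtain ⟨x, hx⟩ := (presCC f s hM (j + 1) t).surj hVa he (ι.app V y)
      obtain ⟨z, hz⟩ := (hι.mem V hVa e he x).1 ⟨y, hx.symm⟩
      show d.app V (ι.app V y) = 0
      rw [← hx, hd V hVa e he, hz, (presCC f s hM (j + 2) (t + 1)).coef_smul]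
    refine subsingleton_HH_X₁ (shortExact_cokernel ι) a (subsingleton_HH_CC hM s n hn hv (j + 1) t a) ?_
    refine ih (j + 1) (t + 1) (cokernel.desc ι d hιd) ?_ (by omega)
    have hC := isQCoh_CC f hM s (j + 1) t
    have hdesc : ∀ (V : X.Opens) (z : Γ(CC f s (j + 1) t, V)),
        (cokernel.desc ι d hιd).app V ((cokernel.π ι).app V z) = d.app V z :=
      fun V z => congr(($(cokernel.π_desc ι d hιd)).app V z)
    refine ⟨QCoh.isQCoh_cokernel hι.qcoh hC ι, fun V hV => ?_, fun V hV e he x => ⟨?_, ?_⟩⟩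
    · obtain ⟨hVa, e, he⟩ := id hV
      refine (injective_iff_map_eq_zero ((cokernel.desc ι d hιd).app V).hom).2 fun y hy => ?_
      obtain ⟨z, rfl⟩ := (cokernel_sections hι.qcoh hC ι hVa).1 y
      obtain ⟨x, rfl⟩ := (presCC f s hM (j + 1) t).surj hVa he z
      rw [hdesc, hd V hVa e he] at hy
      exact ((cokernel_sections hι.qcoh hC ι hVa).2 _).2
        ((hι.mem V hVa e he x).2 ((presCC_eq_zero_iff f hM s _ _ hVa he _).1 hy))
    · rintro ⟨y, hy⟩
      obtain ⟨z, rfl⟩ := (cokernel_sections hι.qcoh hC ι hV).1 y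
      obtain ⟨x₀, rfl⟩ := (presCC f s hM (j + 1) t).surj hV he z
      rw [hdesc, hd V hV e he] at hy
      obtain ⟨w, rfl⟩ := (presCC_q_eq_iff hM s _ _ hV he _ _).1 hy.symm
      refine ⟨dwedge f s he (j + 2) w, ?_⟩
      rw [map_add, map_smul, Wedge.wedge_wedge_self, zero_add]
    · rintro ⟨z, hz⟩
      obtain ⟨y, w, rfl⟩ := exists_of_dwedge_eq s hV he hM hz
      refine ⟨(cokernel.π ι).app V ((presCC f s hM (j + 1) t).q hV he y), ?_⟩
      rw [hdesc, hd V hV e he, map_add, (presCC f s hM (j + 2) (t + 1)).coef_smul, add_zero]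

variable {b : ℕ} (OmY : (PicF2.zeroScheme M s).subscheme.Modules)

include hM in
/-- Cohomology of twisted forms on the zero scheme vanishes above complementary degree. -/
theorem subsingleton_HH_K0 (n : ℕ) (hn : topologicalKrullDim ↥X ≤ n)
    (hv : ∀ j ≤ n, ∀ t p, Subsingleton (Coh.HH X (N f (M := M) j t) (p + 1)))
    (hOm : ExtPow.IsExtPow b (Omega.sheaf ((PicF2.zeroScheme M s).subschemeι ≫ f)) OmY)
    (a : ℕ) (hab : n ≤ a + b) : Subsingleton (Coh.HH X (K0 (PicF2.zeroScheme M s) OmY M) a) := by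
  obtain ⟨φY, hφY⟩ := hOm
  let P := presK0 f s (PicF2.zeroScheme M s) OmY φY hφY hM (ideal_eq s hM)
  obtain ⟨κ, hκ⟩ := exists_dHom hM P (presCC f s hM (b + 1) 0) rfl fun {V} hV {e} he x hx => by
    obtain ⟨z, hz⟩ := (presK0_eq_zero_iff f s (PicF2.zeroScheme M s) OmY φY hφY hM (ideal_eq s hM) hV he x).1 hx
    rw [hz, (presCC f s hM (b + 1) 0).coef_smul]
  refine subsingleton_HH_cycles hM s n hn hv a b 0 κ ⟨?_, fun V hV => ?_, fun V hV e he x => ⟨?_, ?_⟩⟩ (by omega)
  · exact isQCoh_K0 f (PicF2.zeroScheme M s) OmY φY hφY hM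
  · obtain ⟨hVa, e, he⟩ := id hV
    refine (injective_iff_map_eq_zero (κ.app V).hom).2 fun y hy => ?_
    obtain ⟨x, rfl⟩ := P.surj hVa he y
    rw [hκ V hVa e he] at hy
    exact (presK0_eq_zero_iff f s _ OmY φY hφY hM (ideal_eq s hM) hVa he x).2
      ((presCC_eq_zero_iff f hM s _ _ hVa he _).1 hy)
  · rintro ⟨y, hy⟩
    obtain ⟨x₀, rfl⟩ := P.surj hV he y
    rw [hκ V hV e he] at hy
    obtain ⟨w, rfl⟩ := (presCC_q_eq_iff hM s _ _ hV he _ _).1 hy.symm
    refine ⟨dwedge f s he (b + 1) w, ?_⟩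
    rw [map_add, map_smul, Wedge.wedge_wedge_self, zero_add]
  · rintro ⟨z, hz⟩
    obtain ⟨y, w, rfl⟩ := exists_of_dwedge_eq s hV he hM hz
    refine ⟨P.q hV he y, ?_⟩
    rw [hκ V hV e he, map_add, (presCC f s hM (b + 1) 0).coef_smul, add_zero]

end Groth.Agent.DRHyp.Hyp
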