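import Groth.Agent.DRHyp.Weyl
import Mathlib.LinearAlgebra.Pi
import Mathlib.RingTheory.Finiteness.Basic

/-!
# Finiteness of the Koszul cohomology of commuting derivations
-/

set_option autoImplicit false

universe u v

namespace Groth.Agent.DRHyp.Koszul

variable {k : Type u} [Field k] {M N : Type v} [AddCommGroup M] [Module k M] [AddCommGroup N] [Module k N]

/-- The total Koszul complex of a family of operators, on functions of a set of variables. -/
noncomputable def kos : {n : ℕ} → (Fin n → Module.End k M) → Module.End k ((Fin n → Bool) → M)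
  | 0, _ => 0
  | n + 1, D => LinearMap.pi fun v =>
      if v 0 then
        D 0 ∘ₗ LinearMap.proj (Fin.cons false (Fin.tail v) : Fin (n + 1) → Bool) -
          LinearMap.proj (Fin.tail v) ∘ₗ kos (fun i => D i.succ) ∘ₗ LinearMap.funLeft k M (fun w : Fin n → Bool => (Fin.cons true w : Fin (n + 1) → Bool))
      else LinearMap.proj (Fin.tail v) ∘ₗ kos (fun i => D i.succ) ∘ₗ LinearMap.funLeft k M (fun w : Fin n → Bool => (Fin.cons false w : Fin (n + 1) → Bool))

variable {n : ℕ}

/-- The component without the first variable. -/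
def lo : ((Fin (n + 1) → Bool) → M) →ₗ[k] ((Fin n → Bool) → M) := LinearMap.funLeft k M (fun w : Fin n → Bool => (Fin.cons false w : Fin (n + 1) → Bool))

/-- The component with the first variable. -/
def hi : ((Fin (n + 1) → Bool) → M) →ₗ[k] ((Fin n → Bool) → M) := LinearMap.funLeft k M (fun w : Fin n → Bool => (Fin.cons true w : Fin (n + 1) → Bool))

/-- Combine two components. -/
def join (a b : (Fin n → Bool) → M) : (Fin (n + 1) → Bool) → M :=
  fun v => if v 0 then b (Fin.tail v) else a (Fin.tail v)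

@[simp] lemma lo_join (a b : (Fin n → Bool) → M) : lo (k := k) (join a b) = a := by
  funext v; simp [lo, join, LinearMap.funLeft_apply]

@[simp] lemma hi_join (a b : (Fin n → Bool) → M) : hi (k := k) (join a b) = b := by
  funext v; simp [hi, join, LinearMap.funLeft_apply]

lemma ext_lo_hi {c c' : (Fin (n + 1) → Bool) → M} (h1 : lo (k := k) c = lo (k := k) c') (h2 : hi (k := k) c = hi (k := k) c') :
    c = c' := funext fun v => by
  rw [← Fin.cons_self_tail v]
  cases v 0
  · exact congrFun h1 (Fin.tail v)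
  · exact congrFun h2 (Fin.tail v)

lemma lo_kos (D : Fin (n + 1) → Module.End k M) (c : (Fin (n + 1) → Bool) → M) :
    lo (k := k) (kos D c) = kos (fun i => D i.succ) (lo (k := k) c) := by
  funext v
  simp [lo, kos, LinearMap.funLeft_apply]

lemma hi_kos (D : Fin (n + 1) → Module.End k M) (c : (Fin (n + 1) → Bool) → M) :
    hi (k := k) (kos D c) =
      (D 0).compLeft (Fin n → Bool) (lo (k := k) c) - kos (fun i => D i.succ) (hi (k := k) c) := by
  funext v
  simp [hi, lo, kos, LinearMap.funLeft_apply]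

/-- The Koszul complex is natural. -/
lemma kos_map (f : M →ₗ[k] N) : ∀ {n : ℕ} (D : Fin n → Module.End k M) (D' : Fin n → Module.End k N),
    (∀ i m, f (D i m) = D' i (f m)) → ∀ c : (Fin n → Bool) → M,
      kos D' (f.compLeft _ c) = f.compLeft _ (kos D c)
  | 0, _, _, _, c => (map_zero (f.compLeft _)).symm
  | n + 1, D, D', h, c => by
    refine ext_lo_hi (k := k) ?_ ?_
    · rw [lo_kos]
      show kos _ (f.compLeft _ (lo (k := k) c)) = f.compLeft _ (lo (k := k) (kos D c))
      rw [kos_map f _ _ (fun i => h i.succ), lo_kos]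
    · rw [hi_kos]
      show _ - kos _ (f.compLeft _ (hi (k := k) c)) = f.compLeft _ (hi (k := k) (kos D c))
      rw [kos_map f _ _ (fun i => h i.succ), hi_kos, map_sub]
      exact congrArg (· - _) (funext fun v => (h 0 _).symm)

/-- Cocycles are finitely generated modulo coboundaries. -/
def IsFinCoh {C : Type v} [AddCommGroup C] [Module k C] (δ : Module.End k C) : Prop :=
  ∃ S : Submodule k C, S.FG ∧ LinearMap.ker δ ≤ S ⊔ LinearMap.range δ

lemma exists_fg_lift {P Q : Type v} [AddCommGroup P] [Module k P] [AddCommGroup Q] [Module k Q]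
    (π : P →ₗ[k] Q) (Z : Submodule k P) (B S : Submodule k Q) (hS : S.FG) (h : Z.map π ≤ S ⊔ B) :
    ∃ S' : Submodule k P, S'.FG ∧ S' ≤ Z ∧ Z.map π ≤ S'.map π ⊔ B := by
  classical
  let f := B.mkQ ∘ₗ π
  have hfg : (Z.map f).FG := by
    have hle : Z.map f ≤ S.map B.mkQ := by
      rintro _ ⟨z, hz, rfl⟩
      obtain ⟨s, hs, b, hb, hsb⟩ := Submodule.mem_sup.1 (h ⟨z, hz, rfl⟩)
      refine ⟨s, hs, ?_⟩
      show B.mkQ s = B.mkQ (π z)
      rw [← hsb, map_add, Submodule.mkQ_apply B b, (Submodule.Quotient.mk_eq_zero B).2 hb, add_zero]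
    have : Module.Finite k (S.map B.mkQ) := Module.Finite.iff_fg.2 (hS.map _)
    have := Submodule.finiteDimensional_of_le hle
    exact Module.Finite.iff_fg.1 this
  obtain ⟨s, hs⟩ := hfg
  have hmem : ∀ y : s, (y : Q ⧸ B) ∈ Z.map f := fun y => hs ▸ Submodule.subset_span y.2
  choose g hgZ hg using hmem
  refine ⟨Submodule.span k (Set.range g), Submodule.fg_span (Set.finite_range g),
    Submodule.span_le.2 (by rintro _ ⟨y, rfl⟩; exact hgZ y), ?_⟩
  have hle : Z.map f ≤ (Submodule.span k (Set.range g)).map f := by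
    rw [← hs, Submodule.span_le]
    intro y hy
    exact ⟨g ⟨y, hy⟩, Submodule.subset_span ⟨⟨y, hy⟩, rfl⟩, hg ⟨y, hy⟩⟩
  rintro _ ⟨z, hz, rfl⟩
  obtain ⟨w, hw, hwz⟩ := hle ⟨z, hz, rfl⟩
  refine Submodule.mem_sup.2 ⟨π w, ⟨w, hw, rfl⟩, π z - π w, ?_, add_sub_cancel _ _⟩
  exact (Submodule.Quotient.eq B).1 hwz.symm

/-- The Koszul differential squares to zero. -/
lemma kos_kos : ∀ {n : ℕ} (O : Weyl.Ops k n M) (c : (Fin n → Bool) → M), kos O.D (kos O.D c) = 0
  | 0, _, _ => rfl
  | n + 1, O, c => by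
    refine ext_lo_hi (k := k) ?_ ?_
    · rw [lo_kos, lo_kos, map_zero]
      exact kos_kos O.tail _
    · rw [hi_kos, hi_kos, lo_kos, map_zero, map_sub]
      rw [show kos (fun i => O.D i.succ) (kos (fun i => O.D i.succ) (hi (k := k) c)) = 0 from
        kos_kos O.tail _, sub_zero, sub_eq_zero]
      exact (kos_map (O.D 0) (fun i => O.D i.succ) (fun i => O.D i.succ)
        (fun i m => O.D_comm _ _ m) _).symm

open Weyl in
/-- Koszul cohomology of a module of holonomic growth is finite. -/
theorem isFinCoh_kos [CharZero k] : ∀ {n : ℕ} {M : Type v} [AddCommGroup M] [Module k M]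
    (O : Ops k n M), O.HasGrowth → IsFinCoh (kos O.D)
  | 0, M, _, _, O, h => by
    have := h.finite
    exact ⟨⊤, Module.finite_def.1 inferInstance, le_top.trans le_sup_left⟩
  | n + 1, M, _, _, O, h => by
    obtain ⟨SK, hSK, hK⟩ := isFinCoh_kos O.kerD h.kerD
    obtain ⟨SQ, hSQ, hQ⟩ := isFinCoh_kos O.cokerD h.cokerD
    let K := LinearMap.ker (O.D 0)
    let B := LinearMap.range (O.D 0)
    let D' := fun i : Fin n => O.D i.succ
    have natK : ∀ e : (Fin n → Bool) → K,
        kos D' (K.subtype.compLeft _ e) = K.subtype.compLeft _ (kos O.kerD.D e) :=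
      kos_map K.subtype _ _ fun _ _ => rfl
    have natQ : ∀ e : (Fin n → Bool) → M,
        kos O.cokerD.D (B.mkQ.compLeft _ e) = B.mkQ.compLeft _ (kos D' e) :=
      kos_map B.mkQ _ _ fun _ _ => rfl
    let π : ((Fin (n + 1) → Bool) → M) →ₗ[k] ((Fin n → Bool) → M ⧸ B) := B.mkQ.compLeft _ ∘ₗ hi
    have hπ : (LinearMap.ker (kos O.D)).map π ≤ SQ ⊔ LinearMap.range (kos O.cokerD.D) := by
      refine le_trans ?_ hQ
      rintro _ ⟨z, hz, rfl⟩
      have h2 := congrArg (hi (k := k)) (show kos O.D z = 0 from hz)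
      rw [hi_kos, map_zero, sub_eq_zero] at h2
      show kos O.cokerD.D (B.mkQ.compLeft _ (hi (k := k) z)) = 0
      rw [natQ, ← h2]
      exact funext fun v => (Submodule.Quotient.mk_eq_zero B).2 (LinearMap.mem_range_self _ _)
    obtain ⟨S', hS', hS'Z, hS''⟩ := exists_fg_lift π _ _ SQ hSQ hπ
    let incl : ((Fin n → Bool) → K) →ₗ[k] ((Fin (n + 1) → Bool) → M) :=
      { toFun := fun a => join (K.subtype.compLeft _ a) 0
        map_add' := fun a a' => ext_lo_hi (k := k) (by simp) (by simp)
        map_smul' := fun r a => ext_lo_hi (k := k) (by simp) (by simp) }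
    have hincl : ∀ e, kos O.D (incl e) = incl (kos O.kerD.D e) := fun e => by
      refine ext_lo_hi (k := k) ?_ ?_
      · show lo (k := k) (kos O.D (join _ 0)) = lo (k := k) (join _ 0)
        rw [lo_kos, lo_join, lo_join, natK]
      · show hi (k := k) (kos O.D (join _ 0)) = hi (k := k) (join _ 0)
        rw [hi_kos, lo_join, hi_join, hi_join, map_zero, sub_zero]
        exact funext fun v => (e v).2
    refine ⟨S' ⊔ SK.map incl, hS'.sup (hSK.map _), fun z hz => ?_⟩
    obtain ⟨t, ⟨s, hs, rfl⟩, q, ⟨e, rfl⟩, hzq⟩ := Submodule.mem_sup.1 (hS'' ⟨z, hz, rfl⟩)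
    obtain ⟨e', he'⟩ : ∃ e' : (Fin n → Bool) → M, B.mkQ.compLeft _ e' = e :=
      (Submodule.mkQ_surjective B).comp_left e
    have hb : ∀ v, hi (k := k) (z - s) v - kos D' e' v ∈ B := fun v => by
      refine (Submodule.Quotient.mk_eq_zero B).1 ?_
      have h3 := congrFun hzq v
      rw [← he', natQ] at h3
      rw [map_sub, Pi.sub_apply, Submodule.Quotient.mk_sub, Submodule.Quotient.mk_sub, sub_eq_zero,
        sub_eq_iff_eq_add']
      exact h3.symm
    choose c hc using hb
    set z₂ := z - s - kos O.D (join c (-e')) with hz₂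
    have hhi : hi (k := k) z₂ = 0 := by
      rw [hz₂, map_sub, hi_kos, lo_join, hi_join, map_neg, sub_neg_eq_add, sub_eq_zero]
      exact funext fun v => sub_eq_iff_eq_add.1 (hc v).symm
    have hw : kos O.D (kos O.D (join c (-e'))) = 0 := kos_kos O (join c (-e'))
    have hz₂0 : kos O.D z₂ = 0 := by
      rw [hz₂, map_sub, map_sub, show kos O.D z = 0 from hz, show kos O.D s = 0 from hS'Z hs, hw,
        sub_zero, sub_zero]
    have h4 := congrArg (hi (k := k)) hz₂0
    rw [hi_kos, hhi, map_zero, map_zero, sub_zero] at h4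
    let a : (Fin n → Bool) → K := fun v => ⟨lo (k := k) z₂ v, congrFun h4 v⟩
    have ha : incl a = z₂ := ext_lo_hi (k := k) (lo_join _ _) ((hi_join _ _).trans hhi.symm)
    have hak : kos O.kerD.D a = 0 := by
      have h5 := congrArg (lo (k := k)) ((hincl a).symm.trans ((congrArg _ ha).trans hz₂0))
      change lo (k := k) (join (K.subtype.compLeft _ _) 0) = _ at h5
      rw [lo_join, map_zero] at h5
      exact funext fun v => Subtype.ext (congrFun h5 v)
    obtain ⟨t', ht', q', ⟨e'', rfl⟩, htq⟩ := Submodule.mem_sup.1 (hK hak)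
    refine Submodule.mem_sup.2 ⟨s + incl t', add_mem (Submodule.mem_sup_left hs)
      (Submodule.mem_sup_right ⟨t', ht', rfl⟩), kos O.D (incl e'') + kos O.D (join c (-e')),
      add_mem (LinearMap.mem_range_self _ _) (LinearMap.mem_range_self _ _), ?_⟩
    rw [hincl, add_assoc, ← add_assoc (incl t'), ← map_add, htq, ha, hz₂]
    abel

end Groth.Agent.DRHyp.Koszul
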