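import Mathlib
import Groth.Agent.GrpSchLib.WeilClosed

/-!
# The locus of the Grassmannian of an algebra where the kernel is an ideal
-/

set_option autoImplicit false
set_option linter.style.haveILetI false

universe u

set_option backward.isDefEq.respectTransparency false

open CategoryTheory AlgebraicGeometry TensorProduct

namespace Groth.Agent.DRHyp.LeftStableLocus

variable {R : Type u} [CommRing R] {B : Type u} [Ring B] [Algebra R B]

/-- The submodule is stable under multiplication by `B`. -/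
def Stab {A : Type u} [CommRing A] [Algebra R A] (N : Submodule A (A ⊗[R] B)) : Prop :=
  ∀ (b : B) (x : A ⊗[R] B), x ∈ N → ((1 : A) ⊗ₜ[R] b) * x ∈ N

variable {e : ℕ}

/-- The universal ideal for stability. -/
theorem exists_ideal {A : Type u} [CommRing A] [Algebra R A] (N : Module.Grassmannian A (A ⊗[R] B) e) :
    ∃ I : Ideal A, ∀ (C : Type u) [CommRing C] [Algebra R C] (φ : A →ₐ[R] C),
      Stab (Module.Grassmannian.map φ N).toSubmodule ↔ I ≤ RingHom.ker φ.toRingHom := by
  let J : Set ((A ⊗[R] B) ⧸ N.toSubmodule) :=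
    {q | ∃ (b : B) (x : A ⊗[R] B), x ∈ N.toSubmodule ∧ N.toSubmodule.mkQ (((1 : A) ⊗ₜ[R] b) * x) = q}
  obtain ⟨I, hI⟩ := GrpSchLib.exists_contentIdeal_of_projective (A := A) J
  refine ⟨I, fun C _ _ φ => ?_⟩
  letI : Algebra A C := φ.toRingHom.toAlgebra
  haveI : IsScalarTower R A C := IsScalarTower.of_algebraMap_eq' φ.comp_algebraMap.symm
  rw [Module.Grassmannian.map_toSubmodule]
  refine Iff.trans ?_ (hI C)
  let β := Module.Grassmannian.baseChangeMkQ C N.toSubmodule
  let ψ : B → (A ⊗[R] B →ₗ[A] (A ⊗[R] B) ⧸ N.toSubmodule) := fun b =>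
    N.toSubmodule.mkQ ∘ₗ LinearMap.mulLeft A ((1 : A) ⊗ₜ[R] b)
  let cbc := TensorProduct.AlgebraTensorModule.cancelBaseChange R A C C B
  have hT : ∀ (b : B) (z : C ⊗[R] B),
      β (((1 : C) ⊗ₜ[R] b) * z) = (ψ b).baseChange C (cbc.symm z) := by
    intro b z
    induction z with
    | zero => simp
    | tmul c b' => simp [β, ψ, cbc, Module.Grassmannian.baseChangeMkQ]
    | add x y hx hy => rw [mul_add, map_add, map_add, map_add, hx, hy]
  constructor
  · rintro h q ⟨b, x, hx, rfl⟩
    let z := cbc ((1 : C) ⊗ₜ[A] x)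
    have hz : z ∈ LinearMap.ker β := by
      show ((N.toSubmodule.mkQ).baseChange C) (cbc.symm z) = 0
      rw [LinearEquiv.symm_apply_apply, LinearMap.baseChange_tmul, Submodule.mkQ_apply,
        (Submodule.Quotient.mk_eq_zero _).2 hx, TensorProduct.tmul_zero]
    have h2 : β (((1 : C) ⊗ₜ[R] b) * z) = 0 := h b z hz
    rw [hT, LinearEquiv.symm_apply_apply, LinearMap.baseChange_tmul] at h2
    exact h2
  · intro h b z hz
    show β (((1 : C) ⊗ₜ[R] b) * z) = 0
    rw [hT]
    have hz' : (N.toSubmodule.mkQ).baseChange C (cbc.symm z) = 0 := hz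
    obtain ⟨v, hv⟩ := (lTensor_exact C (LinearMap.exact_subtype_mkQ N.toSubmodule)
      N.toSubmodule.mkQ_surjective (cbc.symm z)).1 hz'
    rw [← hv]
    clear hv
    induction v with
    | zero => simp
    | tmul c n =>
      show c ⊗ₜ[A] (ψ b n.1) = 0
      have h1 : (1 : C) ⊗ₜ[A] (ψ b n.1) = 0 := h _ ⟨b, n.1, n.2, rfl⟩
      rw [← mul_one c, ← smul_eq_mul, ← TensorProduct.smul_tmul', h1, smul_zero]
    | add x y hx hy => exact (congrArg _ (map_add _ x y)).trans ((map_add _ _ _).trans (by rw [hx, hy, add_zero]))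

variable (X : Over (Spec (CommRingCat.of R)))
  (eX : ∀ A : CommAlgCat.{u} R,
    ((Over.mk (Spec.map (CommRingCat.ofHom (algebraMap R A)))) ⟶ X) ≃ (Module.Grassmannian.functor (R := R) (M := B) e).obj A)

/-- Stability at a point of `X` with values in a ring. -/
def StabAt {A : Type u} [CommRing A] (a : Spec (CommRingCat.of A) ⟶ X.left) : Prop :=
  ∀ (alg : Algebra R A) (w : a ≫ X.hom = Spec.map (CommRingCat.ofHom (@algebraMap R A _ _ alg))),
    Stab (R := R) (eX (@CommAlgCat.of R _ A _ alg) (Over.homMk a w)).toSubmodule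

theorem stabAt_iff {A : Type u} [CommRing A] [alg : Algebra R A] (a : Spec (CommRingCat.of A) ⟶ X.left)
    (w : a ≫ X.hom = Spec.map (CommRingCat.ofHom (algebraMap R A))) :
    StabAt X eX a ↔ Stab (R := R) (eX (CommAlgCat.of R A) (Over.homMk a w)).toSubmodule := by
  refine ⟨fun h => h alg w, fun h alg' w' => ?_⟩
  obtain rfl : alg' = alg := Algebra.algebra_ext _ _ fun r => by
    exact RingHom.congr_fun (congrArg CommRingCat.Hom.hom (Spec.map_inj.1 (w'.symm.trans w))) r
  exact h

variable (heX : ∀ (A C : CommAlgCat.{u} R) (φ : A ⟶ C)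
    (g : Over.mk (Spec.map (CommRingCat.ofHom (algebraMap R A))) ⟶ X) (g' : Over.mk (Spec.map (CommRingCat.ofHom (algebraMap R C))) ⟶ X),
    g'.left = Spec.map (CommRingCat.ofHom φ.hom.toRingHom) ≫ g.left →
      eX C g' = (Module.Grassmannian.functor (R := R) (M := B) e).map φ (eX A g))

/-- The universal ideal of a point. -/
def HasI {A : Type u} [CommRing A] (a : Spec (CommRingCat.of A) ⟶ X.left) (I : Ideal A) : Prop :=
  ∀ (C : Type u) [CommRing C] (φ : A →+* C),
    StabAt X eX (Spec.map (CommRingCat.ofHom φ) ≫ a) ↔ I ≤ RingHom.ker φ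

include heX in
theorem exists_hasI {A : Type u} [CommRing A] (a : Spec (CommRingCat.of A) ⟶ X.left) :
    ∃ I : Ideal A, HasI X eX a I := by
  letI algA : Algebra R A := (Spec.preimage (a ≫ X.hom)).hom.toAlgebra
  have wA : a ≫ X.hom = Spec.map (CommRingCat.ofHom (algebraMap R A)) := (Spec.map_preimage _).symm
  obtain ⟨I, hI⟩ := exists_ideal (eX (CommAlgCat.of R A) (Over.homMk a wA))
  refine ⟨I, fun C _ φ => ?_⟩
  letI : Algebra R C := (φ.comp (algebraMap R A)).toAlgebra
  let φ' : A →ₐ[R] C := { φ with commutes' := fun _ => rfl }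
  have wC : (Spec.map (CommRingCat.ofHom φ) ≫ a) ≫ X.hom = Spec.map (CommRingCat.ofHom (algebraMap R C)) := by
    rw [Category.assoc, wA, ← Spec.map_comp]
    rfl
  rw [stabAt_iff X eX _ wC, heX (CommAlgCat.of R A) (CommAlgCat.of R C) (CommAlgCat.ofHom φ')
    (Over.homMk a wA) (Over.homMk _ wC) rfl]
  exact hI C φ'

theorem HasI.unique {A : Type u} [CommRing A] {a : Spec (CommRingCat.of A) ⟶ X.left} {I I' : Ideal A}
    (h : HasI X eX a I) (h' : HasI X eX a I') : I = I' := by
  apply le_antisymm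
  · exact ((h (A ⧸ I') _).mp ((h' (A ⧸ I') (Ideal.Quotient.mk I')).mpr (by rw [Ideal.mk_ker]))).trans_eq
      Ideal.mk_ker
  · exact ((h' (A ⧸ I) _).mp ((h (A ⧸ I) (Ideal.Quotient.mk I)).mpr (by rw [Ideal.mk_ker]))).trans_eq
      Ideal.mk_ker

theorem HasI.map {A A' : Type u} [CommRing A] [CommRing A'] {a : Spec (CommRingCat.of A) ⟶ X.left}
    {I : Ideal A} (h : HasI X eX a I) (ψ : A →+* A') :
    HasI X eX (Spec.map (CommRingCat.ofHom ψ) ≫ a) (I.map ψ) := by
  intro C _ φ
  rw [← Category.assoc, ← Spec.map_comp, ← CommRingCat.ofHom_comp, h C (φ.comp ψ),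
    Ideal.map_le_iff_le_comap, RingHom.comap_ker]

include heX in
theorem stabAt_comp {A C : Type u} [CommRing A] [CommRing C] {a : Spec (CommRingCat.of A) ⟶ X.left}
    (ha : StabAt X eX a) (φ : A →+* C) : StabAt X eX (Spec.map (CommRingCat.ofHom φ) ≫ a) := by
  obtain ⟨I, hI⟩ := exists_hasI X eX heX a
  refine (hI C φ).2 ?_
  have h0 := (hI A (RingHom.id A)).1 (by rwa [CommRingCat.ofHom_id, Spec.map_id, Category.id_comp])
  intro x hx
  have := h0 hx
  rw [RingHom.mem_ker, RingHom.id_apply] at this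
  rw [RingHom.mem_ker, this, map_zero]

include heX in
theorem stabAt_of_span {A : Type u} [CommRing A] (a : Spec (CommRingCat.of A) ⟶ X.left) (s : Set A)
    (hs : Ideal.span s = ⊤)
    (h : ∀ r ∈ s, StabAt X eX (Spec.map (CommRingCat.ofHom (algebraMap A (Localization.Away r))) ≫ a)) :
    StabAt X eX a := by
  obtain ⟨I, hI⟩ := exists_hasI X eX heX a
  have h0 := (hI A (RingHom.id A)).2 (fun x hx => by
    rw [RingHom.mem_ker, RingHom.id_apply]
    refine Module.eq_zero_of_isLocalized_span s hs (fun r => Localization.Away (r : A))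
      (fun r => Algebra.linearMap A (Localization.Away (r : A))) x fun r => ?_
    show algebraMap A (Localization.Away (r : A)) x = 0
    exact RingHom.mem_ker.1 ((hI _ _).1 (h r r.2) hx))
  rwa [CommRingCat.ofHom_id, Spec.map_id, Category.id_comp] at h0

include heX in
/-- The closed subscheme of stable points. -/
theorem exists_closedImmersion :
    ∃ (Z : Scheme.{u}) (ι : Z ⟶ X.left), IsClosedImmersion ι ∧
      ∀ (A : CommAlgCat.{u} R) (g : Over.mk (Spec.map (CommRingCat.ofHom (algebraMap R A))) ⟶ X),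
        (∃ h : (Over.mk (Spec.map (CommRingCat.ofHom (algebraMap R A)))).left ⟶ Z, h ≫ ι = g.left) ↔
          Stab (R := R) (eX A g).toSubmodule := by
  choose I hI using fun U : X.left.affineOpens => exists_hasI X eX heX (A := Γ(X.left, U)) U.2.fromSpec
  let 𝓘 : X.left.IdealSheafData :=
    { ideal := I
      map_ideal_basicOpen := fun U f => by
        refine HasI.unique X eX ?_ (hI (X.left.affineBasicOpen f))
        have := HasI.map X eX (hI U) (X.left.presheaf.map (homOfLE <| X.left.basicOpen_le f).op).hom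
        rwa [CommRingCat.ofHom_hom, IsAffineOpen.map_fromSpec U.2 (X.left.affineBasicOpen f).2] at this }
  refine ⟨𝓘.subscheme, 𝓘.subschemeι, inferInstance, fun A g => ?_⟩
  have hst : StabAt X eX (A := A) g.left ↔ Stab (R := R) (eX A g).toSubmodule := stabAt_iff X eX g.left g.w
  rw [← hst]
  clear hst
  let a : Spec (CommRingCat.of A) ⟶ X.left := g.left
  show (∃ h, h ≫ 𝓘.subschemeι = a) ↔ StabAt X eX a
  constructor
  · rintro ⟨l, hl⟩
    refine stabAt_of_span X eX heX a
      {r | StabAt X eX (Spec.map (CommRingCat.ofHom (algebraMap A (Localization.Away r))) ≫ a)} ?_ fun r hr => hr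
    rw [← PrimeSpectrum.iSup_basicOpen_eq_top_iff']
    refine eq_top_iff.2 fun p _ => ?_
    obtain ⟨U, hU, hpU, -⟩ := exists_isAffineOpen_mem_and_subset (x := a p) (U := ⊤) trivial
    obtain ⟨_, ⟨_, ⟨r, rfl⟩, rfl⟩, hpr, hrU⟩ :=
      (PrimeSpectrum.isBasis_basic_opens (R := A)).exists_subset_of_mem_open (a := p) (u := ((a ⁻¹ᵁ U).1 : Set (PrimeSpectrum A))) hpU (a ⁻¹ᵁ U).2
    refine TopologicalSpace.Opens.mem_iSup.2 ⟨r, TopologicalSpace.Opens.mem_iSup.2 ⟨?_, hpr⟩⟩
    let b := Spec.map (CommRingCat.ofHom (algebraMap A (Localization.Away r)))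
    have hb : Set.range (b ≫ a) ⊆ Set.range hU.fromSpec := by
      rintro _ ⟨q, rfl⟩
      rw [IsAffineOpen.range_fromSpec]
      refine hrU ?_
      have : b q ∈ Set.range (PrimeSpectrum.comap (algebraMap A (Localization.Away r))) := ⟨q, rfl⟩
      rw [PrimeSpectrum.localization_away_comap_range (Localization.Away r) r] at this
      exact this
    obtain ⟨ψ, hψ⟩ : ∃ ψ, Spec.map ψ ≫ hU.fromSpec = b ≫ a :=
      ⟨Spec.preimage (IsOpenImmersion.lift hU.fromSpec (b ≫ a) hb), by
        rw [Spec.map_preimage, IsOpenImmersion.lift_fac]⟩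
    show StabAt X eX (b ≫ a)
    rw [← hψ, ← CommRingCat.ofHom_hom ψ]
    refine (hI ⟨U, hU⟩ _ ψ.hom).2 fun x hx => RingHom.mem_ker.2 ?_
    have hx0 : (𝓘.subschemeι.app U).hom x = 0 := by
      rw [← RingHom.mem_ker, ← Scheme.Hom.ker_apply (f := 𝓘.subschemeι) ⟨U, hU⟩, Scheme.IdealSheafData.ker_subschemeι]
      exact hx
    have h1 : ((b ≫ l ≫ 𝓘.subschemeι).app U).hom x = 0 := by
      rw [Scheme.Hom.comp_app, Scheme.Hom.comp_app]
      simp [hx0]
    rw [hl, ← hψ] at h1
    let A' := CommRingCat.of (Localization.Away r)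
    have hle : (⊤ : (Spec A').Opens) ≤ (Spec.map ψ ≫ hU.fromSpec) ⁻¹ᵁ U := by
      rw [Scheme.Hom.comp_preimage, hU.fromSpec_preimage_self]; exact le_top
    have e1 : hU.fromSpec.appLE U ⊤ (by rw [hU.fromSpec_preimage_self]) = (Scheme.ΓSpecIso Γ(X.left, U)).inv := by
      rw [Scheme.Hom.appLE, IsAffineOpen.fromSpec_app_self]
      simp [← Functor.map_comp]
    have e2 : (Spec.map ψ ≫ hU.fromSpec).appLE U ⊤ hle = ψ ≫ (Scheme.ΓSpecIso A').inv := by
      rw [← Scheme.Hom.appLE_comp_appLE (Spec.map ψ) hU.fromSpec U ⊤ ⊤ (by rw [hU.fromSpec_preimage_self]) (le_of_eq rfl), e1,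
        Scheme.ΓSpecIso_inv_naturality]
      congr 1
    have h2 : ((Spec.map ψ ≫ hU.fromSpec).appLE U ⊤ hle).hom x = 0 := by
      rw [Scheme.Hom.appLE, CommRingCat.hom_comp, RingHom.comp_apply, h1, map_zero]
    rw [e2] at h2
    have h4 := congrArg (Scheme.ΓSpecIso A').hom h2
    simp only [CommRingCat.hom_comp, RingHom.comp_apply, map_zero] at h4
    rwa [Iso.inv_hom_id_apply] at h4
  · intro hg
    have hle : 𝓘.subschemeι.ker ≤ a.ker := by
      rw [Scheme.IdealSheafData.ker_subschemeι]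
      refine Scheme.IdealSheafData.le_ofIdeals_iff.mpr fun U x hx => RingHom.mem_ker.mpr ?_
      refine (Spec (CommRingCat.of A)).IsSheaf.section_ext fun t ht => ?_
      obtain ⟨W, hW, htW, hWle⟩ := exists_isAffineOpen_mem_and_subset (show t ∈ a ⁻¹ᵁ U.1 from ht)
      refine ⟨W, hWle, htW, ?_⟩
      have h2 := ((hI U) Γ(Spec (CommRingCat.of A), W) (a.appLE U W hWle).hom).mp (by
        rw [CommRingCat.ofHom_hom, IsAffineOpen.SpecMap_appLE_fromSpec a U.2 hW hWle,
          ← Spec.map_preimage hW.fromSpec, ← CommRingCat.ofHom_hom (Spec.preimage hW.fromSpec)]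
        exact stabAt_comp X eX heX hg _)
      rw [map_zero, ← RingHom.mem_ker.mp (h2 hx)]
      rfl
    exact ⟨IsClosedImmersion.lift 𝓘.subschemeι a hle, IsClosedImmersion.lift_fac _ _ _⟩

end Groth.Agent.DRHyp.LeftStableLocus
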