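import Groth.Agent.DRHyp.Affine
import Groth.Agent.DRHyp.AffFinite
import Groth.Agent.SiteBase.MVDerived
import Groth.Agent.S15292
import Mathlib.Topology.Sheaves.MayerVietoris
import Mathlib.AlgebraicGeometry.Morphisms.QuasiSeparated

/-!
# Finiteness of de Rham cohomology of smooth schemes in characteristic zero
-/

set_option autoImplicit false

universe u

open CategoryTheory CategoryTheory.Limits AlgebraicGeometry Opposite TopologicalSpace exteriorPower

namespace Groth.Agent.DRHyp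

/-- Hypercohomology is finite when cocycles are finitely generated modulo elements with primitives. -/
theorem finite_HTρ_of_cocycles {k : Type u} [Field k] {A : Type*} [Category* A] [Abelian A]
    [HasDerivedCategory.{u} A] [HasExt.{u} A] [EnoughInjectives A] (T : A) (K : CochainComplex A ℤ)
    [K.IsStrictlyGE 0] (hK : ∀ n, IsTAcyclic.{u} T (K.X n)) (ρ : k →+* End K) (n : ℤ)
    {G : Type u} [AddCommGroup G] [Module k G] (e : G ≃+ (T ⟶ K.X n))
    (hsmul : ∀ r z, e (r • z) = e z ≫ (ρ r : K ⟶ K).f n)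
    (S B : Submodule k G) [Module.Finite k S] (hB : ∀ z ∈ B, ∃ g, g ≫ K.d (n - 1) n = e z)
    (hle : ∀ z, e z ≫ K.d n (n + 1) = 0 → z ∈ S ⊔ B) :
    Module.Finite k (KLinDR.HTρ T K ρ n) := by
  obtain ⟨hsur, hker⟩ := cls_spec.{u} T K 0 hK n
  let Z : Submodule k G :=
    { carrier := {z | e z ≫ K.d n (n + 1) = 0}
      zero_mem' := by
        show e 0 ≫ _ = 0
        rw [map_zero, zero_comp]
      add_mem' := fun {a b} ha hb => by
        show e (a + b) ≫ _ = 0
        rw [map_add, Preadditive.add_comp, show e a ≫ _ = 0 from ha, show e b ≫ _ = 0 from hb, add_zero]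
      smul_mem' := fun r z hz => by
        show e (r • z) ≫ _ = 0
        rw [hsmul, Category.assoc, (ρ r : K ⟶ K).comm, ← Category.assoc,
          show e z ≫ _ = 0 from hz, zero_comp] }
  have hBZ : B ≤ Z := fun z hz => by
    obtain ⟨g, hg⟩ := hB z hz
    show e z ≫ _ = 0
    rw [← hg, Category.assoc, HomologicalComplex.d_comp_d, comp_zero]
  let Λ : Z →ₗ[k] KLinDR.HTρ T K ρ n :=
    { toFun := fun z => KLinDR.HTρ.toHT.symm (cls T K n (e z.1) z.2)
      map_add' := fun a b => KLinDR.HTρ.toHT.injective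
        ((cls_congr _ (map_add e a.1 b.1) _ _).trans (cls_add _ _ _ _ _))
      map_smul' := fun r z => KLinDR.HTρ.toHT.injective
        ((cls_congr _ (hsmul r z.1) _ _).trans (cls_comp (ρ r : K ⟶ K) n _ z.2)) }
  have := Submodule.finiteDimensional_of_le (inf_le_left : S ⊓ Z ≤ S)
  refine Module.Finite.of_surjective
    (Λ.comp (Submodule.inclusion (inf_le_right : S ⊓ Z ≤ Z))) fun x => ?_
  obtain ⟨g, hg, hx⟩ := hsur (KLinDR.HTρ.toHT x)
  obtain ⟨z, rfl⟩ := e.surjective g
  obtain ⟨s, hs, b, hb, hsb⟩ := Submodule.mem_sup.1 (hle z hg)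
  have hsZ : s ∈ Z := by
    rw [eq_sub_of_add_eq hsb]
    exact sub_mem (show z ∈ Z from hg) (hBZ hb)
  refine ⟨⟨s, hs, hsZ⟩, ?_⟩
  have h0 : Λ ⟨b, hBZ hb⟩ = 0 := KLinDR.HTρ.toHT.injective ((hker _ (hBZ hb)).2 (hB b hb))
  show Λ ⟨s, hsZ⟩ = x
  rw [← add_zero (Λ ⟨s, hsZ⟩), ← h0, ← map_add]
  exact KLinDR.HTρ.toHT.injective ((cls_congr _ (congrArg e hsb) _ _).trans hx)

variable {k : Type u} [Field k] {X : Scheme.{u}} {f : X ⟶ Spec (CommRingCat.of k)} [QuasiSeparated f]
  (D : DeRhamSh.OmegaCx f) (h : KLinDR.TermwiseLinear (Coh.toGlobal f) D.K D.term D.iso)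
  [HasDerivedCategory.{u} (Sheaf (Opens.grothendieckTopology X) AddCommGrpCat.{u})]

/-- De Rham cohomology over an open is finite in all degrees. -/
def FinOn (U : X.Opens) : Prop :=
  ∀ n : ℤ, Module.Finite k (KLinDR.HdRU (Coh.toGlobal f) D h n U)

/-- An open on which the scheme is standard smooth over the field. -/
def IsChart (f : X ⟶ Spec (CommRingCat.of k)) (U : X.Opens) : Prop :=
  IsAffineOpen U ∧ ∃ m : ℕ,
    letI := kAlg f U
    Algebra.IsStandardSmoothOfRelativeDimension m k Γ(X, U)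

omit [QuasiSeparated f] [HasDerivedCategory.{u} (Sheaf (Opens.grothendieckTopology X) AddCommGrpCat.{u})] in
theorem exists_isChart [Smooth f] (x : X) : ∃ V : X.Opens, x ∈ V ∧ IsChart f V := by
  obtain ⟨U, hU, V, hV, hxV, e, hstd⟩ := Smooth.exists_isStandardSmooth f x
  obtain rfl : U = ⊤ := top_le_iff.1 fun y _ => by
    rw [Subsingleton.elim y (f x)]
    exact e hxV
  refine ⟨V, hxV, hV, ?_⟩
  let _ := kAlg f V
  have h1 : RingHom.IsStandardSmooth (constHom f V) :=
    RingHom.isStandardSmooth_respectsIso.2 _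
      (Scheme.ΓSpecIso (CommRingCat.of k)).symm.commRingCatIsoToRingEquiv hstd
  have : Algebra.IsStandardSmooth k Γ(X, V) := h1.toAlgebra
  obtain ⟨ι, σ, _, _, ⟨P⟩⟩ := this.out
  exact ⟨P.dimension, ι, σ, inferInstance, inferInstance, P, rfl⟩

omit [QuasiSeparated f] [HasDerivedCategory.{u} (Sheaf (Opens.grothendieckTopology X) AddCommGrpCat.{u})] in
theorem IsChart.basicOpen {U : X.Opens} (hU : IsChart f U) (g : Γ(X, U)) : IsChart f (X.basicOpen g) := by
  obtain ⟨hUa, m, hm⟩ := hU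
  refine ⟨hUa.basicOpen g, m, ?_⟩
  let _ := kAlg f U
  let _ := kAlg f (X.basicOpen g)
  have := hm
  have := hUa.isLocalization_basicOpen g
  have : IsScalarTower k Γ(X, U) Γ(X, X.basicOpen g) := IsScalarTower.of_algebraMap_eq fun r =>
    (constHom_res f U (X.basicOpen_le g) r).symm
  have := Algebra.IsStandardSmoothOfRelativeDimension.localization_away (S := Γ(X, X.basicOpen g)) g
  exact (Nat.zero_add m) ▸ Algebra.IsStandardSmoothOfRelativeDimension.trans m 0 k Γ(X, U) Γ(X, X.basicOpen g)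

omit [HasDerivedCategory.{u} (Sheaf (Opens.grothendieckTopology X) AddCommGrpCat.{u})] in
include h in
lemma formHom_const_smul (p : ℕ) {U : X.Opens} (hU : IsAffineOpen U) (r : k) :
    letI := kAlg f U
    ∀ z : ↥(⋀[Γ(X, U)]^p (Ω[Γ(X, U)⁄k])), formHom D p hU (r • z) =
      formHom D p hU z ≫ (KLinDR.scalar h r : D.KZ ⟶ D.KZ).f (p : ℤ) := by
  let _ := kAlg f U
  intro z
  show (SiteBase.secEquiv _ U _).symm (secForm D p hU (r • z)) ≫
      (D.K.extendXIso ComplexShape.embeddingUpNat (i := p) rfl).inv =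
    ((SiteBase.secEquiv _ U _).symm (secForm D p hU z) ≫
      (D.K.extendXIso ComplexShape.embeddingUpNat (i := p) rfl).inv) ≫ _
  rw [KLinDR.scalar_f, secForm_const_smul, ← SiteBase.secEquiv_symm_comp, Category.assoc]
  exact ((Category.assoc _ _ _).trans (congrArg (_ ≫ ·) (Iso.inv_hom_id_assoc _ _))).symm

omit [HasDerivedCategory.{u} (Sheaf (Opens.grothendieckTopology X) AddCommGrpCat.{u})] in
lemma exists_hom_of_mem_coboundaries {U : X.Opens} (hU : IsAffineOpen U) :
    letI := kAlg f U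
    ∀ (n : ℕ) (z : ↥(⋀[Γ(X, U)]^n (Ω[Γ(X, U)⁄k]))),
      z ∈ DeRham.coboundaries (fun p => formDLin D p hU) n →
      ∃ g : CohCx.freeSheaf (Opens.grothendieckTopology X) U ⟶ D.KZ.X ((n : ℤ) - 1),
        g ≫ D.KZ.d ((n : ℤ) - 1) (n : ℤ) = formHom D n hU z := by
  let _ := kAlg f U
  intro n z hz
  cases n with
  | zero =>
    refine ⟨0, ?_⟩
    rw [zero_comp, show z = 0 from hz, map_zero]
  | succ q =>
    obtain ⟨y, hy⟩ := hz
    rw [show ((q + 1 : ℕ) : ℤ) - 1 = (q : ℤ) by omega]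
    refine Exists.intro (formHom D q hU y) ?_
    rw [formHom_d D q hU ((q + 1 : ℕ) : ℤ) rfl, eqToHom_refl, Category.comp_id]
    exact congrArg (formHom D (q + 1) hU) hy

/-- Charts have finite de Rham cohomology. -/
theorem finOn_chart [CharZero k] {U : X.Opens} (hU : IsChart f U) : FinOn D h U := by
  obtain ⟨hUa, m, hm⟩ := hU
  intro i
  by_cases hi : i < 0
  · have : Subsingleton (KLinDR.HdRU (Coh.toGlobal f) D h i U) := subsingleton_HT_of_lt _ D.KZ 0 i hi
    infer_instance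
  obtain ⟨n, rfl⟩ := Int.eq_ofNat_of_zero_le (not_lt.1 hi)
  let _ := kAlg f U
  have := hm
  let d := fun p => formDLin D p hUa
  have hd : DeRham.IsDiff (KaehlerDifferential.D k Γ(X, U)) d :=
    Groth.Agent.S15292.result k Γ(X, U) d (formDLin_isRule D hUa)
  obtain ⟨S, hS, hle⟩ : ∃ S : Submodule k ↥(⋀[Γ(X, U)]^n (Ω[Γ(X, U)⁄k])), S.FG ∧
      DeRham.cocycles d n ≤ S ⊔ DeRham.coboundaries d n := by
    rcases subsingleton_or_nontrivial Γ(X, U) with hs | hn
    · have : Subsingleton ↥(⋀[Γ(X, U)]^n (Ω[Γ(X, U)⁄k])) := Module.subsingleton Γ(X, U) _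
      exact ⟨⊥, Submodule.fg_bot, fun z _ => by rw [Subsingleton.elim z 0]; exact zero_mem _⟩
    · exact AffFinite.exists_fg_cocycles m d hd n
  have : Module.Finite k S := Module.Finite.iff_fg.2 hS
  have h1 := fun (G : Type u) (i₁ : AddCommGroup G) (i₂ : Module k G) =>
    @finite_HTρ_of_cocycles k _ _ _ _ _ _ _ (CohCx.freeSheaf (Opens.grothendieckTopology X) U) D.KZ _
      (isTAcyclic_KZ D hUa) (KLinDR.scalar h) (n : ℤ) G i₁ i₂
  have h2 := h1 ↥(⋀[Γ(X, U)]^n (Ω[Γ(X, U)⁄k])) inferInstance inferInstance (formHom D n hUa)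
    (formHom_const_smul D h n hUa) S (DeRham.coboundaries d n)
  refine h2 (fun z hz => (exists_hom_of_mem_coboundaries D hUa n z hz)) fun z hz => hle ?_
  rw [formHom_d D n hUa _ (by push_cast; rfl)] at hz
  show formD D n hUa z = 0
  refine (formHom D (n + 1) hUa).injective ?_
  rw [map_zero]
  exact (Preadditive.IsIso.comp_right_eq_zero _ _).1 hz

theorem finOn_bot : FinOn D h (⊥ : X.Opens) := fun i => by
  have hz : IsZero (CohCx.freeSheaf (Opens.grothendieckTopology X) (⊥ : X.Opens)) := by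
    rw [IsZero.iff_id_eq_zero]
    apply SiteBase.freeSheaf_hom_ext
    let F : TopCat.Sheaf AddCommGrpCat.{u} X := CohCx.freeSheaf (Opens.grothendieckTopology X) (⊥ : X.Opens)
    have := AddCommGrpCat.subsingleton_of_isZero (F.isTerminalOfEmpty.isZero)
    exact Subsingleton.elim (α := F.obj.obj (op ⊥)) _ _
  have : Subsingleton (KLinDR.HdRU (Coh.toGlobal f) D h i (⊥ : X.Opens)) := ⟨fun a b =>
    KLinDR.HTρ.toHT.injective (((DerivedCategory.singleFunctor _ 0).map_isZero hz).eq_of_src _ _)⟩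
  infer_instance

/-- Finiteness passes to unions of two opens. -/
theorem finOn_sup {U V : X.Opens} (hU : FinOn D h U) (hV : FinOn D h V) (hUV : FinOn D h (U ⊓ V)) :
    FinOn D h (U ⊔ V) := fun i => by
  obtain ⟨n, rfl⟩ : ∃ n, i = n + 1 := ⟨i - 1, by omega⟩
  let S := Opens.mayerVietorisSquare U V
  have hS : S.shortComplex.ShortExact :=
    { exact := ShortComplex.exact_of_g_is_cokernel _ S.isPushoutAddCommGrpFreeSheaf.isColimitCokernelCofork }
  let J := Opens.grothendieckTopology X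
  let F := DerivedCategory.singleFunctor (Sheaf J AddCommGrpCat.{u}) 0
  let Q := DerivedCategory.Q.obj D.KZ
  let ρ := KLinDR.scalar h
  let f₂ : KLinDR.HdRU (Coh.toGlobal f) D h (n + 1) (U ⊔ V) →ₗ[k] KLinDR.HdRU (Coh.toGlobal f) D h (n + 1) U :=
    KLinDR.HTρpre (CohCx.freeSheafMap J S.f₂₄) D.KZ ρ (n + 1)
  let f₃ : KLinDR.HdRU (Coh.toGlobal f) D h (n + 1) (U ⊔ V) →ₗ[k] KLinDR.HdRU (Coh.toGlobal f) D h (n + 1) V :=
    KLinDR.HTρpre (CohCx.freeSheafMap J S.f₃₄) D.KZ ρ (n + 1)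
  let δ : KLinDR.HdRU (Coh.toGlobal f) D h n (U ⊓ V) →ₗ[k] KLinDR.HdRU (Coh.toGlobal f) D h (n + 1) (U ⊔ V) :=
    { toFun := fun x => KLinDR.HTρ.toHT.symm
        (MVDerived.mvδ F hS.singleδ Q n (KLinDR.HTρ.toHT x))
      map_add' := fun a b => map_add (MVDerived.mvδ F hS.singleδ Q n) _ _
      map_smul' := fun r x => by
        change hS.singleδ ≫ (KLinDR.HTρ.toHT x ≫ (DerivedCategory.Q.map (ρ r : D.KZ ⟶ D.KZ))⟦n⟧')⟦(1 : ℤ)⟧' ≫
            (shiftFunctorAdd' _ n 1 (n + 1) rfl).inv.app Q =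
          (hS.singleδ ≫ (KLinDR.HTρ.toHT x)⟦(1 : ℤ)⟧' ≫ (shiftFunctorAdd' _ n 1 (n + 1) rfl).inv.app Q) ≫
            (DerivedCategory.Q.map (ρ r : D.KZ ⟶ D.KZ))⟦n + 1⟧'
        rw [Functor.map_comp, Category.assoc, Category.assoc, Category.assoc]
        exact congrArg (fun t => hS.singleδ ≫ (KLinDR.HTρ.toHT x)⟦(1 : ℤ)⟧' ≫ t)
          ((shiftFunctorAdd' _ n 1 (n + 1) rfl).inv.naturality (DerivedCategory.Q.map (ρ r : D.KZ ⟶ D.KZ))) }
  have hex := (MVDerived.exact F (CohCx.freeSheafMap J S.f₁₂) (CohCx.freeSheafMap J S.f₁₃)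
    (CohCx.freeSheafMap J S.f₂₄) (CohCx.freeSheafMap J S.f₃₄) hS.singleδ
    hS.singleTriangle_distinguished Q n).2.2
  have := hU (n + 1)
  have := hV (n + 1)
  have := hUV n
  refine finite_of_linear_exact δ (f₂.prod f₃) fun x hx => ?_
  obtain ⟨y, hy⟩ := (ShortComplex.ab_exact_iff _).1 (hex.exact 0) (KLinDR.HTρ.toHT x)
    (Prod.ext (congrArg Prod.fst hx) (congrArg Prod.snd hx))
  exact ⟨KLinDR.HTρ.toHT.symm y, KLinDR.HTρ.toHT.injective hy⟩

/-- Quasi-compact opens inside a chart have finite de Rham cohomology. -/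
theorem finOn_of_le_chart [CharZero k] {W : X.Opens} (hW : IsChart f W) {U : X.Opens} (hUW : U ≤ W)
    (hU : IsCompact (U : Set X)) : FinOn D h U := by
  classical
  have key : ∀ (N : ℕ) (s : Finset Γ(X, W)), s.card ≤ N → FinOn D h (⨆ g ∈ s, X.basicOpen g) := by
    intro N
    induction N with
    | zero =>
      intro s hs
      rw [Finset.card_eq_zero.1 (Nat.le_zero.1 hs)]
      simpa using finOn_bot D h
    | succ N ih =>
      intro s hs
      rcases s.eq_empty_or_nonempty with rfl | ⟨g, hg⟩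
      · simpa using finOn_bot D h
      have hcard : (s.erase g).card ≤ N := by rw [Finset.card_erase_of_mem hg]; omega
      rw [← Finset.insert_erase hg, Finset.iSup_insert]
      refine finOn_sup D h (finOn_chart D h (hW.basicOpen g)) (ih _ hcard) ?_
      have hinf : X.basicOpen g ⊓ ⨆ g' ∈ s.erase g, X.basicOpen g' =
          ⨆ g'' ∈ (s.erase g).image (g * ·), X.basicOpen g'' := by
        rw [Finset.iSup_finset_image, inf_iSup₂_eq]
        simp only [X.basicOpen_mul]
      rw [hinf]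
      exact ih _ (Finset.card_image_le.trans hcard)
  have hcov : ∀ x : U, ∃ g : Γ(X, W), X.basicOpen g ≤ U ∧ x.1 ∈ X.basicOpen g := fun x =>
    hW.1.exists_basicOpen_le x (hUW x.2)
  choose g hgU hgx using hcov
  obtain ⟨t, ht⟩ := hU.elim_finite_subcover (fun x : U => (X.basicOpen (g x) : Set X))
    (fun x => (X.basicOpen (g x)).isOpen) fun x hx => Set.mem_iUnion.2 ⟨⟨x, hx⟩, hgx ⟨x, hx⟩⟩
  have heq : U = ⨆ a ∈ t.image g, X.basicOpen a := by
    refine le_antisymm (fun x hx => ?_) (iSup₂_le fun a ha => ?_)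
    · obtain ⟨y, hy, hxy⟩ := Set.mem_iUnion₂.1 (ht hx)
      exact Opens.mem_iSup.2 ⟨g y, Opens.mem_iSup.2 ⟨Finset.mem_image_of_mem _ hy, hxy⟩⟩
    · obtain ⟨y, -, rfl⟩ := Finset.mem_image.1 ha
      exact hgU y
  rw [heq]
  exact key _ _ le_rfl

/-- de Rham cohomology of a smooth quasi-compact quasi-separated scheme in characteristic zero is finite. -/
theorem finite_HdR_of_smooth [CharZero k] [Smooth f] [QuasiCompact f] (q : ℤ) :
    Module.Finite k (KLinDR.HdR (Coh.toGlobal f) D h q) := by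
  classical
  have : CompactSpace X := QuasiCompact.compactSpace_of_compactSpace f
  have : QuasiSeparatedSpace X := quasiSeparatedSpace_of_quasiSeparated f
  choose W hxW hW using exists_isChart (f := f)
  obtain ⟨t, ht⟩ := isCompact_univ.elim_finite_subcover (fun x : X => (W x : Set X))
    (fun x => (W x).isOpen) fun x _ => Set.mem_iUnion.2 ⟨x, hxW x⟩
  have key : ∀ (s : Finset X) (U : X.Opens), IsCompact (U : Set X) →
      FinOn D h (U ⊓ ⨆ x ∈ s, W x) := by
    intro s
    induction s using Finset.induction_on with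
    | empty =>
      intro U _
      simpa using finOn_bot D h
    | @insert a s _ ih =>
      intro U hUc
      have hc : IsCompact ((U ⊓ W a : X.Opens) : Set X) :=
        QuasiSeparatedSpace.inter_isCompact _ _ U.isOpen hUc (W a).isOpen (hW a).1.isCompact
      rw [Finset.iSup_insert, inf_sup_left]
      refine finOn_sup D h (finOn_of_le_chart D h (hW a) inf_le_right hc) (ih U hUc) ?_
      have he : (U ⊓ W a) ⊓ (U ⊓ ⨆ x ∈ s, W x) = (U ⊓ W a) ⊓ ⨆ x ∈ s, W x := by
        rw [← inf_assoc, inf_eq_left.2 (inf_le_left : U ⊓ W a ≤ U)]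
      rw [he]
      exact ih _ hc
  have htop : (⨆ x ∈ t, W x) = ⊤ := top_le_iff.1 fun x _ => by
    obtain ⟨y, hy, hxy⟩ := Set.mem_iUnion₂.1 (ht (Set.mem_univ x))
    exact Opens.mem_iSup.2 ⟨y, Opens.mem_iSup.2 ⟨hy, hxy⟩⟩
  have := key t ⊤ (by simpa using isCompact_univ)
  rw [htop, inf_top_eq] at this
  exact this q

omit [HasDerivedCategory.{u} (Sheaf (Opens.grothendieckTopology X) AddCommGrpCat.{u})] in
/-- The differential of a de Rham complex over a field is linear. -/
theorem termwiseLinear : KLinDR.TermwiseLinear (Coh.toGlobal f) D.K D.term D.iso := by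
  intro a p
  apply Sheaf.hom_ext
  ext W s
  refine TopCat.Sheaf.eq_of_locally_eq' (F := (D.K.X (p + 1) : TopCat.Sheaf AddCommGrpCat.{u} X))
    (fun V : {V : X.affineOpens // V.1 ≤ W.unop} => V.1.1) _ (fun V => homOfLE V.2) (fun x hx => ?_) _ _
    fun V => ?_
  · obtain ⟨V, hV, hxV, hle⟩ := exists_isAffineOpen_mem_and_subset (X := X) hx
    exact Opens.mem_iSup.2 ⟨⟨⟨V, hV⟩, hle⟩, hxV⟩
  refine Eq.trans (NatTrans.naturality_apply (D.K.d p (p + 1) ≫ KLinDR.scalarEnd (Coh.toGlobal f) D.term D.iso a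
    (p + 1)).hom (homOfLE V.2).op s).symm (Eq.trans ?_ (NatTrans.naturality_apply
      (KLinDR.scalarEnd (Coh.toGlobal f) D.term D.iso a p ≫ D.K.d p (p + 1)).hom (homOfLE V.2).op s))
  obtain ⟨⟨V', hV'⟩, hle⟩ := V
  let _ := kAlg f V'
  have hVa : IsAffineOpen V' := hV'
  obtain ⟨z, hz⟩ := (secForm D p hVa).surjective ((D.K.X p).obj.map (homOfLE hle).op s)
  rw [← hz]
  show (KLinDR.scalarEnd (Coh.toGlobal f) D.term D.iso a (p + 1)).hom.app (op V')
      ((D.K.d p (p + 1)).hom.app (op V') (secForm D p hVa z)) =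
    (D.K.d p (p + 1)).hom.app (op V')
      ((KLinDR.scalarEnd (Coh.toGlobal f) D.term D.iso a p).hom.app (op V') (secForm D p hVa z))
  refine Eq.trans (congrArg _ (secForm_formD D p hVa z).symm) ?_
  refine Eq.trans (secForm_const_smul D (p + 1) hVa a _).symm ?_
  refine Eq.trans ?_ (congrArg _ (secForm_const_smul D p hVa a z))
  refine Eq.trans ?_ (secForm_formD D p hVa (a • z))
  exact congrArg _ (map_smul (formDLin D p hVa) a z).symm

end Groth.Agent.DRHyp
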