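import Groth.Agent.DRHyp.Wedge
import Groth.Prelude.Def_LogDiff
import Groth.Prelude.Def_DeRham
import Mathlib.RingTheory.Kaehler.Polynomial
import Mathlib.RingTheory.Derivation.Lie
import Mathlib.Algebra.MvPolynomial.PDeriv
import Mathlib.Algebra.MvPolynomial.Expand
import Mathlib.Algebra.MvPolynomial.Derivation
import Mathlib.LinearAlgebra.ExteriorPower.Basis
import Mathlib.FieldTheory.Finite.Basic
import Mathlib.Algebra.CharP.Algebra

/-!
# The logarithmic de Rham complex of affine space in characteristic `p`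

The Euler operators `d ∘ i(θ) + i(θ) ∘ d` act diagonally on monomial forms, by the multidegree.
-/

set_option autoImplicit false
set_option linter.unusedSectionVars false

universe u

open exteriorPower MvPolynomial

noncomputable section

namespace Groth.Agent.DRHyp.LogCartier

variable {R : Type u} [CommRing R] {n r : ℕ} (hr : r ≤ n)
  {L : Type u} [AddCommGroup L] [Module (MvPolynomial (Fin n) R) L] [Module R L]
  [IsScalarTower R (MvPolynomial (Fin n) R) L]
  (ι : (Ω[MvPolynomial (Fin n) R⁄R]) →ₗ[MvPolynomial (Fin n) R] L) (dl : Fin r → L)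

/-- The standard generators of the log forms. -/
def uL (ν : Fin n) : L := if h : (ν : ℕ) < r then dl ⟨ν, h⟩ else ι ((KaehlerDifferential.D R (MvPolynomial (Fin n) R)) (X ν))

/-- The log equations. -/
def eqs : Fin r → (MvPolynomial (Fin n) R) := fun i => X (Fin.castLE hr i)

/-- The coefficient taking a standard generator to the differential of the coordinate. -/
def co (r : ℕ) (ν : Fin n) : (MvPolynomial (Fin n) R) := if (ν : ℕ) < r then X ν else 1

variable {ι dl}

section Basis

variable (hL : LogDiff.IsLog (KaehlerDifferential.D R (MvPolynomial (Fin n) R)) (eqs (R := R) hr) ι dl)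

include hL in
theorem iota_D_X (ν : Fin n) : ι ((KaehlerDifferential.D R (MvPolynomial (Fin n) R)) (X ν)) = co (R := R) r ν • uL ι dl ν := by
  by_cases h : (ν : ℕ) < r
  · rw [co, uL, if_pos h, dif_pos h]
    exact (hL.1 ⟨ν, h⟩).symm
  · rw [co, uL, if_neg h, dif_neg h, one_smul]

theorem uL_castLE (i : Fin r) : uL ι dl (Fin.castLE hr i) = dl i := by
  rw [uL, dif_pos (show ((Fin.castLE hr i : Fin n) : ℕ) < r from i.2)]
  rfl

include hL in
theorem span_uL : ⊤ ≤ Submodule.span (MvPolynomial (Fin n) R) (Set.range (uL ι dl : Fin n → L)) := by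
  rw [← hL.2.1, Submodule.span_le]
  rintro x (⟨ω, rfl⟩ | ⟨i, rfl⟩)
  · rw [← (KaehlerDifferential.mvPolynomialBasis R (Fin n)).sum_repr ω, map_sum]
    refine Submodule.sum_mem _ fun ν _ => ?_
    rw [map_smul, KaehlerDifferential.mvPolynomialBasis_apply, iota_D_X hr hL]
    exact Submodule.smul_mem _ _ (Submodule.smul_mem _ _ (Submodule.subset_span ⟨ν, rfl⟩))
  · rw [← uL_castLE hr (ι := ι) (dl := dl) i]
    exact Submodule.subset_span ⟨_, rfl⟩

theorem eq_zero_of_mul_X {ν : Fin n} {a : (MvPolynomial (Fin n) R)} (h : X ν * a = 0) : a = 0 := by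
  refine MvPolynomial.ext _ _ fun m => ?_
  have := congrArg (coeff (Finsupp.single ν 1 + m)) h
  rwa [coeff_X_mul] at this

theorem eq_zero_of_prod_X {κ : Type*} (s : Finset κ) (g : κ → Fin n) {a : (MvPolynomial (Fin n) R)}
    (h : (∏ i ∈ s, (X (g i) : (MvPolynomial (Fin n) R))) * a = 0) : a = 0 := by
  classical
  induction s using Finset.induction_on generalizing a with
  | empty => simpa using h
  | insert i s hi ih =>
    rw [Finset.prod_insert hi, mul_comm (X (g i) : (MvPolynomial (Fin n) R)), mul_assoc] at h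
    exact eq_zero_of_mul_X (ih h)

theorem eq_zero_of_pow_mul {c : (MvPolynomial (Fin n) R)} (hc : ∀ a, c * a = 0 → a = 0) : ∀ (N : ℕ) {a : (MvPolynomial (Fin n) R)}, c ^ N * a = 0 → a = 0
  | 0, a, h => by simpa using h
  | N + 1, a, h => eq_zero_of_pow_mul hc N (hc _ (by rwa [← mul_assoc, ← pow_succ']))

include hL in
theorem linearIndependent_uL : LinearIndependent (MvPolynomial (Fin n) R) (uL ι dl : Fin n → L) := by
  classical
  rw [Fintype.linearIndependent_iff]
  intro b hb ν
  let P : (MvPolynomial (Fin n) R) := ∏ i, eqs (R := R) hr i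
  let c : Fin n → (MvPolynomial (Fin n) R) := fun ν =>
    if h : (ν : ℕ) < r then ∏ i ∈ Finset.univ.erase (⟨ν, h⟩ : Fin r), eqs (R := R) hr i else P
  have hc : ∀ ν, P • uL ι dl ν = ι (c ν • (KaehlerDifferential.D R (MvPolynomial (Fin n) R)) (X ν)) := fun ν => by
    rw [map_smul, iota_D_X hr hL, smul_smul]
    congr 1
    by_cases h : (ν : ℕ) < r
    · simp only [c, co, dif_pos h, if_pos h]
      exact (Finset.prod_erase_mul _ _ (Finset.mem_univ (⟨ν, h⟩ : Fin r))).symm
    · simp only [c, co, dif_neg h, if_neg h, mul_one]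
  have hcreg : ∀ ν, ∀ a : (MvPolynomial (Fin n) R), c ν * a = 0 → a = 0 := fun ν a ha => by
    by_cases h : (ν : ℕ) < r
    · simp only [c, dif_pos h] at ha
      exact eq_zero_of_prod_X _ _ ha
    · simp only [c, dif_neg h] at ha
      exact eq_zero_of_prod_X _ _ ha
  have h0 : ι (∑ ν, (b ν * c ν) • (KaehlerDifferential.D R (MvPolynomial (Fin n) R)) (X ν)) = 0 := by
    rw [map_sum]
    have : ∑ ν, ι ((b ν * c ν) • (KaehlerDifferential.D R (MvPolynomial (Fin n) R)) (X ν)) = P • ∑ ν, b ν • uL ι dl ν := by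
      rw [Finset.smul_sum]
      refine Finset.sum_congr rfl fun ν _ => ?_
      rw [smul_comm, hc, mul_smul, map_smul]
    rw [this, hb, smul_zero]
  obtain ⟨N, hN⟩ := (hL.2.2.2 _).1 h0
  rw [Finset.smul_sum] at hN
  have h1 := Fintype.linearIndependent_iff.1
    (KaehlerDifferential.mvPolynomialBasis R (Fin n)).linearIndependent (fun ν => P ^ N * (b ν * c ν))
    (by simpa only [KaehlerDifferential.mvPolynomialBasis_apply, mul_smul] using hN) ν
  have h2 := eq_zero_of_pow_mul (fun a ha => eq_zero_of_prod_X _ _ ha) N h1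
  exact hcreg ν _ (by rw [mul_comm]; exact h2)

/-- The standard basis of the log forms. -/
def basisL : Module.Basis (Fin n) (MvPolynomial (Fin n) R) L :=
  Module.Basis.mk (linearIndependent_uL hr hL) (span_uL hr hL)

theorem basisL_apply (ν : Fin n) : basisL hr hL ν = uL ι dl ν := Module.Basis.mk_apply _ _ _

/-- The contraction functional of the `i`-th Euler field. -/
def phi (i : Fin n) : Module.Dual (MvPolynomial (Fin n) R) L := (if (i : ℕ) < r then (1 : (MvPolynomial (Fin n) R)) else X i) • (basisL hr hL).coord i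

theorem phi_uL (i ν : Fin n) : phi hr hL i (uL ι dl ν) =
    if ν = i then (if (i : ℕ) < r then (1 : (MvPolynomial (Fin n) R)) else X i) else 0 := by
  rw [phi, LinearMap.smul_apply, ← basisL_apply hr hL, Module.Basis.coord_apply, Module.Basis.repr_self,
    Finsupp.single_apply, smul_eq_mul, mul_ite, mul_one, mul_zero]

include hL in
theorem phi_D (i : Fin n) (f : (MvPolynomial (Fin n) R)) : phi hr hL i (ι ((KaehlerDifferential.D R (MvPolynomial (Fin n) R)) f)) = X i * pderiv i f := by
  have h : ((phi hr hL i).comp ι).compDer (KaehlerDifferential.D R (MvPolynomial (Fin n) R)) = (X i : (MvPolynomial (Fin n) R)) • pderiv (R := R) i := MvPolynomial.derivation_ext fun ν => by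
    show phi hr hL i (ι ((KaehlerDifferential.D R (MvPolynomial (Fin n) R)) (X ν))) = (X i : MvPolynomial (Fin n) R) • pderiv (R := R) i (X ν)
    rw [iota_D_X hr hL, map_smul, phi_uL, pderiv_X]
    by_cases h : ν = i
    · subst h
      rw [if_pos rfl, Pi.single_eq_same]
      by_cases h' : (ν : ℕ) < r <;> simp [co, h']
    · rw [if_neg h, Pi.single_eq_of_ne h, smul_zero, smul_zero]
  exact congr($h f)

theorem phi_D_monomial (i : Fin n) (α : Fin n →₀ ℕ) (a : R) :
    phi hr hL i (ι ((KaehlerDifferential.D R (MvPolynomial (Fin n) R)) (monomial α a))) = (α i : (MvPolynomial (Fin n) R)) * monomial α a := by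
  rw [phi_D, X_mul_pderiv_monomial, nsmul_eq_mul]

end Basis

variable (ι dl) in
/-- A constant form. -/
def U {a : ℕ} (c : Fin a → Fin n) : ↥(⋀[(MvPolynomial (Fin n) R)]^a L) := ιMulti (MvPolynomial (Fin n) R) a fun k => uL ι dl (c k)

theorem U_cons {a : ℕ} (ν : Fin n) (c : Fin a → Fin n) :
    U ι dl (Fin.cons ν c : Fin (a + 1) → Fin n) = Wedge.wedge (uL ι dl ν) a (U ι dl c) := by
  rw [U, U, Wedge.wedge_ιMulti]
  exact congrArg _ (funext fun k => by cases k using Fin.cases <;> simp)

theorem U_eq_zero {a : ℕ} (c : Fin a → Fin n) (h : ¬ Function.Injective c) : U ι dl c = 0 := by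
  rw [Function.not_injective_iff] at h
  obtain ⟨k, l, hkl, hne⟩ := h
  exact AlternatingMap.map_eq_zero_of_eq _ _ (by simp [hkl]) hne

theorem wedge_wedge_comm {a : ℕ} (v w : L) (x : ↥(⋀[(MvPolynomial (Fin n) R)]^a L)) :
    Wedge.wedge v (a + 1) (Wedge.wedge w a x) = -Wedge.wedge w (a + 1) (Wedge.wedge v a x) := by
  have h := Wedge.wedge_wedge_self (v + w) x
  rw [Wedge.wedge_add_left, Wedge.wedge_add_left, map_add, map_add, Wedge.wedge_wedge_self,
    Wedge.wedge_wedge_self, zero_add, add_zero] at h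
  exact eq_neg_of_add_eq_zero_left h

section Ops

variable (hL : LogDiff.IsLog (KaehlerDifferential.D R (MvPolynomial (Fin n) R)) (eqs (R := R) hr) ι dl)
  (d : ∀ q : ℕ, ↥(⋀[(MvPolynomial (Fin n) R)]^q L) →ₗ[R] ↥(⋀[(MvPolynomial (Fin n) R)]^(q + 1) L))
  (hlog : LogDiff.IsLogRule (KaehlerDifferential.D R (MvPolynomial (Fin n) R)) ι dl d)

include hL in
/-- Induction along monomial multiples of constant forms. -/
theorem gen_induction {a : ℕ} {P : ↥(⋀[(MvPolynomial (Fin n) R)]^a L) → Prop} (h0 : P 0) (hadd : ∀ x y, P x → P y → P (x + y))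
    (hgen : ∀ (α : Fin n →₀ ℕ) (t : R) (s : Finset (Fin n)) (hs : s.card = a),
      P (monomial α t • U ι dl (fun k => s.orderEmbOfFin hs k))) (x : ↥(⋀[(MvPolynomial (Fin n) R)]^a L)) : P x := by
  classical
  rw [← ((basisL hr hL).exteriorPower (n := a)).sum_repr x]
  refine Finset.sum_induction _ P hadd h0 fun s _ => ?_
  generalize ((basisL hr hL).exteriorPower (n := a)).repr x s = f
  have e : ((basisL hr hL).exteriorPower (n := a)) s = U ι dl (fun k => s.1.orderEmbOfFin s.2 k) := by
    rw [exteriorPower.basis_apply, exteriorPower.ιMulti_family, U]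
    exact congrArg _ (funext fun k => basisL_apply hr hL _)
  rw [e]
  induction f using MvPolynomial.induction_on' with
  | monomial α t => exact hgen α t _ _
  | add g g' hg hg' => rw [add_smul]; exact hadd _ _ hg hg'

include hL in
theorem induction_U {a : ℕ} {P : ↥(⋀[(MvPolynomial (Fin n) R)]^a L) → Prop} (h0 : P 0) (hadd : ∀ x y, P x → P y → P (x + y))
    (hgen : ∀ (f : (MvPolynomial (Fin n) R)) (c : Fin a → Fin n), P (f • U ι dl c)) (x : ↥(⋀[(MvPolynomial (Fin n) R)]^a L)) : P x :=
  gen_induction hr hL h0 hadd (fun α t s hs => hgen _ _) x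

include hlog in
theorem d_gen {a : ℕ} (f : (MvPolynomial (Fin n) R)) (c : Fin a → Fin n) :
    d a (f • U ι dl c) = Wedge.wedge (ι ((KaehlerDifferential.D R (MvPolynomial (Fin n) R)) f)) a (U ι dl c) := by
  rw [U, Wedge.wedge_ιMulti]
  refine hlog a f _ fun k => ?_
  by_cases h : (c k : ℕ) < r
  · exact Or.inr ⟨⟨c k, h⟩, dif_pos h⟩
  · exact Or.inl ⟨X (c k), dif_neg h⟩

include hlog in
theorem d_U {a : ℕ} (c : Fin a → Fin n) : d a (U ι dl c) = 0 := by
  have h := d_gen d hlog (1 : (MvPolynomial (Fin n) R)) c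
  rw [one_smul, Derivation.map_one_eq_zero, map_zero] at h
  rw [h]
  have := Wedge.wedge_smul_left (0 : (MvPolynomial (Fin n) R)) (0 : L) (U ι dl c)
  rw [zero_smul, zero_smul] at this
  exact this

include hlog hL in
theorem d_smul {a : ℕ} (f : (MvPolynomial (Fin n) R)) (x : ↥(⋀[(MvPolynomial (Fin n) R)]^a L)) :
    d a (f • x) = Wedge.wedge (ι ((KaehlerDifferential.D R (MvPolynomial (Fin n) R)) f)) a x + f • d a x := by
  induction x using induction_U hr hL with
  | h0 => simp
  | hadd x y hx hy => simp only [smul_add, map_add, hx, hy]; abel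
  | hgen g c =>
    rw [smul_smul, d_gen d hlog, d_gen d hlog, Derivation.leibniz, map_add, map_smul, map_smul,
      Wedge.wedge_add_left, Wedge.wedge_smul_left, Wedge.wedge_smul_left, map_smul]
    exact add_comm _ _

include hlog hL in
theorem d_wedge {a : ℕ} (ν : Fin n) (x : ↥(⋀[(MvPolynomial (Fin n) R)]^a L)) :
    d (a + 1) (Wedge.wedge (uL ι dl ν) a x) = -Wedge.wedge (uL ι dl ν) (a + 1) (d a x) := by
  induction x using induction_U hr hL with
  | h0 => simp
  | hadd x y hx hy => simp only [map_add, hx, hy, neg_add]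
  | hgen g c =>
    rw [map_smul, ← U_cons, d_gen d hlog, d_gen d hlog, U_cons, wedge_wedge_comm]

/-- The Euler operator. -/
def E (i : Fin n) : ∀ a : ℕ, ↥(⋀[(MvPolynomial (Fin n) R)]^a L) →ₗ[R] ↥(⋀[(MvPolynomial (Fin n) R)]^a L)
  | 0 => ((Wedge.contr (phi hr hL i) 0).restrictScalars R).comp (d 0)
  | a + 1 => (d a).comp ((Wedge.contr (phi hr hL i) a).restrictScalars R) +
      ((Wedge.contr (phi hr hL i) (a + 1)).restrictScalars R).comp (d (a + 1))

include hlog in
theorem E_smul (i : Fin n) : ∀ {a : ℕ} (f : (MvPolynomial (Fin n) R)) (x : ↥(⋀[(MvPolynomial (Fin n) R)]^a L)),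
    E hr hL d i a (f • x) = phi hr hL i (ι ((KaehlerDifferential.D R (MvPolynomial (Fin n) R)) f)) • x + f • E hr hL d i a x
  | 0, f, x => by
    show Wedge.contr (phi hr hL i) 0 (d 0 (f • x)) = _ + f • Wedge.contr (phi hr hL i) 0 (d 0 x)
    rw [d_smul hr hL d hlog, map_add, map_smul, Wedge.contr_wedge_zero]
  | a + 1, f, x => by
    show d a (Wedge.contr (phi hr hL i) a (f • x)) + Wedge.contr (phi hr hL i) (a + 1) (d (a + 1) (f • x)) =
      _ + f • (d a (Wedge.contr (phi hr hL i) a x) + Wedge.contr (phi hr hL i) (a + 1) (d (a + 1) x))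
    rw [map_smul, d_smul hr hL d hlog, d_smul hr hL d hlog, map_add, map_smul, Wedge.contr_wedge, smul_add]
    abel

/-- The weight of a constant form. -/
def cnt (r : ℕ) (i : Fin n) {a : ℕ} (c : Fin a → Fin n) : ℕ :=
  ∑ k, if c k = i ∧ ¬ (i : ℕ) < r then 1 else 0

include hlog in
theorem E_U (i : Fin n) : ∀ {a : ℕ} (c : Fin a → Fin n),
    E hr hL d i a (U ι dl c) = (cnt r i c : (MvPolynomial (Fin n) R)) • U ι dl c := by
  have hφ : ∀ ν, ι ((KaehlerDifferential.D R (MvPolynomial (Fin n) R)) (phi hr hL i (uL ι dl ν))) =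
      ((if ν = i ∧ ¬ (i : ℕ) < r then 1 else 0 : ℕ) : (MvPolynomial (Fin n) R)) • uL ι dl ν := fun ν => by
    rw [phi_uL]
    by_cases h : ν = i
    · subst h
      by_cases h' : (ν : ℕ) < r
      · simp [h']
      · simp [h', uL]
    · simp [h]
  intro a
  induction a with
  | zero =>
    intro c
    show Wedge.contr (phi hr hL i) 0 (d 0 (U ι dl c)) = _
    rw [d_U d hlog, map_zero, cnt, Finset.univ_eq_empty, Finset.sum_empty, Nat.cast_zero, zero_smul]
  | succ a ih =>
    intro c
    obtain ⟨ν, c, rfl⟩ : ∃ (ν : Fin n) (c' : Fin a → Fin n), c = Fin.cons ν c' :=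
      ⟨c 0, Fin.tail c, (Fin.cons_self_tail c).symm⟩
    have hcnt : (cnt r i (Fin.cons ν c : Fin (a + 1) → Fin n) : (MvPolynomial (Fin n) R)) =
        ((if ν = i ∧ ¬ (i : ℕ) < r then 1 else 0 : ℕ) : (MvPolynomial (Fin n) R)) + (cnt r i c : (MvPolynomial (Fin n) R)) := by
      rw [cnt, cnt, Fin.sum_univ_succ, Nat.cast_add]
      simp
    show d a (Wedge.contr (phi hr hL i) a (U ι dl _)) + Wedge.contr (phi hr hL i) (a + 1) (d (a + 1) (U ι dl _)) = _
    rw [d_U d hlog, map_zero, add_zero, hcnt, add_smul]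
    cases a with
    | zero =>
      rw [U_cons, Wedge.contr_wedge_zero, d_gen d hlog, hφ, Wedge.wedge_smul_left]
      simp [cnt]
    | succ a =>
      rw [U_cons, Wedge.contr_wedge, map_sub, d_gen d hlog, hφ, d_wedge hr hL d hlog, sub_neg_eq_add,
        Wedge.wedge_smul_left]
      congr 1
      have h := ih c
      change d a (Wedge.contr (phi hr hL i) a (U ι dl c)) + Wedge.contr (phi hr hL i) (a + 1) (d (a + 1) (U ι dl c)) = _ at h
      rw [d_U d hlog, map_zero, add_zero] at h
      rw [h, map_smul]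

/-- The weight of a monomial form. -/
def wt (r : ℕ) (i : Fin n) (α : Fin n →₀ ℕ) {a : ℕ} (c : Fin a → Fin n) : ℕ := α i + cnt r i c

include hlog in
theorem E_monomial (i : Fin n) (α : Fin n →₀ ℕ) (t : R) {a : ℕ} (c : Fin a → Fin n) :
    E hr hL d i a (monomial α t • U ι dl c) = (wt r i α c : (MvPolynomial (Fin n) R)) • monomial α t • U ι dl c := by
  rw [E_smul hr hL d hlog, E_U hr hL d hlog, phi_D_monomial, wt, Nat.cast_add, add_smul, mul_smul,
    smul_comm (monomial α t) (cnt r i c : (MvPolynomial (Fin n) R))]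

variable (hdd : ∀ q, d (q + 1) ∘ₗ d q = 0)

include hdd in
theorem d_E (i : Fin n) : ∀ (a : ℕ) (x : ↥(⋀[(MvPolynomial (Fin n) R)]^a L)), d a (E hr hL d i a x) = E hr hL d i (a + 1) (d a x)
  | 0, x => by
    show d 0 (Wedge.contr _ 0 (d 0 x)) = d 0 (Wedge.contr _ 0 (d 0 x)) + Wedge.contr _ 1 (d 1 (d 0 x))
    rw [show d 1 (d 0 x) = 0 from congr($(hdd 0) x), map_zero, add_zero]
  | a + 1, x => by
    show d (a + 1) (d a (Wedge.contr _ a x) + Wedge.contr _ (a + 1) (d (a + 1) x)) =
      d (a + 1) (Wedge.contr _ (a + 1) (d (a + 1) x)) + Wedge.contr _ (a + 1 + 1) (d (a + 1 + 1) (d (a + 1) x))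
    rw [map_add, show ∀ y, d (a + 1) (d a y) = 0 from fun y => congr($(hdd a) y),
      show d (a + 1 + 1) (d (a + 1) x) = 0 from congr($(hdd (a + 1)) x), map_zero, zero_add, add_zero]

theorem E_mem_coboundaries (i : Fin n) : ∀ (a : ℕ) (x : ↥(⋀[(MvPolynomial (Fin n) R)]^a L)), d a x = 0 →
    E hr hL d i a x ∈ DeRham.coboundaries d a
  | 0, x, h => by
    show Wedge.contr _ 0 (d 0 x) ∈ (⊥ : Submodule R _)
    rw [h, map_zero]; exact zero_mem _
  | a + 1, x, h => by
    show d a (Wedge.contr _ a x) + Wedge.contr _ (a + 1) (d (a + 1) x) ∈ LinearMap.range (d a)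
    rw [h, map_zero, add_zero]
    exact ⟨_, rfl⟩

variable (p : ℕ)

/-- Projection to weight divisible by `p` in one coordinate. -/
def proj (i : Fin n) (a : ℕ) : ↥(⋀[(MvPolynomial (Fin n) R)]^a L) →ₗ[R] ↥(⋀[(MvPolynomial (Fin n) R)]^a L) := LinearMap.id - (E hr hL d i a) ^ (p - 1)

/-- Projection to weight divisible by `p` in the coordinates of a list. -/
def projs : List (Fin n) → ∀ a : ℕ, ↥(⋀[(MvPolynomial (Fin n) R)]^a L) →ₗ[R] ↥(⋀[(MvPolynomial (Fin n) R)]^a L)
  | [], _ => LinearMap.id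
  | i :: l, a => (proj hr hL d p i a).comp (projs l a)

include hdd in
theorem d_projs : ∀ (l : List (Fin n)) (a : ℕ) (x : ↥(⋀[(MvPolynomial (Fin n) R)]^a L)),
    d a (projs hr hL d p l a x) = projs hr hL d p l (a + 1) (d a x)
  | [], a, x => rfl
  | i :: l, a, x => by
    have h : ∀ (m : ℕ) (y : ↥(⋀[(MvPolynomial (Fin n) R)]^a L)), d a (((E hr hL d i a) ^ m) y) = ((E hr hL d i (a + 1)) ^ m) (d a y) := by
      intro m
      induction m with
      | zero => intro y; rfl
      | succ m ih =>
        intro y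
        rw [pow_succ', pow_succ', Module.End.mul_apply, Module.End.mul_apply, d_E hr hL d hdd, ih]
    show d a (projs hr hL d p l a x - ((E hr hL d i a) ^ (p - 1)) (projs hr hL d p l a x)) =
      projs hr hL d p l (a + 1) (d a x) - ((E hr hL d i (a + 1)) ^ (p - 1)) (projs hr hL d p l (a + 1) (d a x))
    rw [map_sub, h, d_projs l a x]

include hdd in
theorem sub_projs_mem {p : ℕ} (hp : 2 ≤ p) : ∀ (l : List (Fin n)) (a : ℕ) (x : ↥(⋀[(MvPolynomial (Fin n) R)]^a L)), d a x = 0 →
    x - projs hr hL d p l a x ∈ DeRham.coboundaries d a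
  | [], a, x, _ => by
    show x - x ∈ _
    rw [sub_self]; exact zero_mem _
  | i :: l, a, x, hx => by
    obtain ⟨q, hq⟩ := Nat.exists_eq_succ_of_ne_zero (show p - 1 ≠ 0 by omega)
    have hc : ∀ m, d a (((E hr hL d i a) ^ m) (projs hr hL d p l a x)) = 0 := by
      intro m
      induction m with
      | zero => exact (d_projs hr hL d hdd p l a x).trans (by rw [hx, map_zero])
      | succ m ih => rw [pow_succ', Module.End.mul_apply, d_E hr hL d hdd, ih, map_zero]
    show x - (projs hr hL d p l a x - ((E hr hL d i a) ^ (p - 1)) (projs hr hL d p l a x)) ∈ _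
    rw [sub_sub_eq_add_sub, add_sub_right_comm, hq, pow_succ', Module.End.mul_apply]
    exact add_mem (sub_projs_mem hp l a x hx) (E_mem_coboundaries hr hL d i a _ (hc q))

include hlog in
theorem projs_monomial (l : List (Fin n)) (α : Fin n →₀ ℕ) (t : R) {a : ℕ} (c : Fin a → Fin n)
    [Fact p.Prime] [CharP R p] :
    projs hr hL d p l a (monomial α t • U ι dl c) =
      (if ∀ i ∈ l, (wt r i α c : ZMod p) = 0 then (1 : R) else 0) • monomial α t • U ι dl c := by
  induction l with
  | nil => simp [projs]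
  | cons i l ih =>
    show projs hr hL d p l a _ - ((E hr hL d i a) ^ (p - 1)) (projs hr hL d p l a _) = _
    have hpow : ∀ m : ℕ, ((E hr hL d i a) ^ m) (monomial α t • U ι dl c) =
        (wt r i α c : R) ^ m • monomial α t • U ι dl c := by
      intro m
      induction m with
      | zero => simp
      | succ m ihm =>
        rw [pow_succ', Module.End.mul_apply, ihm, map_smul, E_monomial hr hL d hlog,
          Nat.cast_smul_eq_nsmul (MvPolynomial (Fin n) R), ← Nat.cast_smul_eq_nsmul R, smul_smul, ← pow_succ]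
    have hf : ((wt r i α c : ℕ) : R) ^ (p - 1) = if (wt r i α c : ZMod p) = 0 then 0 else 1 := by
      rw [← map_natCast (ZMod.castHom dvd_rfl R) (wt r i α c), ← map_pow]
      by_cases h : (wt r i α c : ZMod p) = 0
      · rw [if_pos h, h, zero_pow (by have := (Fact.out : p.Prime).two_le; omega), map_zero]
      · rw [if_neg h, ZMod.pow_card_sub_one_eq_one h, map_one]
    rw [ih, map_smul, hpow, hf]
    by_cases hl : ∀ j ∈ l, (wt r j α c : ZMod p) = 0
    · by_cases hi : (wt r i α c : ZMod p) = 0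
      · rw [if_pos hl, if_pos hi, if_pos (by simpa using ⟨hi, hl⟩), zero_smul, smul_zero, sub_zero]
      · rw [if_pos hl, if_neg hi, if_neg (by simp [hi]), one_smul, one_smul, sub_self, zero_smul]
    · rw [if_neg hl, if_neg (show ¬ ∀ j ∈ i :: l, (wt r j α c : ZMod p) = 0 from
        fun h => hl fun j hj => h j (List.mem_cons_of_mem _ hj)), zero_smul, zero_smul,
        sub_zero]

include hr hL hlog in
theorem d_monomial_eq_zero [Fact p.Prime] [CharP R p] (α : Fin n →₀ ℕ) (t : R) {a : ℕ} {c : Fin a → Fin n}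
    (h : ∀ i, (wt r i α c : ZMod p) = 0) : d a (monomial α t • U ι dl c) = 0 := by
  classical
  rw [d_gen d hlog, ← (basisL hr hL).sum_repr (ι ((KaehlerDifferential.D R (MvPolynomial (Fin n) R)) (monomial α t)))]
  have key : ∀ ν, Wedge.wedge ((basisL hr hL).repr (ι ((KaehlerDifferential.D R (MvPolynomial (Fin n) R)) (monomial α t))) ν • uL ι dl ν) a (U ι dl c) = 0 := by
    intro ν
    rw [Wedge.wedge_smul_left, ← U_cons]
    by_cases hν : ν ∈ Set.range c ∧ ¬ (ν : ℕ) < r
    · rw [U_eq_zero, smul_zero]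
      intro hinj
      obtain ⟨k, hk⟩ := hν.1
      exact Fin.succ_ne_zero k (hinj (by simp [hk]))
    · have hcnt : cnt r ν c = 0 := Finset.sum_eq_zero fun k _ => if_neg fun hk => hν ⟨⟨k, hk.1⟩, hk.2⟩
      have hα : ((α ν : ℕ) : (MvPolynomial (Fin n) R)) = 0 := by
        have h' := h ν
        rw [wt, hcnt, add_zero] at h'
        rw [← map_natCast (C (σ := Fin n)), ← map_natCast (ZMod.castHom (dvd_refl p) R), h', map_zero, map_zero]
      have hφ := phi_D_monomial hr hL ν α t
      rw [hα, zero_mul, phi, LinearMap.smul_apply, Module.Basis.coord_apply, smul_eq_mul] at hφ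
      have : (basisL hr hL).repr (ι ((KaehlerDifferential.D R (MvPolynomial (Fin n) R)) (monomial α t))) ν = 0 := by
        by_cases h' : (ν : ℕ) < r
        · rwa [if_pos h', one_mul] at hφ
        · rw [if_neg h'] at hφ
          exact eq_zero_of_mul_X hφ
      rw [this, zero_smul]
  let W : L →+ ↥(⋀[(MvPolynomial (Fin n) R)]^(a + 1) L) :=
    AddMonoidHom.mk' (fun v => Wedge.wedge v a (U ι dl c)) fun v v' => Wedge.wedge_add_left v v' _
  show W _ = 0
  rw [map_sum]
  refine Finset.sum_eq_zero fun ν _ => ?_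
  rw [basisL_apply]
  exact key ν

end Ops

end Groth.Agent.DRHyp.LogCartier
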