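import Groth.Agent.PnCoh.Laurent
import Groth.Agent.QCoh.Ab.Cech
import Mathlib.LinearAlgebra.Alternating.Uncurry.Fin
import Mathlib.LinearAlgebra.Alternating.Curry
import Mathlib.LinearAlgebra.StdBasis
import Mathlib.Data.Fintype.Card

/-!
# The Čech complex of differential forms on projective space, on coordinates

A form is an alternating map on `ι → R` with values in Laurent polynomials (in the basis `dlog xᵢ`);
forms of projective space are those of degree zero killed by contraction with `(1, …, 1)`.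
-/

set_option autoImplicit false

universe u w

open Groth.Agent.QCoh.Ab Groth.Agent.PnCoh

namespace Groth.Agent.DRHyp.PnForms

variable {ι : Type} {R : Type u} [CommRing R] {M : Type w} [AddCommGroup M] [Module R M]

/-- Alternating forms. -/
abbrev Alt (ι : Type) (R : Type u) [CommRing R] (M : Type w) [AddCommGroup M] [Module R M]
    (p : ℕ) : Type (max u w) :=
  (ι → R) [⋀^Fin p]→ₗ[R] M

open Classical in
/-- A tuple of basis vectors. -/
noncomputable def bvec (R : Type u) [CommRing R] {p : ℕ} (τ : Fin p → ι) : Fin p → ι → R :=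
  fun k => Pi.single (τ k) 1

theorem alt_sum_apply {p : ℕ} {α : Type*} (s : Finset α) (f : α → Alt ι R M p)
    (v : Fin p → ι → R) : (∑ a ∈ s, f a) v = ∑ a ∈ s, f a v := by
  classical
  induction s using Finset.induction with
  | empty => simp
  | insert a s ha ih => simp [Finset.sum_insert ha, ih]

theorem bvec_cons {p : ℕ} (i : ι) (τ : Fin p → ι) [DecidableEq ι] :
    bvec R (Fin.cons i τ : Fin (p + 1) → ι) = Matrix.vecCons (Pi.single i 1) (bvec R τ) := by
  classical
  funext k
  refine Fin.cases ?_ (fun k => ?_) k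
  · simp [bvec]; congr!
  · simp [bvec]

theorem bvec_apply_of_not_injective {p : ℕ} (ω : Alt ι R M p) {τ : Fin p → ι}
    (h : ¬ Function.Injective τ) : ω (bvec R τ) = 0 := by
  classical
  obtain ⟨a, b, hab, hne⟩ := Function.not_injective_iff.1 h
  exact ω.map_eq_zero_of_eq _ (show bvec R τ a = bvec R τ b by simp [bvec, hab]) hne

theorem alt_ext [Fintype ι] {p : ℕ} {ω ω' : Alt ι R M p}
    (h : ∀ τ : Fin p → ι, ω (bvec R τ) = ω' (bvec R τ)) : ω = ω' := by
  classical
  refine (Pi.basisFun R ι).ext_alternating fun v _ => ?_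
  have e : (fun a => Pi.basisFun R ι (v a)) = bvec R v := funext fun a => by
    funext i
    simp [bvec, Pi.single_apply]
  rw [e]
  exact h v

/-- Contraction with `(1, …, 1)`. -/
noncomputable def kap {p : ℕ} : Alt ι R M (p + 1) →ₗ[R] Alt ι R M p :=
  (AlternatingMap.curryLeftLinearMap (R := R) (M := ι → R) (N := M) (n := p)).flip (1 : ι → R)

theorem kap_apply {p : ℕ} (ω : Alt ι R M (p + 1)) (u : Fin p → ι → R) :
    kap ω u = ω (Matrix.vecCons 1 u) := rfl

theorem kap_bvec [Fintype ι] [DecidableEq ι] {p : ℕ} (ω : Alt ι R M (p + 1)) (τ : Fin p → ι) :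
    kap ω (bvec R τ) = ∑ i, ω (bvec R (Fin.cons i τ : Fin (p + 1) → ι)) := by
  have e : (1 : ι → R) = ∑ i, Pi.single i 1 := by funext j; simp [Finset.sum_apply, Pi.single_apply]
  have : kap ω (bvec R τ) = (ω.curryLeft (∑ i, Pi.single i 1)) (bvec R τ) := by rw [← e]; rfl
  rw [this, map_sum, alt_sum_apply]
  simp [bvec_cons]

theorem kap_kap {p : ℕ} (ω : Alt ι R M (p + 2)) : kap (kap ω) = 0 := by
  ext u
  exact ω.map_eq_zero_of_eq _ (i := 0) (j := 1) rfl (by simp [Fin.ext_iff])

/-- Killed by contraction. -/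
def Closed : ∀ {p : ℕ}, Alt ι R M p → Prop
  | 0, _ => True
  | _ + 1, ω => kap ω = 0

theorem closed_zero : ∀ {p : ℕ}, Closed (0 : Alt ι R M p)
  | 0 => trivial
  | _ + 1 => map_zero _

theorem Closed.add : ∀ {p : ℕ} {a b : Alt ι R M p}, Closed a → Closed b → Closed (a + b)
  | 0, _, _, _, _ => trivial
  | _ + 1, _, _, ha, hb => (map_add _ _ _).trans (by
      rw [show kap _ = 0 from ha, show kap _ = 0 from hb, add_zero])

theorem Closed.smul : ∀ {p : ℕ} (r : R) {a : Alt ι R M p}, Closed a → Closed (r • a)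
  | 0, _, _, _ => trivial
  | _ + 1, _, _, ha => (map_smul _ _ _).trans (by rw [show kap _ = 0 from ha, smul_zero])

theorem Closed.sub {p : ℕ} {a b : Alt ι R M p} (ha : Closed a) (hb : Closed b) :
    Closed (a - b) := by
  rw [sub_eq_add_neg, ← neg_one_smul R b]
  exact ha.add (hb.smul _)

theorem Closed.comp {N : Type w} [AddCommGroup N] [Module R N] (f : M →ₗ[R] N) :
    ∀ {p : ℕ} {a : Alt ι R M p}, Closed a → Closed (f.compAlternatingMap a)
  | 0, _, _ => trivial
  | p + 1, a, ha => by
    ext u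
    show f (kap a u) = 0
    rw [show kap a = 0 from ha]
    exact map_zero f

theorem eq_zero_of_avoid [Fintype ι] {p : ℕ} {ω : Alt ι R M p} (hω : Closed ω) (j : ι)
    (h : ∀ τ : Fin p → ι, (∀ k, τ k ≠ j) → ω (bvec R τ) = 0) : ω = 0 := by
  classical
  refine alt_ext fun τ => ?_
  rw [AlternatingMap.zero_apply]
  by_cases hτ : ∀ k, τ k ≠ j
  · exact h τ hτ
  by_cases hinj : Function.Injective τ
  swap
  · exact bvec_apply_of_not_injective ω hinj
  obtain ⟨k, hk⟩ : ∃ k, τ k = j := by simpa using hτ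
  obtain ⟨n, rfl⟩ : ∃ n, p = n + 1 := ⟨p - 1, by have := k.isLt; omega⟩
  suffices hs : ∀ τ : Fin (n + 1) → ι, Function.Injective τ → τ 0 = j → ω (bvec R τ) = 0 by
    rcases eq_or_ne 0 k with rfl | hne
    · exact hs τ hinj hk
    · have h1 := hs (τ ∘ Equiv.swap 0 k) (hinj.comp (Equiv.injective _)) (by simp [hk])
      rw [show bvec R (τ ∘ Equiv.swap 0 k) = bvec R τ ∘ Equiv.swap 0 k from rfl,
        ω.map_swap _ hne, neg_eq_zero] at h1
      exact h1
  intro τ hinj h0
  obtain ⟨i, t, rfl⟩ : ∃ i t, τ = Fin.cons i t := ⟨τ 0, Fin.tail τ, (Fin.cons_self_tail τ).symm⟩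
  simp only [Fin.cons_zero] at h0
  subst h0
  have hsum : kap ω (bvec R t) = 0 := by rw [show kap ω = 0 from hω]; rfl
  rw [kap_bvec, Finset.sum_eq_single i _ (by simp)] at hsum
  · exact hsum
  intro l _ hl
  refine h _ fun k => ?_
  refine Fin.cases ?_ (fun k => ?_) k
  · simpa using hl
  · intro hk
    simp only [Fin.cons_succ] at hk
    exact Fin.succ_ne_zero k (hinj (by simp [hk]))

/-! ## Support on a set -/

/-- The coordinates outside `T` vanish. -/
def OnSet {p : ℕ} (T : Set ι) (η : Alt ι R M p) : Prop :=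
  ∀ (τ : Fin p → ι) (k : Fin p), τ k ∉ T → η (bvec R τ) = 0

theorem onSet_range_eq_zero [Fintype ι] {p q : ℕ} {σ : Fin q → ι} {η : Alt ι R M p}
    (h : OnSet (Set.range σ) η) (hpq : q < p) : η = 0 := by
  refine alt_ext fun τ => ?_
  rw [AlternatingMap.zero_apply]
  by_cases hinj : Function.Injective τ
  swap
  · exact bvec_apply_of_not_injective η hinj
  by_contra hne
  have hmem : ∀ k, τ k ∈ Set.range σ := fun k => by
    by_contra hk
    exact hne (h τ k hk)
  choose f hf using hmem
  have := Fintype.card_le_of_injective f fun a b hab => hinj (by rw [← hf a, ← hf b, hab])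
  simp at this
  omega

theorem onSet_range_closed_eq_zero [Fintype ι] {p q : ℕ} {σ : Fin q → ι} {η : Alt ι R M p}
    (h : OnSet (Set.range σ) η) (hc : Closed η) (hp : 0 < p) (hpq : q ≤ p) : η = 0 := by
  classical
  obtain rfl | hq := Nat.eq_zero_or_pos q
  · exact onSet_range_eq_zero h hp
  obtain ⟨q, rfl⟩ : ∃ m, q = m + 1 := ⟨q - 1, by omega⟩
  refine eq_zero_of_avoid hc (σ 0) fun τ hτ => ?_
  by_cases hinj : Function.Injective τ
  swap
  · exact bvec_apply_of_not_injective η hinj
  by_contra hne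
  have hmem : ∀ k, ∃ m : Fin q, σ m.succ = τ k := fun k => by
    by_cases hk : τ k ∈ Set.range σ
    · obtain ⟨a, ha⟩ := hk
      refine Fin.cases (fun h0 => absurd h0.symm (hτ k)) (fun m hm => ⟨m, hm⟩) a ha
    · exact absurd (h τ k hk) hne
  choose f hf using hmem
  have := Fintype.card_le_of_injective f fun a b hab => hinj (by rw [← hf a, ← hf b, hab])
  simp at this
  omega

/-! ## The constant coefficients -/

/-- The differential as a linear map. -/
noncomputable def deltaL (R : Type u) [CommRing R] {α A : Type*} [AddCommGroup A] [Module R A]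
    (n : ℕ) : ((Fin n → α) → A) →ₗ[R] (Fin (n + 1) → α) → A where
  toFun := delta
  map_add' a b := by funext τ; simp [delta, smul_add, Finset.sum_add_distrib]
  map_smul' r a := by
    funext τ
    simp only [delta, Pi.smul_apply, RingHom.id_apply, Finset.smul_sum]
    exact Finset.sum_congr rfl fun _ _ => smul_comm _ _ _

theorem map_delta {α A B F : Type*} [AddCommGroup A] [AddCommGroup B] [FunLike F A B]
    [AddMonoidHomClass F A B] (f : F) {n : ℕ} (g : (Fin n → α) → A) (τ : Fin (n + 1) → α) :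
    f (delta g τ) = delta (fun σ => f (g σ)) τ := by
  simp [delta, map_sum, map_zsmul]

variable (ι R) in
/-- Cochains of constant forms. -/
abbrev Coch (p q : ℕ) : Type u := (Fin q → ι) → Alt ι R R p

/-- The supported cochains. -/
def IsK {p q : ℕ} (c : Coch ι R p q) : Prop := ∀ σ, OnSet (Set.range σ) (c σ)

variable (ι R) in
/-- The supported cochains, as a submodule. -/
def Ksub (p q : ℕ) : Submodule R (Coch ι R p q) where
  carrier := {c | IsK c}
  add_mem' {a b} ha hb σ τ k hk := by simp [ha σ τ k hk, hb σ τ k hk]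
  zero_mem' σ τ k hk := rfl
  smul_mem' r a ha σ τ k hk := by simp [ha σ τ k hk]

variable (ι R) in
/-- The supported cochains killed by contraction. -/
def Zsub (p q : ℕ) : Submodule R (Coch ι R p q) where
  carrier := {c | c ∈ Ksub ι R p q ∧ ∀ σ, Closed (c σ)}
  add_mem' {a b} ha hb := ⟨add_mem ha.1 hb.1, fun σ => (ha.2 σ).add (hb.2 σ)⟩
  zero_mem' := ⟨zero_mem _, fun _ => closed_zero⟩
  smul_mem' r a ha := ⟨Submodule.smul_mem _ r ha.1, fun σ => (ha.2 σ).smul r⟩

theorem delta_mem_Ksub {p q : ℕ} {c : Coch ι R p q} (hc : c ∈ Ksub ι R p q) :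
    delta c ∈ Ksub ι R p (q + 1) := fun σ τ k hk => by
  simp only [delta, alt_sum_apply]
  refine Finset.sum_eq_zero fun a _ => ?_
  rw [AlternatingMap.smul_apply, hc _ τ k fun ⟨b, hb⟩ => hk ⟨_, hb⟩, smul_zero]

theorem delta_mem_Zsub : ∀ {p q : ℕ} {c : Coch ι R p q}, c ∈ Zsub ι R p q →
    delta c ∈ Zsub ι R p (q + 1)
  | 0, _, _, hc => ⟨delta_mem_Ksub hc.1, fun _ => trivial⟩
  | p + 1, q, c, hc => ⟨delta_mem_Ksub hc.1, fun σ => by
      show kap (delta c σ) = 0
      rw [map_delta]
      simp [delta, show ∀ σ, kap (c σ) = 0 from hc.2]⟩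

variable [Fintype ι]

open Classical in
/-- Forgetting one coordinate. -/
noncomputable def projOut (j : ι) : (ι → R) →ₗ[R] ι → R :=
  LinearMap.pi fun i => if i = j then 0 else LinearMap.proj i

theorem comp_projOut_bvec {p : ℕ} (η : Alt ι R M p) (j : ι) (τ : Fin p → ι) :
    ((∀ k, τ k ≠ j) → η.compLinearMap (projOut j) (bvec R τ) = η (bvec R τ)) ∧
      (∀ k, τ k = j → η.compLinearMap (projOut j) (bvec R τ) = 0) := by
  classical
  refine ⟨fun h => congrArg η (funext fun k => funext fun i => ?_), fun k hk => ?_⟩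
  · by_cases hi : i = j
    · subst hi
      simp [projOut, bvec, Pi.single_apply, (h k).symm]
    · simp [projOut, hi]
  · refine η.map_coord_zero k (funext fun i => ?_)
    by_cases hi : i = j
    · simp [projOut, hi]
    · simp [projOut, bvec, hi, hk]

/-- The supported cochains are exact in the middle degrees. -/
theorem exists_delta_eq_K {p q : ℕ} (hp : p < Fintype.card ι) {c : Coch ι R p (q + 1)}
    (hc : c ∈ Ksub ι R p (q + 1)) (hd : delta c = 0) :
    ∃ h ∈ Ksub ι R p q, delta h = c := by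
  classical
  suffices key : ∀ S : Finset ι, ∀ c : Coch ι R p (q + 1), c ∈ Ksub ι R p (q + 1) → delta c = 0 →
      ∃ h ∈ Ksub ι R p q, ∀ σ, ∀ τ : Fin p → ι, (∃ j ∈ S, ∀ k, τ k ≠ j) →
        delta h σ (bvec R τ) = c σ (bvec R τ) by
    obtain ⟨h, hh, he⟩ := key Finset.univ c hc hd
    refine ⟨h, hh, funext fun σ => alt_ext fun τ => he σ τ ?_⟩
    obtain ⟨j, hj⟩ : ∃ j, j ∉ Set.range τ := by
      by_contra hall
      push Not at hall
      have := Fintype.card_le_of_surjective τ hall
      simp at this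
      omega
    exact ⟨j, Finset.mem_univ j, fun k hk => hj ⟨k, hk⟩⟩
  intro S
  induction S using Finset.induction with
  | empty => exact fun c _ _ => ⟨0, zero_mem _, fun σ τ h => by simp at h⟩
  | insert j S _ ih =>
    intro c hc hd
    obtain ⟨h, hh, he⟩ := ih c hc hd
    let c₁ := c - delta h
    have hc₁ : c₁ ∈ Ksub ι R p (q + 1) := sub_mem hc (delta_mem_Ksub hh)
    have hd₁ : delta c₁ = 0 := funext fun τ => by
      rw [show c₁ = fun σ => c σ - delta h σ from rfl, delta_sub]
      simp [hd, delta_delta]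
    let h₁ : Coch ι R p q := fun σ => (c₁ (Fin.cons j σ)).compLinearMap (projOut j)
    have hh₁ : h₁ ∈ Ksub ι R p q := fun σ τ k hk => by
      by_cases ha : ∀ l, τ l ≠ j
      · refine ((comp_projOut_bvec _ j τ).1 ha).trans (hc₁ _ τ k fun ⟨a, hae⟩ => ?_)
        revert hae
        refine Fin.cases (fun h0 => ha k h0.symm) (fun b hb => hk ⟨b, by simpa using hb⟩) a
      · obtain ⟨l, hl⟩ : ∃ l, τ l = j := by simpa using ha
        exact (comp_projOut_bvec _ j τ).2 l hl
    refine ⟨h + h₁, add_mem hh hh₁, fun σ τ hτ => ?_⟩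
    rw [show delta (h + h₁) = delta h + delta h₁ from (deltaL R q).map_add h h₁, Pi.add_apply,
      AlternatingMap.add_apply]
    have e : delta h₁ σ (bvec R τ) =
        delta (fun ρ => h₁ ρ (bvec R τ)) σ := by
      simp [delta, alt_sum_apply]
    by_cases ha : ∀ l, τ l ≠ j
    · have h2 : delta (fun ρ => h₁ ρ (bvec R τ)) σ = c₁ σ (bvec R τ) := by
        have hz := congrFun hd₁ (Fin.cons j σ)
        rw [delta_cons, Pi.zero_apply, sub_eq_zero] at hz
        rw [hz]
        simp only [delta, alt_sum_apply, AlternatingMap.smul_apply]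
        exact Finset.sum_congr rfl fun a _ => congrArg _ ((comp_projOut_bvec _ j τ).1 ha)
      rw [e, h2]
      simp [c₁]
    · obtain ⟨l, hl⟩ : ∃ l, τ l = j := by simpa using ha
      have h2 : delta (fun ρ => h₁ ρ (bvec R τ)) σ = 0 :=
        Finset.sum_eq_zero fun a _ => by
          show (-1 : ℤ) ^ (a : ℕ) • h₁ (fun b => σ (a.succAbove b)) (bvec R τ) = 0
          rw [show h₁ _ (bvec R τ) = 0 from (comp_projOut_bvec _ j τ).2 l hl, smul_zero]
      rw [e, h2, add_zero]
      obtain ⟨i, hi, hiτ⟩ := hτ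
      rcases Finset.mem_insert.1 hi with rfl | hiS
      · exact absurd hl (hiτ l)
      · exact he σ τ ⟨i, hiS, hiτ⟩

/-- Wedge with a coordinate. -/
noncomputable def wedge (j : ι) {p : ℕ} (η : Alt ι R R p) : Alt ι R R (p + 1) :=
  AlternatingMap.alternatizeUncurryFin ((LinearMap.proj j : (ι → R) →ₗ[R] R).smulRight η)

theorem wedge_apply (j : ι) {p : ℕ} (η : Alt ι R R p) (v : Fin (p + 1) → ι → R) :
    wedge j η v = ∑ k : Fin (p + 1), (-1 : ℤ) ^ (k : ℕ) • (v k j * η (k.removeNth v)) := by
  rw [wedge, AlternatingMap.alternatizeUncurryFin_apply]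
  simp

theorem kap_wedge (j : ι) : ∀ {p : ℕ} {η : Alt ι R R p}, Closed η → kap (wedge j η) = η
  | 0, η, _ => by
    ext u
    rw [kap_apply, wedge_apply]
    simp [Fin.removeNth, Subsingleton.elim (α := Fin 0 → ι → R) _ u]
  | p + 1, η, hη => by
    ext u
    rw [kap_apply, wedge_apply, Fin.sum_univ_succ, Finset.sum_eq_zero fun k _ => ?_, add_zero]
    · simp [Fin.removeNth]
    have : k.succ.removeNth (Matrix.vecCons (1 : ι → R) u) = Matrix.vecCons 1 (k.removeNth u) := by
      funext b
      refine Fin.cases ?_ (fun b => ?_) b <;> simp [Fin.removeNth]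
    rw [this, ← kap_apply, show kap η = 0 from hη]
    simp

theorem onSet_wedge {j : ι} {T : Set ι} (hj : j ∈ T) {p : ℕ} {η : Alt ι R R p} (hη : OnSet T η) :
    OnSet T (wedge j η) := by
  classical
  intro τ k hk
  rw [wedge_apply]
  refine Finset.sum_eq_zero fun a _ => ?_
  by_cases ha : τ a = j
  · have hne : k ≠ a := fun h => hk (h ▸ ha ▸ hj)
    obtain ⟨b, rfl⟩ := Fin.exists_succAbove_eq hne
    rw [show a.removeNth (bvec R τ) = bvec R (fun l => τ (a.succAbove l)) from rfl, hη _ b hk]
    simp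
  · simp [bvec, Pi.single_apply, Ne.symm ha]

omit [Fintype ι] in
theorem kap_onSet [Finite ι] {p : ℕ} {T : Set ι} {η : Alt ι R M (p + 1)} (hη : OnSet T η) :
    OnSet T (kap η) := by
  classical
  have := Fintype.ofFinite ι
  intro τ k hk
  rw [kap_bvec]
  exact Finset.sum_eq_zero fun i _ => hη _ k.succ (by simpa using hk)

/-- The closed supported cochains are exact away from the diagonal. -/
theorem exists_delta_eq_Z [Nonempty ι] : ∀ {p q : ℕ}, p < Fintype.card ι → p ≠ q →
    ∀ {c : Coch ι R p (q + 1)}, c ∈ Zsub ι R p (q + 1) → delta c = 0 →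
      ∃ h ∈ Zsub ι R p q, delta h = c := by
  intro p
  induction p with
  | zero =>
    intro q hp _ c hc hd
    obtain ⟨h, hh, he⟩ := exists_delta_eq_K hp hc.1 hd
    exact ⟨h, ⟨hh, fun _ => trivial⟩, he⟩
  | succ p ih =>
    intro q hp hpq c hc hd
    rcases lt_or_gt_of_ne hpq with hlt | hgt
    swap
    · refine ⟨0, zero_mem _, (deltaL R q).map_zero.trans (funext fun σ => ?_).symm⟩
      exact onSet_range_closed_eq_zero (hc.1 σ) (hc.2 σ) (by omega) (by omega)
    obtain ⟨h, hh, he⟩ := exists_delta_eq_K hp hc.1 hd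
    obtain ⟨q, rfl⟩ : ∃ m, q = m + 1 := ⟨q - 1, by omega⟩
    have hk : delta (fun σ => kap (h σ)) = 0 := funext fun σ => by
      rw [← map_delta, he]
      exact hc.2 σ
    have hkm : (fun σ => kap (h σ)) ∈ Zsub ι R p (q + 1) := by
      refine ⟨fun σ => kap_onSet (hh σ), fun σ => ?_⟩
      cases p with
      | zero => trivial
      | succ p => exact kap_kap _
    obtain ⟨m, hm, hme⟩ := ih (by omega) (by omega) hkm hk
    obtain ⟨q, rfl⟩ : ∃ m, q = m + 1 := ⟨q - 1, by omega⟩
    let l : Coch ι R (p + 1) (q + 1) := fun σ => wedge (σ 0) (m σ)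
    have hl : l ∈ Ksub ι R (p + 1) (q + 1) := fun σ =>
      onSet_wedge (T := Set.range σ) (Set.mem_range_self 0) (hm.1 σ)
    refine ⟨h - delta l, ⟨sub_mem hh (delta_mem_Ksub hl), fun σ => ?_⟩, ?_⟩
    · show kap (h σ - delta l σ) = 0
      rw [map_sub, map_delta, show (fun ρ => kap (l ρ)) = m from funext fun ρ => kap_wedge _ (hm.2 ρ),
        hme, sub_self]
    · rw [show h - delta l = fun σ => h σ - delta l σ from rfl, delta_sub, he]
      funext σ
      rw [delta_delta, sub_zero]

variable (ι R) in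
/-- Cocycles on the diagonal. -/
noncomputable def CZ (p : ℕ) : Submodule R (Coch ι R p (p + 1)) :=
  Zsub ι R p (p + 1) ⊓ LinearMap.ker (deltaL R (p + 1))

variable (ι R) in
/-- The space comparing diagonal cocycles in consecutive degrees. -/
noncomputable def CG (p : ℕ) : Submodule R (Coch ι R (p + 1) (p + 1)) :=
  Ksub ι R (p + 1) (p + 1) ⊓
    LinearMap.ker ((deltaL R (p + 1)).comp (LinearMap.compLeft (kap (ι := ι) (M := R)) _))

/-- The diagonal cocycles form a free module of rank one. -/
theorem nonempty_CZ_equiv [Nonempty ι] : ∀ {p : ℕ}, p < Fintype.card ι →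
    Nonempty (CZ ι R p ≃ₗ[R] R) := by
  intro p
  induction p with
  | zero =>
    intro _
    obtain ⟨i₀⟩ := ‹Nonempty ι›
    refine ⟨LinearEquiv.ofBijective
      { toFun := fun c => c.1 (fun _ => i₀) Fin.elim0
        map_add' := fun a b => rfl
        map_smul' := fun r a => rfl } ⟨?_, fun r => ?_⟩⟩
    · refine (injective_iff_map_eq_zero _).2 fun c hc => Subtype.ext (funext fun σ => ?_)
      ext u
      have h := congrFun (show delta c.1 = 0 from c.2.2) (Fin.cons i₀ σ)
      rw [delta_cons, Pi.zero_apply, sub_eq_zero] at h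
      have e : delta (fun ρ => c.1 (Fin.cons i₀ ρ)) σ = c.1 fun _ => i₀ := by
        refine (Finset.sum_eq_single 0 (fun a _ ha => absurd (Fin.eq_zero a) ha) (by simp)).trans ?_
        rw [Fin.val_zero, pow_zero, one_smul]
        refine congrArg c.1 (funext fun k => ?_)
        refine Fin.cases ?_ (fun b => b.elim0) k
        simp
      rw [h, e, Subsingleton.elim u Fin.elim0]
      exact hc
    · refine ⟨⟨fun _ => AlternatingMap.constOfIsEmpty R (ι → R) (Fin 0) r,
        ⟨fun σ τ k => k.elim0, fun _ => trivial⟩, funext fun τ => ?_⟩, rfl⟩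
      show delta (fun _ => AlternatingMap.constOfIsEmpty R (ι → R) (Fin 0) r) τ = 0
      simp [delta, Fin.sum_univ_two]
  | succ p ih =>
    intro hp
    obtain ⟨e⟩ := ih (by omega)
    have hδ : ∀ h : CG ι R p, delta h.1 ∈ CZ ι R (p + 1) := fun h =>
      ⟨⟨delta_mem_Ksub h.2.1, fun σ => by
        show kap (delta h.1 σ) = 0
        rw [map_delta]
        exact congrFun h.2.2 σ⟩, funext fun τ => delta_delta h.1 τ⟩
    have hκ : ∀ h : CG ι R p, (fun σ => kap (h.1 σ)) ∈ CZ ι R p := fun h =>
      ⟨⟨fun σ => kap_onSet (h.2.1 σ), fun σ => by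
        cases p with
        | zero => trivial
        | succ p => exact kap_kap _⟩, h.2.2⟩
    let f : CG ι R p →ₗ[R] CZ ι R (p + 1) :=
      LinearMap.codRestrict _ ((deltaL R (p + 1)).comp (CG ι R p).subtype) hδ
    let g : CG ι R p →ₗ[R] CZ ι R p :=
      LinearMap.codRestrict _ ((LinearMap.compLeft (kap (ι := ι) (M := R)) _).comp (CG ι R p).subtype) hκ
    have hinjF : ∀ h : Coch ι R (p + 1) (p + 1), h ∈ CG ι R p → delta h = 0 → h = 0 := fun h h2 hh => by
      obtain ⟨h', hh', he⟩ := exists_delta_eq_K hp h2.1 hh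
      refine he.symm.trans ?_
      rw [show h' = 0 from funext fun σ => onSet_range_eq_zero (hh' σ) (by omega)]
      exact (deltaL R p).map_zero
    have hinjG : ∀ h : Coch ι R (p + 1) (p + 1), h ∈ CG ι R p → (∀ σ, kap (h σ) = 0) → h = 0 :=
      fun h h2 hh => funext fun σ =>
        onSet_range_closed_eq_zero (h2.1 σ) (hh σ) (by omega) le_rfl
    have hf : Function.Bijective f := by
      refine ⟨fun a b hab => Subtype.ext (sub_eq_zero.1 (hinjF _ (sub_mem a.2 b.2)
        (((deltaL R (p + 1)).map_sub a.1 b.1).trans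
          (sub_eq_zero.2 (congrArg Subtype.val hab))))), fun c => ?_⟩
      obtain ⟨h, hh, he⟩ := exists_delta_eq_K hp c.2.1.1 c.2.2
      refine ⟨⟨h, hh, funext fun σ => ?_⟩, Subtype.ext he⟩
      show delta (fun σ => kap (h σ)) σ = 0
      rw [← map_delta, he]
      exact c.2.1.2 σ
    have hg : Function.Bijective g := by
      refine ⟨fun a b hab => Subtype.ext (sub_eq_zero.1 (hinjG _ (sub_mem a.2 b.2) fun σ =>
        (LinearMap.map_sub kap (a.1 σ) (b.1 σ)).trans
          (sub_eq_zero.2 (congrFun (congrArg Subtype.val hab) σ)))), fun m => ?_⟩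
      have hm : (fun σ => kap (wedge (σ 0) (m.1 σ))) = m.1 :=
          funext fun σ => kap_wedge _ (m.2.1.2 σ)
      exact ⟨⟨fun σ => wedge (σ 0) (m.1 σ), fun σ =>
          onSet_wedge (T := Set.range σ) (Set.mem_range_self 0) (m.2.1.1 σ),
          (congrArg delta hm).trans m.2.2⟩, Subtype.ext hm⟩
    exact ⟨((LinearEquiv.ofBijective f hf).symm.trans (LinearEquiv.ofBijective g hg)).trans e⟩

/-! ## Laurent coefficients -/

/-- The allowed exponents of the coordinate `τ` over `T`. -/
def suppW {p : ℕ} (T : Set ι) (τ : Fin p → ι) : Set (Expo ι) :=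
  {e | e ∈ supp T ∧ ∀ k, τ k ∉ T → 0 < e (τ k)}

variable (R) in
/-- Forms over the open with denominators on `T`. -/
noncomputable def Wsub (T : Set ι) (p : ℕ) : Submodule R (Alt ι R (Laur ι R) p) where
  carrier := {ω | Closed ω ∧
    ∀ τ, ω (bvec R τ) ∈ AddMonoidAlgebra.supported R R (suppW T τ)}
  add_mem' {a b} ha hb := ⟨ha.1.add hb.1, fun τ => add_mem (ha.2 τ) (hb.2 τ)⟩
  zero_mem' := ⟨closed_zero, fun _ => zero_mem _⟩
  smul_mem' r a ha := ⟨ha.1.smul r, fun τ => Submodule.smul_mem _ r (ha.2 τ)⟩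

variable (ι R) in
/-- Cochains of forms. -/
abbrev LCoch (p q : ℕ) : Type u := (Fin q → ι) → Alt ι R (Laur ι R) p

/-- The cochains with the allowed supports. -/
def IsW {p q : ℕ} (c : LCoch ι R p q) : Prop := ∀ σ, c σ ∈ Wsub R (Set.range σ) p

omit [Fintype ι] in
theorem IsW.delta {p q : ℕ} [Finite ι] {c : LCoch ι R p q} (hc : IsW c) :
    IsW (Groth.Agent.QCoh.Ab.delta c) := fun σ => by
  have := Fintype.ofFinite ι
  refine Submodule.sum_mem _ fun a _ => zsmul_mem ?_ _
  obtain ⟨h1, h2⟩ := hc fun b => σ (a.succAbove b)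
  refine ⟨h1, fun τ => AddMonoidAlgebra.supported_mono ?_ (h2 τ)⟩
  have hsub : Set.range (fun b => σ (a.succAbove b)) ⊆ Set.range σ :=
    Set.range_comp_subset_range _ σ
  exact fun e he => ⟨⟨he.1.1, fun i hi => hsub (he.1.2 i hi)⟩,
    fun k hk => he.2 k fun h => hk (hsub h)⟩

/-- The constant coefficient. -/
noncomputable def coeff0 : Laur ι R →ₗ[R] R where
  toFun p := p.coeff 0
  map_add' a b := rfl
  map_smul' r a := rfl

/-- A constant. -/
noncomputable def const0 : R →ₗ[R] Laur ι R where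
  toFun r := AddMonoidAlgebra.single 0 r
  map_add' a b := AddMonoidAlgebra.single_add ..
  map_smul' r a := by simp [AddMonoidAlgebra.smul_single]

theorem coeff0_const0 (r : R) : coeff0 (const0 (ι := ι) r) = r := by
  show (AddMonoidAlgebra.single (0 : Expo ι) r).coeff 0 = r
  simp

theorem coeff0_mem {p q : ℕ} {c : LCoch ι R p q} (hc : IsW c) :
    (fun σ => coeff0.compAlternatingMap (c σ)) ∈ Zsub ι R p q :=
  ⟨fun σ τ k hk => by
    refine AddMonoidAlgebra.mem_supported'.1 ((hc σ).2 τ) 0 fun h => ?_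
    simpa using h.2 k hk, fun σ => (hc σ).1.comp _⟩

theorem const0_isW {p q : ℕ} {h : Coch ι R p q} (hh : h ∈ Zsub ι R p q) :
    IsW (fun σ => const0.compAlternatingMap (h σ)) := fun σ =>
  ⟨(hh.2 σ).comp _, fun τ => by
    classical
    refine AddMonoidAlgebra.mem_supported'.2 fun e he => ?_
    show (AddMonoidAlgebra.single 0 (h σ (bvec R τ))).coeff e = 0
    rw [AddMonoidAlgebra.coeff_single, Finsupp.single_apply]
    split_ifs with h0
    · subst h0
      obtain ⟨k, hk⟩ : ∃ k, τ k ∉ Set.range σ := by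
        by_contra hall
        push Not at hall
        exact he ⟨⟨Finsupp.sum_zero_index, fun i hi => absurd hi (by simp)⟩,
          fun k hk => absurd (hall k) hk⟩
      exact hh.1 σ τ k hk
    · rfl⟩

/-- A coordinate with positive exponent. -/
noncomputable def posIdx [Nonempty ι] (e : Expo ι) : ι :=
  open Classical in if h : ∃ i, 0 < e i then h.choose else Classical.arbitrary ι

theorem posIdx_pos [Nonempty ι] {e : Expo ι} (he : e.sum (fun _ z => z) = 0) (hne : e ≠ 0) :
    0 < e (posIdx e) := by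
  have h : ∃ i, 0 < e i := by
    by_contra h
    push Not at h
    have h1 : ∑ i, e i = 0 := (Finsupp.sum_fintype _ _ (fun _ => rfl)).symm.trans he
    exact hne (Finsupp.ext fun i =>
      (Finset.sum_eq_zero_iff_of_nonpos fun j _ => h j).1 h1 i (Finset.mem_univ i))
  rw [posIdx, dif_pos h]
  exact h.choose_spec

/-- The part with given positive coordinate. -/
noncomputable def posPart [Nonempty ι] (i : ι) : Laur ι R →ₗ[R] Laur ι R :=
  open Classical in
  { toFun := fun p => .ofCoeff (p.coeff.filter fun e => e ≠ 0 ∧ posIdx e = i)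
    map_add' := fun a b => by ext e; simp [Finsupp.filter_apply]
    map_smul' := fun r a => by ext e; simp [Finsupp.filter_apply] }

theorem posPart_coeff [Nonempty ι] (i : ι) (p : Laur ι R) (e : Expo ι) [DecidableEq ι] :
    (posPart i p).coeff e = if e ≠ 0 ∧ posIdx e = i then p.coeff e else 0 := by
  classical
  simp [posPart, Finsupp.filter_apply]

/-- Forms without constant coefficient are exact. -/
theorem exists_delta_eq_of_coeff0 [Nonempty ι] {p q : ℕ} {c : LCoch ι R p (q + 1)} (hc : IsW c)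
    (hd : delta c = 0) (h0 : ∀ σ, coeff0.compAlternatingMap (c σ) = 0) :
    ∃ h : LCoch ι R p q, IsW h ∧ delta h = c := by
  classical
  refine ⟨fun σ => ∑ i, (posPart i).compAlternatingMap (c (Fin.cons i σ)), fun σ => ?_, ?_⟩
  · refine Submodule.sum_mem _ fun i _ => ?_
    obtain ⟨h1, h2⟩ := hc (Fin.cons i σ)
    refine ⟨h1.comp _, fun τ => AddMonoidAlgebra.mem_supported'.2 fun e he => ?_⟩
    show (posPart i (c (Fin.cons i σ) (bvec R τ))).coeff e = 0
    rw [posPart_coeff]
    split_ifs with hi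
    · by_contra hne
      have hs := AddMonoidAlgebra.mem_supported.1 (h2 τ) (Finsupp.mem_support_iff.2 hne)
      have hpos := posIdx_pos hs.1.1 hi.1
      rw [hi.2] at hpos
      refine he ⟨⟨hs.1.1, fun l hl => ?_⟩, fun k hk => ?_⟩
      · obtain ⟨a, ha⟩ := hs.1.2 l hl
        revert ha
        refine Fin.cases (fun h => ?_) (fun b hb => ⟨b, by simpa using hb⟩) a
        simp only [Fin.cons_zero] at h
        subst h
        omega
      · by_cases hki : τ k = i
        · rwa [hki]
        · refine hs.2 k fun ⟨a, ha⟩ => ?_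
          revert ha
          refine Fin.cases (fun h => hki ?_) (fun b hb => hk ⟨b, by simpa using hb⟩) a
          simpa using h.symm
    · rfl
  · funext σ
    have key : ∀ i, c σ = delta (fun ρ => c (Fin.cons i ρ)) σ := fun i => by
      have := congrFun hd (Fin.cons i σ)
      rwa [delta_cons, Pi.zero_apply, sub_eq_zero] at this
    have e1 : ∀ i, (posPart i).compAlternatingMap (c σ) =
        delta (fun ρ => (posPart i).compAlternatingMap (c (Fin.cons i ρ))) σ := fun i => by
      conv_lhs => rw [key i]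
      exact map_delta ((posPart (R := R) i).compAlternatingMapₗ R) _ σ
    have e2 : delta (fun ρ => ∑ i, (posPart i).compAlternatingMap (c (Fin.cons i ρ))) σ =
        ∑ i, (posPart i).compAlternatingMap (c σ) := by
      simp only [e1, delta, Finset.smul_sum]
      exact Finset.sum_comm
    rw [e2]
    ext u e
    simp only [alt_sum_apply, LinearMap.compAlternatingMap_apply,
      AddMonoidAlgebra.coeff_sum, Finsupp.finsetSum_apply, posPart_coeff]
    by_cases he : e = 0
    · subst he
      have := congr($(h0 σ) u)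
      rw [Finset.sum_eq_zero fun i _ => if_neg (by simp)]
      exact this.symm
    · simp [he]

theorem delta_coeff0 {p q : ℕ} (c : LCoch ι R p q) :
    delta (fun σ => coeff0.compAlternatingMap (c σ)) =
      fun σ => coeff0.compAlternatingMap (delta c σ) :=
  funext fun σ => (map_delta ((coeff0 (ι := ι) (R := R)).compAlternatingMapₗ R) c σ).symm

/-- Forms are exact away from the diagonal. -/
theorem exists_delta_eq_W [Nonempty ι] {p q : ℕ} (hpq : p ≠ q ∨ Fintype.card ι ≤ p)
    {c : LCoch ι R p (q + 1)} (hc : IsW c) (hd : delta c = 0) :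
    ∃ h : LCoch ι R p q, IsW h ∧ delta h = c := by
  by_cases hp : p < Fintype.card ι
  swap
  · refine ⟨0, fun σ => zero_mem _, (deltaL R q).map_zero.trans (funext fun σ => ?_).symm⟩
    obtain ⟨j⟩ := ‹Nonempty ι›
    refine eq_zero_of_avoid (hc σ).1 j fun τ hτ => bvec_apply_of_not_injective _ fun hinj => ?_
    have := Fintype.card_lt_of_injective_not_surjective τ hinj fun hs => by
      obtain ⟨k, hk⟩ := hs j
      exact hτ k hk
    simp at this
    omega
  have hz : delta (fun σ => coeff0.compAlternatingMap (c σ)) = 0 := by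
    rw [delta_coeff0]
    simp [hd]
    rfl
  obtain ⟨h, hh, he⟩ := exists_delta_eq_Z hp (hpq.resolve_right (by omega)) (coeff0_mem hc) hz
  let h₀ : LCoch ι R p q := fun σ => const0.compAlternatingMap (h σ)
  have hd₁ : delta (c - delta h₀) = 0 := funext fun τ => by
    rw [show c - delta h₀ = fun σ => c σ - delta h₀ σ from rfl, delta_sub]
    simp [hd, delta_delta]
  obtain ⟨k, hk, hke⟩ := exists_delta_eq_of_coeff0
    (fun σ => sub_mem (hc σ) ((const0_isW hh).delta σ)) hd₁ fun σ => by
      have e : delta h₀ σ = const0.compAlternatingMap (delta h σ) :=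
        (map_delta ((const0 (ι := ι) (R := R)).compAlternatingMapₗ R) h σ).symm
      show coeff0.compAlternatingMap (c σ - delta h₀ σ) = 0
      rw [e, he]
      ext u
      show coeff0 (c σ u - const0 (coeff0 (c σ u))) = 0
      rw [map_sub, coeff0_const0, sub_self]
  refine ⟨k + h₀, fun σ => add_mem (hk σ) (const0_isW hh σ), ?_⟩
  rw [show delta (k + h₀) = delta k + delta h₀ from (deltaL R q).map_add k h₀, hke]
  exact sub_add_cancel c (delta h₀)

variable (ι R) in
/-- Diagonal cocycles of forms. -/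
noncomputable def CW (p : ℕ) : Submodule R (LCoch ι R p (p + 1)) :=
  (Submodule.pi Set.univ fun σ => Wsub R (Set.range σ) p) ⊓ LinearMap.ker (deltaL R (p + 1))

omit [Fintype ι] in
/-- Cochains without indices are constant. -/
theorem eq_zero_of_coeff0 [Finite ι] {p : ℕ} {h : LCoch ι R p 0} (hh : IsW h)
    (h0 : ∀ σ, coeff0.compAlternatingMap (h σ) = 0) : h = 0 := by
  have := Fintype.ofFinite ι
  funext σ
  refine alt_ext fun t => AddMonoidAlgebra.ext (Finsupp.ext fun e => ?_)
  by_contra hne
  simp only [Pi.zero_apply, AlternatingMap.zero_apply, AddMonoidAlgebra.coeff_zero,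
    Finsupp.coe_zero] at hne
  have hmem := AddMonoidAlgebra.mem_supported.1 ((hh σ).2 t) (Finsupp.mem_support_iff.2 hne)
  have hnn : ∀ i, 0 ≤ e i := fun i => by
    by_contra hi
    obtain ⟨a, _⟩ := hmem.1.2 i (not_le.1 hi)
    exact a.elim0
  obtain rfl : e = 0 := Finsupp.ext fun i => (Finset.sum_eq_zero_iff_of_nonneg fun j _ => hnn j).1
    ((Finsupp.sum_fintype _ _ (fun _ => rfl)).symm.trans hmem.1.1) i (Finset.mem_univ i)
  exact hne congr($(h0 σ) (bvec R t))

/-- Off the diagonal there are no cocycles in degree zero. -/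
theorem eq_zero_W [Nonempty ι] {p : ℕ} (hp : 0 < p) {c : LCoch ι R p 1} (hc : IsW c)
    (hd : delta c = 0) : c = 0 := by
  obtain ⟨h, hh, he⟩ := exists_delta_eq_W (Or.inl (by omega : p ≠ 0)) hc hd
  rw [← he, eq_zero_of_coeff0 hh fun σ => onSet_range_eq_zero ((coeff0_mem hh).1 σ) hp]
  exact (deltaL R 0).map_zero

/-- The cohomology of forms on the diagonal. -/
theorem exists_CW_map [Nonempty ι] {p : ℕ} (hp : p < Fintype.card ι) :
    ∃ Θ : CW ι R p →ₗ[R] R, Function.Surjective Θ ∧
      (p = 0 → Function.Injective Θ) ∧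
      (0 < p → ∀ c : CW ι R p, Θ c = 0 ↔ ∃ h : LCoch ι R p p, IsW h ∧ delta h = c.1) := by
  obtain ⟨e⟩ := nonempty_CZ_equiv (R := R) hp
  have hW : ∀ c : CW ι R p, IsW c.1 := fun c σ => c.2.1 σ trivial
  have hz : ∀ c : CW ι R p, (fun σ => coeff0.compAlternatingMap (c.1 σ)) ∈ CZ ι R p := fun c =>
    ⟨coeff0_mem (hW c), (delta_coeff0 c.1).trans (funext fun σ => by
      rw [show delta c.1 = 0 from c.2.2]; ext u; rfl)⟩
  let π : CW ι R p →ₗ[R] CZ ι R p := LinearMap.codRestrict _
    ((LinearMap.compLeft ((coeff0 (ι := ι) (R := R)).compAlternatingMapₗ R) _).comp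
      (CW ι R p).subtype) hz
  have hπ : Function.Surjective π := fun z =>
    ⟨⟨fun σ => const0.compAlternatingMap (z.1 σ), fun σ _ => const0_isW z.2.1 σ,
      funext fun σ => by
        show delta (fun σ => const0.compAlternatingMap (z.1 σ)) σ = 0
        refine (map_delta ((const0 (ι := ι) (R := R)).compAlternatingMapₗ R) z.1 σ).symm.trans ?_
        rw [show delta z.1 = 0 from z.2.2]
        exact map_zero _⟩, Subtype.ext (funext fun σ => by
          show coeff0.compAlternatingMap (const0.compAlternatingMap (z.1 σ)) = z.1 σ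
          ext u
          exact coeff0_const0 _)⟩
  have hker : ∀ c, π c = 0 → ∃ h : LCoch ι R p p, IsW h ∧ delta h = c.1 := fun c hc =>
    exists_delta_eq_of_coeff0 (hW c) c.2.2 fun σ => congrFun (congrArg Subtype.val hc) σ
  refine ⟨e.toLinearMap.comp π, e.surjective.comp hπ, fun hp0 => ?_, fun hp0 c => ?_⟩
  · subst hp0
    refine (injective_iff_map_eq_zero _).2 fun c hc => Subtype.ext ?_
    replace hc : π c = 0 := e.map_eq_zero_iff.1 hc
    obtain ⟨h, hh, he⟩ := hker c hc
    have h0 : ∀ σ, coeff0.compAlternatingMap (h σ) = 0 := fun σ => by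
      have h1 := congrFun (congrArg Subtype.val hc) (fun _ => Classical.arbitrary ι)
      change coeff0.compAlternatingMap (c.1 _) = 0 at h1
      rw [← he] at h1
      simpa [delta, Subsingleton.elim (α := Fin 0 → ι) _ σ] using h1
    rw [← he, eq_zero_of_coeff0 hh h0]
    exact (deltaL R 0).map_zero
  · rw [LinearMap.comp_apply, LinearEquiv.coe_coe, LinearEquiv.map_eq_zero_iff]
    refine ⟨hker c, fun ⟨h, hh, he⟩ => Subtype.ext ?_⟩
    show (fun σ => coeff0.compAlternatingMap (c.1 σ)) = 0
    rw [← he, ← delta_coeff0]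
    funext σ
    refine Finset.sum_eq_zero fun a _ => ?_
    rw [onSet_range_closed_eq_zero ((coeff0_mem hh).1 _) ((coeff0_mem hh).2 _) hp0 le_rfl,
      smul_zero]

end Groth.Agent.DRHyp.PnForms
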