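import Groth.Agent.DRHyp.PnSections
import Groth.Agent.PnCoh.CechNat
import Groth.Agent.QCoh.Bound

/-!
# Hodge cohomology of projective space
-/

set_option autoImplicit false

universe u

open CategoryTheory AlgebraicGeometry MvPolynomial Opposite TopologicalSpace
open Groth.Agent.PnCoh Groth.Agent.DRHyp.PnForms Groth.Agent.QCoh.Ab

namespace Groth.Agent.DRHyp.PnHodge

attribute [local instance] MvPolynomial.gradedAlgebra

variable {ι : Type} [Fintype ι] [LinearOrder ι] {R : Type u} [CommRing R]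
  [QuasiSeparated (toSpecR ι R)] {p : ℕ} {L : (PS ι R).Modules}
  (φ : Charts (toSpecR ι R) p L)

/-- Cochains on the standard cover. -/
abbrev FCoch (L : (PS ι R).Modules) (q : ℕ) : Type u :=
  Cochain (X := (PS ι R).toPresheafedSpace.carrier) L.presheaf (stdU ι R) q

/-- A cochain in coordinates. -/
noncomputable def cochainF {q : ℕ} (c : FCoch L (q + 1)) (σ : Fin (q + 1) → ι) :
    Alt ι R (Laur ι R) p :=
  secF φ (tupExp σ) (tupExp_ne_zero σ)
    (c (fun a => ⟨σ a⟩) ⟨tupOpen fun a => ⟨σ a⟩, tupOpen_le _⟩ : Γ(L, mOpen R (tupExp σ)))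

theorem cochainF_isW {q : ℕ} (c : FCoch L (q + 1)) : IsW (cochainF φ c) := fun σ => by
  rw [← support_tupExp σ]
  exact (secF_bijOn φ (tupExp σ) (tupExp_ne_zero σ)).2.1 _

variable (hφ : Compat φ)

include hφ in
theorem cochainF_d {q : ℕ} (c : FCoch L (q + 1)) (hc : IsNatural c) (τ : Fin (q + 2) → ι) :
    cochainF φ (Groth.Agent.QCoh.Ab.d c) τ = delta (cochainF φ c) τ := by
  refine (map_sum (secF φ (tupExp τ) (tupExp_ne_zero τ)) _ _).trans
    (Finset.sum_congr rfl fun a _ => ?_)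
  refine (map_zsmul _ _ _).trans (congrArg _ ?_)
  have hle : tupOpen (R := R) (fun b => (⟨τ b⟩ : ULift.{u} ι)) ≤
      tupOpen (fun b => (⟨τ (a.succAbove b)⟩ : ULift.{u} ι)) :=
    le_tupOpen fun b => tupOpen_le _ (a.succAbove b)
  refine (congrArg (secF φ (tupExp τ) (tupExp_ne_zero τ))
    (hc (fun b => (⟨τ (a.succAbove b)⟩ : ULift.{u} ι)) _ (tupOpen fun b => (⟨τ b⟩ : ULift.{u} ι))
      (tupOpen_le _) _ (homOfLE hle)).symm).trans ?_
  exact secF_res φ hφ (Finsupp.single (τ a) 1) (tupExp_succAbove τ a) _ _ _ _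

include hφ in
theorem delta_cochainF_eq_zero {q : ℕ} (c : FCoch L (q + 1)) (hc : IsNatural c)
    (hd : Groth.Agent.QCoh.Ab.d c = 0) : delta (cochainF φ c) = 0 := funext fun τ => by
  rw [← cochainF_d φ hφ c hc τ]
  refine (congrArg (secF φ (tupExp τ) (tupExp_ne_zero τ)) ?_).trans (map_zero _)
  exact congrFun (congrFun hd _) _

theorem natural_ext {q : ℕ} {c c' : FCoch L (q + 1)} (hc : IsNatural c) (hc' : IsNatural c')
    (h : cochainF φ c = cochainF φ c') : c = c' := by
  funext σ W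
  rw [← hc σ (tupOpen σ) W.1 (tupOpen_le σ) W.2 (homOfLE (le_tupOpen W.2)),
    ← hc' σ (tupOpen σ) W.1 (tupOpen_le σ) W.2 (homOfLE (le_tupOpen W.2))]
  refine congrArg _ ?_
  exact (secF_bijOn φ (tupExp fun a => (σ a).down) (tupExp_ne_zero _)).1
    (congrFun h fun a => (σ a).down)

theorem cochainF_zero {q : ℕ} : cochainF φ (0 : FCoch L (q + 1)) = 0 :=
  funext fun σ => map_zero (secF φ (tupExp σ) (tupExp_ne_zero σ))

theorem exists_natural_cochain {q : ℕ} {h : LCoch ι R p (q + 1)} (hs : IsW h) :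
    ∃ k : FCoch L (q + 1), IsNatural k ∧ cochainF φ k = h := by
  have hsec : ∀ σ : Fin (q + 1) → ι, ∃ x, secF φ (tupExp σ) (tupExp_ne_zero σ) x = h σ := fun σ =>
    (secF_bijOn φ (tupExp σ) (tupExp_ne_zero σ)).2.2 _ (by rw [support_tupExp σ]; exact hs σ)
  choose x hx using hsec
  refine ⟨fun σ W => L.presheaf.map (homOfLE (le_tupOpen W.2)).op (x fun a => (σ a).down : _),
    fun σ W W' hW hW' i => map_map'' _ _ _ _ _, funext fun σ => ?_⟩
  rw [← hx σ]
  exact congrArg (secF φ (tupExp σ) (tupExp_ne_zero σ)) (map_self _ _ _)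

include φ hφ in
/-- The complex of natural cochains is exact off the diagonal. -/
theorem natCx_exactAt [Nonempty ι] (q : ℕ) (hpq : p ≠ q ∨ Fintype.card ι ≤ p) :
    Limits.IsZero ((natCx (X := (PS ι R).toPresheafedSpace.carrier) L.presheaf
      (stdU ι R)).homology q) := by
  let K := natCx (X := (PS ι R).toPresheafedSpace.carrier) L.presheaf (stdU ι R)
  suffices h : Subsingleton ↥(K.homology q) from AddCommGrpCat.isZero_of_subsingleton _
  refine subsingleton_of_forall_eq 0 fun y => ?_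
  obtain ⟨x, rfl⟩ := (AddCommGrpCat.epi_iff_surjective (K.homologyπ q)).1 inferInstance y
  let c := (K.iCycles q x : natCochains _ _ (q + 1)).1
  have hcn : IsNatural c := (K.iCycles q x : natCochains _ _ (q + 1)).2
  have hcd : Groth.Agent.QCoh.Ab.d c = 0 := by
    have e := ConcreteCategory.congr_hom (K.iCycles_d q (q + 1)) x
    rw [natCx_d] at e
    exact congrArg Subtype.val e
  cases q with
  | zero =>
    have hp : 0 < p := by
      have := Fintype.card_pos (α := ι)
      omega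
    have hc0 : c = 0 := natural_ext φ hcn (natCochains _ _ _).zero_mem
      ((eq_zero_W hp (cochainF_isW φ c) (delta_cochainF_eq_zero φ hφ c hcn hcd)).trans
        (cochainF_zero φ).symm)
    have hx : x = 0 := by
      apply (AddCommGrpCat.mono_iff_injective (K.iCycles 0)).1 inferInstance
      rw [map_zero]
      exact Subtype.ext hc0
    rw [hx, map_zero]
  | succ q =>
    obtain ⟨h, hh, he⟩ := exists_delta_eq_W hpq (cochainF_isW φ c)
      (delta_cochainF_eq_zero φ hφ c hcn hcd)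
    obtain ⟨b, hb, hbh⟩ := exists_natural_cochain φ hh
    have hbd : Groth.Agent.QCoh.Ab.d b = c := natural_ext φ (d_natural hb) hcn (funext fun σ => by
      rw [cochainF_d φ hφ b hb, hbh, he])
    have hx : x = K.toCycles q (q + 1) (⟨b, hb⟩ : natCochains _ _ (q + 1)) := by
      apply (AddCommGrpCat.mono_iff_injective (K.iCycles (q + 1))).1 inferInstance
      refine Eq.trans (?_ : _ = natD _ _ q (⟨b, hb⟩ : natCochains _ _ (q + 1)))
        (ConcreteCategory.congr_hom ((K.toCycles_i q (q + 1)).trans (natCx_d _ _ q)) _).symm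
      exact Subtype.ext hbd.symm
    refine (congrArg _ hx).trans ?_
    exact ConcreteCategory.congr_hom (K.toCycles_comp_homologyπ q (q + 1)) _

include φ hφ in
/-- Hodge cohomology of projective space vanishes off the diagonal. -/
theorem subsingleton_HH [Nonempty ι] (hM : Coh.IsQCoh L) (q : ℕ)
    (hpq : p ≠ q ∨ Fintype.card ι ≤ p) : Subsingleton (Coh.HH (PS ι R) L q) := by
  obtain ⟨e⟩ := QCoh.cechH_equiv_HH (stdU ι R) iSup_stdU isAffineOpen_tuple hM q
  have h' : Limits.IsZero (((cechComplexFunctor (stdU ι R)).obj L.presheaf).homology q) :=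
    Limits.IsZero.of_iso (natCx_exactAt φ hφ q hpq)
      (HomologicalComplex.homologyMapIso (cechIso _ _) q).symm
  have : Subsingleton ↑(CohB1.cechH (stdU ι R) L q) := AddCommGrpCat.subsingleton_of_isZero h'
  exact e.symm.subsingleton

variable (L) in
/-- The complex of natural cochains. -/
noncomputable abbrev FCx : CochainComplex AddCommGrpCat.{u} ℕ :=
  natCx (X := (PS ι R).toPresheafedSpace.carrier) L.presheaf (stdU ι R)

/-- The cochain of a cycle. -/
noncomputable def cycVal (q : ℕ) (x : (FCx L).cycles q) : natCochains L.presheaf (stdU ι R) (q + 1) :=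
  (FCx L).iCycles q x

theorem cycVal_add (q : ℕ) (a b : (FCx L).cycles q) :
    cycVal q (a + b) = cycVal q a + cycVal q b :=
  map_add ((FCx L).iCycles q).hom a b

theorem d_cycVal (q : ℕ) (x : (FCx L).cycles q) : Groth.Agent.QCoh.Ab.d (cycVal q x).1 = 0 := by
  have e := ConcreteCategory.congr_hom ((FCx L).iCycles_d q (q + 1)) x
  rw [natCx_d] at e
  exact congrArg Subtype.val e

theorem cycVal_injective (q : ℕ) : Function.Injective (cycVal (L := L) q) :=
  (AddCommGrpCat.mono_iff_injective ((FCx L).iCycles q)).1 inferInstance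

theorem cycVal_toCycles (q : ℕ) (b : natCochains L.presheaf (stdU ι R) (q + 1)) :
    (cycVal (q + 1) ((FCx L).toCycles q (q + 1) b)).1 = Groth.Agent.QCoh.Ab.d b.1 :=
  congrArg Subtype.val
    (ConcreteCategory.congr_hom (((FCx L).toCycles_i q (q + 1)).trans (natCx_d _ _ q)) b)

theorem cochainF_add {q : ℕ} (c c' : natCochains L.presheaf (stdU ι R) (q + 1)) :
    cochainF φ (c + c').1 = cochainF φ c.1 + cochainF φ c'.1 :=
  funext fun σ => map_add (secF φ (tupExp σ) (tupExp_ne_zero σ)) _ _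

include hφ in
theorem cycle_mem_CW (x : (FCx L).cycles p) : cochainF φ (cycVal p x).1 ∈ CW ι R p :=
  ⟨fun σ _ => cochainF_isW φ _ σ,
    delta_cochainF_eq_zero φ hφ _ (cycVal p x).2 (d_cycVal p x)⟩

/-- The class of a cycle. -/
noncomputable def botF (Θ : CW ι R p →ₗ[R] R) : (FCx L).cycles p →+ R :=
  AddMonoidHom.mk' (fun x => Θ ⟨_, cycle_mem_CW φ hφ x⟩) fun a b => by
    rw [← map_add Θ]
    exact congrArg Θ (Subtype.ext
      ((congrArg (fun t : natCochains L.presheaf (stdU ι R) (p + 1) => cochainF φ t.1)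
        (cycVal_add p a b)).trans (cochainF_add φ _ _)))

theorem botF_apply (Θ : CW ι R p →ₗ[R] R) (x : (FCx L).cycles p) :
    botF φ hφ Θ x = Θ ⟨_, cycle_mem_CW φ hφ x⟩ := rfl

theorem botF_surjective (Θ : CW ι R p →ₗ[R] R) (hΘ : Function.Surjective Θ) :
    Function.Surjective (botF φ hφ Θ) := fun r => by
  obtain ⟨z, hz⟩ := hΘ r
  obtain ⟨c, hc, hcc⟩ := exists_natural_cochain φ (fun σ => z.2.1 σ trivial)
  have hd : Groth.Agent.QCoh.Ab.d c = 0 := by
    refine natural_ext φ (d_natural hc) (natCochains _ _ _).zero_mem ?_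
    rw [cochainF_zero]
    refine funext fun σ => ?_
    rw [cochainF_d φ hφ c hc, hcc]
    exact congrFun z.2.2 σ
  have hcd : (FCx L).d p (p + 1) (⟨c, hc⟩ : natCochains _ _ (p + 1)) = 0 := by
    rw [natCx_d]
    exact Subtype.ext hd
  have hex : (ShortComplex.mk ((FCx L).iCycles p) ((FCx L).d p (p + 1)) (by simp)).Exact :=
    ShortComplex.exact_of_f_is_kernel _ ((FCx L).cyclesIsKernel p (p + 1) (by simp))
  obtain ⟨x, hx⟩ :=
    (ShortComplex.ab_exact_iff _).1 hex (⟨c, hc⟩ : natCochains _ _ (p + 1)) hcd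
  refine ⟨x, Eq.trans ((botF_apply φ hφ Θ x).trans (congrArg Θ (Subtype.ext ?_))) hz⟩
  have hx' : (cycVal p x).1 = c := congrArg Subtype.val hx
  show cochainF φ (cycVal p x).1 = z.1
  rw [hx', hcc]

theorem botF_eq_zero_iff (Θ : CW ι R p →ₗ[R] R) (h0' : p = 0 → Function.Injective Θ)
    (h1' : 0 < p → ∀ c : CW ι R p, Θ c = 0 ↔ ∃ h : LCoch ι R p p, IsW h ∧ delta h = c.1)
    (x : (FCx L).cycles p) : (FCx L).homologyπ p x = 0 ↔ botF φ hφ Θ x = 0 := by
  rcases Nat.eq_zero_or_pos p with h0 | h0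
  · subst h0
    have : IsIso ((FCx L).homologyπ 0) := CochainComplex.isIso_homologyπ₀ (FCx L)
    rw [map_eq_zero_iff _ (ConcreteCategory.bijective_of_isIso ((FCx L).homologyπ 0)).1]
    refine ⟨fun h => by rw [h, map_zero], fun h => ?_⟩
    apply cycVal_injective 0
    refine Subtype.ext (natural_ext φ (cycVal 0 x).2 (cycVal 0 0).2 ?_)
    have h' : (⟨_, cycle_mem_CW φ hφ x⟩ : CW ι R 0) = ⟨_, cycle_mem_CW φ hφ (0 : (FCx L).cycles 0)⟩ :=
      h0' rfl (h.trans (map_zero (botF φ hφ Θ)).symm)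
    exact congrArg Subtype.val h'
  obtain ⟨q, rfl⟩ : ∃ q, p = q + 1 := ⟨p - 1, by omega⟩
  refine Iff.trans ?_ (h1' h0 ⟨_, cycle_mem_CW φ hφ x⟩).symm
  have hex : (ShortComplex.mk ((FCx L).toCycles q (q + 1)) ((FCx L).homologyπ (q + 1))
      (by simp)).Exact :=
    ShortComplex.exact_of_g_is_cokernel _ ((FCx L).homologyIsCokernel q (q + 1) (by simp))
  constructor
  · intro h
    obtain ⟨b, hb⟩ := (ShortComplex.ab_exact_iff _).1 hex x h
    refine ⟨cochainF φ (b : natCochains _ _ (q + 1)).1, cochainF_isW φ _, funext fun σ => ?_⟩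
    rw [← cochainF_d φ hφ _ (b : natCochains _ _ (q + 1)).2]
    have h2 : (cycVal (q + 1) ((FCx L).toCycles q (q + 1) b)).1 = (cycVal (q + 1) x).1 :=
      congrArg (fun y => (cycVal (L := L) (q + 1) y).1) hb
    exact congrArg (fun c => cochainF φ c σ) ((cycVal_toCycles q b).symm.trans h2)
  · rintro ⟨h, hh, he⟩
    obtain ⟨b, hb, hbh⟩ := exists_natural_cochain φ hh
    have hbd : Groth.Agent.QCoh.Ab.d b = (cycVal (q + 1) x).1 :=
      natural_ext φ (d_natural hb) (cycVal (q + 1) x).2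
        (funext fun σ => by rw [cochainF_d φ hφ b hb, hbh, he])
    have hx : x = (FCx L).toCycles q (q + 1) (⟨b, hb⟩ : natCochains _ _ (q + 1)) := by
      apply (AddCommGrpCat.mono_iff_injective ((FCx L).iCycles (q + 1))).1 inferInstance
      refine Eq.trans (?_ : _ = natD _ _ q (⟨b, hb⟩ : natCochains _ _ (q + 1)))
        (ConcreteCategory.congr_hom (((FCx L).toCycles_i q (q + 1)).trans (natCx_d _ _ q)) _).symm
      exact Subtype.ext hbd.symm
    refine (congrArg _ hx).trans ?_
    exact ConcreteCategory.congr_hom ((FCx L).toCycles_comp_homologyπ q (q + 1)) _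

/-- Multiplication by a constant on sections. -/
noncomputable def smulL (r : R) : L.presheaf ⟶ L.presheaf :=
  (Coh.smulAb L (constTop ι r)).hom

theorem cochainF_push {q : ℕ} (r : R) (c : FCoch L (q + 1)) :
    cochainF φ (push (smulL (L := L) r) c) = r • cochainF φ c :=
  funext fun σ => secF_smulAb φ (tupExp σ) (tupExp_ne_zero σ) r _

theorem cycVal_map (q : ℕ) (r : R) (x : (FCx L).cycles q) :
    (cycVal q (HomologicalComplex.cyclesMap (natCxMap (stdU ι R) (smulL (L := L) r)) q x)).1 =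
      push (smulL (L := L) r) (cycVal q x).1 :=
  congrArg Subtype.val (ConcreteCategory.congr_hom
    (HomologicalComplex.cyclesMap_i (natCxMap (stdU ι R) (smulL (L := L) r)) q) x)

theorem botF_smul (Θ : CW ι R p →ₗ[R] R) (r : R) (x : (FCx L).cycles p) :
    botF φ hφ Θ (HomologicalComplex.cyclesMap (natCxMap (stdU ι R) (smulL (L := L) r)) p x) =
      r * botF φ hφ Θ x := by
  rw [botF_apply, botF_apply, ← smul_eq_mul, ← map_smul Θ]
  exact congrArg Θ (Subtype.ext
    ((congrArg (cochainF φ) (cycVal_map p r x)).trans (cochainF_push φ r _)))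

include φ hφ in
/-- Hodge cohomology of projective space on the diagonal is the base ring. -/
theorem nonempty_HH_equiv [Nonempty ι] (hM : Coh.IsQCoh L) (hp : p < Fintype.card ι) :
    ∃ e : Coh.HH (PS ι R) L p ≃+ R,
      ∀ (r : R) (x : Coh.HH (PS ι R) L p),
        e (Sheaf.H.map (Coh.smulAb L (constTop ι r)) p x) = r * e x := by
  obtain ⟨Θ, hΘs, hΘ0, hΘ1⟩ := exists_CW_map (ι := ι) (R := R) hp
  obtain ⟨e1, h1⟩ := exists_addEquiv_comm ((FCx L).homologyπ p).hom (botF φ hφ Θ)
    ((AddCommGrpCat.epi_iff_surjective _).1 inferInstance) (botF_surjective φ hφ Θ hΘs)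
    (botF_eq_zero_iff φ hφ Θ hΘ0 hΘ1)
  obtain ⟨e2, h2⟩ := natCx_H_equiv_natural (U := stdU ι R) iSup_stdU
    (QCoh.stdCovers_sectionClass isAffineOpen_tuple) (QCoh.abSheaf L)
    (QCoh.stdCovers_acyclic hM) p
  refine ⟨e2.symm.trans e1, fun r x => ?_⟩
  show e1 (e2.symm (Sheaf.H.map (Coh.smulAb L (constTop ι r)) p x)) = r * e1 (e2.symm x)
  obtain ⟨y, rfl⟩ := e2.surjective x
  obtain ⟨z, rfl⟩ := (AddCommGrpCat.epi_iff_surjective ((FCx L).homologyπ p)).1 inferInstance y
  rw [e2.symm_apply_apply]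
  refine (congrArg e1
    (e2.symm_apply_eq.2 (h2 (Coh.smulAb L (constTop ι r)) ((FCx L).homologyπ p z)).symm)).trans ?_
  refine (congrArg e1 (ConcreteCategory.congr_hom
    (HomologicalComplex.homologyπ_naturality (natCxMap (stdU ι R) (smulL (L := L) r)) p) z)).trans ?_
  exact (h1 _).trans ((botF_smul φ hφ Θ r z).trans (congrArg (r * ·) (h1 z).symm))

omit [Fintype ι] [LinearOrder ι] in
/-- An exterior power of the differentials is quasi-coherent. -/
theorem isQCoh_of_charts {L : (PS ι R).Modules}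
    (hL : ExtPow.IsExtPow p (Omega.sheaf (toSpecR ι R)) L) : Coh.IsQCoh L :=
  isQCoh_of_isExtPow
    (Synt29.OmegaStalk.isQCoh_of_isUniversal (OmegaUniv.isUniversal_dOmega (toSpecR ι R))) p hL

end Groth.Agent.DRHyp.PnHodge
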