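import Groth.Agent.DRHyp.Diagonal
import Groth.Agent.DRHyp.PnHodge

/-!
# de Rham cohomology of projective space
-/

set_option autoImplicit false

universe u

open CategoryTheory CategoryTheory.Limits AlgebraicGeometry Opposite TopologicalSpace MvPolynomial
open Groth.Agent.PnCoh

namespace Groth.Agent.DRHyp.PnHodge

attribute [local instance] MvPolynomial.gradedAlgebra

variable {ι : Type} [Fintype ι] [LinearOrder ι] [Nonempty ι] {R : Type u} [CommRing R]
  [QuasiSeparated (toSpecR ι R)] (D : DeRhamSh.OmegaCx (toSpecR ι R))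
  [HasDerivedCategory.{u} (Sheaf (Opens.grothendieckTopology ↥(PS ι R)) AddCommGrpCat.{u})]

theorem subsingleton_HH_term (p q : ℕ) (h : p ≠ q ∨ Fintype.card ι ≤ p) :
    Subsingleton (Coh.HH (PS ι R) (D.term p) q) := by
  obtain ⟨φ, hφ⟩ := D.isExtPow p
  exact subsingleton_HH φ hφ (isQCoh_term D p) q h

theorem subsingleton_ext_term (j : ℤ) (q : ℕ) (h : j ≠ q ∨ (Fintype.card ι : ℤ) ≤ j) :
    Subsingleton (Abelian.Ext.{u} (CohCx.freeSheaf (Opens.grothendieckTopology ↥(PS ι R)) ⊤)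
      (D.KZ.X j) q) := by
  by_cases hj : 0 ≤ j
  · obtain ⟨p, rfl⟩ := Int.eq_ofNat_of_zero_le hj
    have : Subsingleton (Coh.HH (PS ι R) (D.term p) q) := by
      obtain ⟨φ, hφ⟩ := D.isExtPow p
      exact subsingleton_HH φ hφ (isQCoh_term D p) q (by omega)
    exact ((E1Deg.extCongrRight.{u} _ (kzIso D p) q).trans
      (extTopEquiv (Coh.toAb (D.term p)) q)).toEquiv.subsingleton
  · exact subsingleton_ext_of_isZero _ (D.KZ.isZero_of_isStrictlyGE 0 j (by omega)) q

set_option maxHeartbeats 1000000 in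
/-- de Rham cohomology of projective space off the even degrees up to twice the dimension. -/
theorem subsingleton_HdR (m : ℤ) (hm : ∀ i : ℕ, i < Fintype.card ι → m ≠ 2 * (i : ℤ)) :
    Subsingleton (DeRhamSh.HdR D m) := by
  refine DRHyp.subsingleton_HdR D m fun p q hpq => subsingleton_HH_term D p q ?_
  by_cases h : p = q
  · refine Or.inr (not_lt.1 fun hlt => hm p hlt ?_)
    omega
  · exact Or.inl h

set_option maxHeartbeats 1000000 in
/-- de Rham cohomology of projective space in even degrees, naturally in endomorphisms. -/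
theorem exists_HdR_equiv (i : ℕ) (hi : i < Fintype.card ι) :
    ∃ e : DeRhamSh.HdR D (2 * (i : ℤ)) ≃+ R, ∀ (r : R) (φ : D.KZ ⟶ D.KZ)
      (_ : φ.f (i : ℤ) ≫ (kzIso D i).hom =
        (kzIso D i).hom ≫ Coh.smulAb (D.term i) (constTop ι r))
      (x : DeRhamSh.HdR D (2 * (i : ℤ))),
        e (E1Deg.HTmap (CohCx.freeSheaf (Opens.grothendieckTopology ↥(PS ι R)) ⊤) φ (2 * (i : ℤ)) x) =
          r * e x := by
  obtain ⟨E, hE⟩ := exists_HT_equiv_diag.{u, u}
    (CohCx.freeSheaf (Opens.grothendieckTopology ↥(PS ι R)) ⊤) D.KZ 0 (i : ℤ) (2 * (i : ℤ)) i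
    (by omega) (fun j r hj hjr => subsingleton_ext_term D j r (by omega))
    (fun j r hj hjr => subsingleton_ext_term D j r (by omega))
  obtain ⟨φ₀, hφ₀⟩ := D.isExtPow i
  obtain ⟨e₂, h₂⟩ := nonempty_HH_equiv φ₀ hφ₀ (isQCoh_term D i) hi
  let M : Abelian.Ext.{u} (CohCx.freeSheaf (Opens.grothendieckTopology ↥(PS ι R)) ⊤)
      (D.KZ.X (i : ℤ)) i ≃+ R :=
    ((E1Deg.extCongrRight.{u} _ (kzIso D i) i).trans (extTopEquiv (Coh.toAb (D.term i)) i)).trans e₂
  refine ⟨E.trans M, fun r φ hφ x => ?_⟩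
  show M (E (E1Deg.HTmap _ φ _ x)) = r * M (E x)
  rw [hE φ x]
  show e₂ (extTopEquiv (Coh.toAb (D.term i)) i
      (((E x).comp (Abelian.Ext.mk₀ (φ.f (i : ℤ))) (add_zero i)).comp
        (Abelian.Ext.mk₀ (kzIso D i).hom) (add_zero i))) =
    r * e₂ (extTopEquiv (Coh.toAb (D.term i)) i
      ((E x).comp (Abelian.Ext.mk₀ (kzIso D i).hom) (add_zero i)))
  rw [← h₂ r]
  refine congrArg e₂ (Eq.trans ?_ (extTopEquiv_comp (Coh.smulAb (D.term i) (constTop ι r)) i _))
  refine congrArg _ ?_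
  simp only [Abelian.Ext.comp_assoc_of_third_deg_zero, Abelian.Ext.mk₀_comp_mk₀, hφ]

end Groth.Agent.DRHyp.PnHodge
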