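import Groth.Agent.DRHyp.PnComplex
import Mathlib.RingTheory.Kaehler.Basic
import Mathlib.LinearAlgebra.ExteriorPower.Basis
import Mathlib.LinearAlgebra.Matrix.Determinant.Basic

/-!
# Forms of a ring of Laurent polynomials of degree zero, in logarithmic coordinates
-/

set_option autoImplicit false

universe u

open Groth.Agent.PnCoh exteriorPower

namespace Groth.Agent.DRHyp.PnForms

variable {ι : Type} [Fintype ι] [LinearOrder ι] {R : Type u} [CommRing R]

/-- `xᵢ ∂/∂xᵢ`. -/
noncomputable def euler (i : ι) : Laur ι R →ₗ[R] Laur ι R where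
  toFun p := p.coeff.sum fun e r => AddMonoidAlgebra.single e ((e i : R) * r)
  map_add' a b := by
    rw [AddMonoidAlgebra.coeff_add]
    refine Finsupp.sum_add_index' ?_ ?_
    · intro e
      simp
    · intro e r s
      rw [mul_add, AddMonoidAlgebra.single_add]
  map_smul' r a := by
    rw [AddMonoidAlgebra.coeff_smul, Finsupp.sum_smul_index' (fun e => by simp), RingHom.id_apply,
      Finsupp.smul_sum]
    simp [AddMonoidAlgebra.smul_single, mul_left_comm]

omit [Fintype ι] [LinearOrder ι] in
theorem euler_single (i : ι) (e : Expo ι) (r : R) :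
    euler i (AddMonoidAlgebra.single e r : Laur ι R) = AddMonoidAlgebra.single e ((e i : R) * r) := by
  show (AddMonoidAlgebra.single e r : Laur ι R).coeff.sum
    (fun e' r' => (AddMonoidAlgebra.single e' ((e' i : R) * r') : Laur ι R)) = _
  rw [AddMonoidAlgebra.coeff_single, Finsupp.sum_single_index (by simp)]

omit [Fintype ι] [LinearOrder ι] in
theorem euler_mul (i : ι) (a b : Laur ι R) : euler i (a * b) = a * euler i b + b * euler i a := by
  induction a using AddMonoidAlgebra.induction_linear with
  | zero => simp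
  | add f g hf hg => simp [add_mul, mul_add, hf, hg]; abel
  | single e r =>
    induction b using AddMonoidAlgebra.induction_linear with
    | zero => simp
    | add f g hf hg => simp [add_mul, mul_add, hf, hg]; abel
    | single e' r' =>
      simp only [AddMonoidAlgebra.single_mul_single, euler_single, add_comm e' e]
      rw [← AddMonoidAlgebra.single_add]
      congr 1
      push_cast [Finsupp.add_apply]
      ring

/-- An alternating map over a bigger ring, restricted. -/
def altRestrict (R : Type*) {S M N κ : Type*} [CommSemiring R] [CommSemiring S] [Algebra R S]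
    [AddCommMonoid M] [Module R M] [Module S M] [IsScalarTower R S M]
    [AddCommMonoid N] [Module R N] [Module S N] [IsScalarTower R S N]
    (f : M [⋀^κ]→ₗ[S] N) : M [⋀^κ]→ₗ[R] N :=
  { f.toMultilinearMap.restrictScalars R with map_eq_zero_of_eq' := f.map_eq_zero_of_eq' }

/-- Pairing of one-forms with constant vectors. -/
noncomputable def pair (v : ι → Laur ι R) : (ι → R) →ₗ[R] Laur ι R :=
  ∑ i, (LinearMap.proj i : (ι → R) →ₗ[R] R).smulRight (v i)

omit [LinearOrder ι] in
theorem pair_apply (v : ι → Laur ι R) (x : ι → R) : pair v x = ∑ i, x i • v i := by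
  simp [pair]

theorem pair_single (v : ι → Laur ι R) (j : ι) : pair v (Pi.single j 1) = v j := by
  simp [pair_apply, Pi.single_apply]

omit [LinearOrder ι] in
theorem pair_one (v : ι → Laur ι R) : pair v 1 = ∑ i, v i := by
  simp [pair_apply]

/-- The form of a wedge of one-forms. -/
noncomputable def wedgeVal {p : ℕ} (v : Fin p → ι → Laur ι R) : Alt ι R (Laur ι R) p :=
  (altRestrict R (Matrix.detRowAlternating (n := Fin p) (R := Laur ι R))).compLinearMap
    (LinearMap.pi fun a => pair (v a))

omit [LinearOrder ι] in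
theorem wedgeVal_apply {p : ℕ} (v : Fin p → ι → Laur ι R) (u : Fin p → ι → R) :
    wedgeVal v u = Matrix.det (Matrix.of fun a k => pair (v a) (u k)) :=
  by
    rw [← Matrix.det_transpose]
    rfl

theorem wedgeVal_bvec {p : ℕ} (v : Fin p → ι → Laur ι R) (τ : Fin p → ι) :
    wedgeVal v (bvec R τ) = Matrix.det (Matrix.of fun a k => v a (τ k)) := by
  rw [wedgeVal_apply]
  congr 2
  funext a k
  rw [← pair_single (v a) (τ k)]
  congr 1
  unfold bvec
  congr!

variable {B : Type u} [CommRing B] [Algebra R B] [Algebra B (Laur ι R)]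
  [IsScalarTower R B (Laur ι R)]

/-- Pairing with a tuple of vectors, linearly in the one-form. -/
noncomputable def evalVec {p : ℕ} (u : Fin p → ι → R) :
    (ι → Laur ι R) →ₗ[Laur ι R] Fin p → Laur ι R :=
  LinearMap.pi fun k => ∑ j : ι, u k j • (LinearMap.proj j : (ι → Laur ι R) →ₗ[Laur ι R] Laur ι R)

omit [LinearOrder ι] in
theorem wedgeVal_eq {p : ℕ} (w : Fin p → ι → Laur ι R) (u : Fin p → ι → R) :
    wedgeVal w u =
      ((Matrix.detRowAlternating (n := Fin p) (R := Laur ι R)).compLinearMap (evalVec u)) w := by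
  rw [wedgeVal_apply, AlternatingMap.compLinearMap_apply]
  show Matrix.det (Matrix.of fun a k => pair (w a) (u k)) =
    Matrix.det (Matrix.of fun a => evalVec u (w a))
  congr 1
  funext a k
  simp [evalVec, pair_apply]

variable (R B) in
/-- The wedge of one-forms, as an alternating map. -/
noncomputable def wedgeAlt (p : ℕ) :
    (ι → Laur ι R) [⋀^Fin p]→ₗ[B] Alt ι R (Laur ι R) p where
  toFun := wedgeVal
  map_update_add' {inst} v i x y := by
    obtain rfl := Subsingleton.elim inst (instDecidableEqFin p)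
    refine AlternatingMap.ext fun u => ?_
    simp only [AlternatingMap.add_apply, wedgeVal_eq, AlternatingMap.map_update_add]
  map_update_smul' {inst} v i b x := by
    obtain rfl := Subsingleton.elim inst (instDecidableEqFin p)
    refine AlternatingMap.ext fun u => ?_
    rw [AlternatingMap.smul_apply, wedgeVal_eq, wedgeVal_eq, ← algebraMap_smul (Laur ι R) b x,
      AlternatingMap.map_update_smul, algebraMap_smul]
  map_eq_zero_of_eq' v i j h hij := by
    refine AlternatingMap.ext fun u => ?_
    show wedgeVal v u = 0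
    rw [wedgeVal_apply]
    exact Matrix.det_zero_of_row_eq hij (funext fun k => by simp [h])

variable (R B) in
/-- A function's logarithmic derivatives. -/
noncomputable def dlogDer : Derivation R B (ι → Laur ι R) :=
  Derivation.mk'
    { toFun := fun b i => euler i (algebraMap B (Laur ι R) b)
      map_add' := fun a b => funext fun i => by simp
      map_smul' := fun r b => funext fun i => by
        simp only [RingHom.id_apply, Pi.smul_apply]
        rw [← map_smul]
        congr 1
        exact (Algebra.linearMap B (Laur ι R)).map_smul_of_tower r b }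
    fun a b => funext fun i => by
      show euler i (algebraMap B (Laur ι R) (a * b)) =
        a • euler i (algebraMap B (Laur ι R) b) + b • euler i (algebraMap B (Laur ι R) a)
      rw [map_mul, euler_mul, Algebra.smul_def, Algebra.smul_def]

variable (R B) in
/-- The coordinates of a one-form. -/
noncomputable def phi1 : Ω[B⁄R] →ₗ[B] ι → Laur ι R :=
  (dlogDer R B).liftKaehlerDifferential

theorem phi1_D (b : B) (i : ι) :
    phi1 R B (KaehlerDifferential.D R B b) i = euler i (algebraMap B (Laur ι R) b) :=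
  congrFun ((dlogDer (ι := ι) R B).liftKaehlerDifferential_comp_D b) i

variable (R B) in
/-- The coordinates of a form. -/
noncomputable def phiF (p : ℕ) : ↥(⋀[B]^p (Ω[B⁄R])) →ₗ[B] Alt ι R (Laur ι R) p :=
  alternatingMapLinearEquiv ((wedgeAlt R B p).compLinearMap (phi1 R B))

theorem phiF_ιMulti {p : ℕ} (v : Fin p → Ω[B⁄R]) :
    phiF R B p (ιMulti B p v) = wedgeVal fun a => phi1 (ι := ι) R B (v a) :=
  alternatingMapLinearEquiv_apply_ιMulti _ _

theorem phiF_smul {p : ℕ} (c : B) (z : ↥(⋀[B]^p (Ω[B⁄R]))) :
    phiF (ι := ι) R B p (c • z) = algebraMap B (Laur ι R) c • phiF R B p z := by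
  rw [map_smul]
  refine AlternatingMap.ext fun u => ?_
  rw [AlternatingMap.smul_apply, AlternatingMap.smul_apply, Algebra.smul_def, smul_eq_mul]

theorem phiF_gen {p : ℕ} (b₀ : B) (b : Fin p → B) :
    phiF (ι := ι) R B p (b₀ • ιMulti B p fun a => KaehlerDifferential.D R B (b a)) =
      algebraMap B (Laur ι R) b₀ • wedgeVal fun a i => euler i (algebraMap B (Laur ι R) (b a)) := by
  rw [phiF_smul, phiF_ιMulti]
  congr 2
  funext a i
  exact phi1_D (b a) i

variable (T : Set ι)
  (hmem : ∀ b : B, algebraMap B (Laur ι R) b ∈ AddMonoidAlgebra.supported R R (supp T))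
  (hsurj : ∀ p ∈ AddMonoidAlgebra.supported R R (supp T), ∃ b : B, algebraMap B (Laur ι R) b = p)
  (hinj : Function.Injective (algebraMap B (Laur ι R)))

include hmem in
theorem sum_phi1 (z : Ω[B⁄R]) : ∑ i, phi1 (ι := ι) R B z i = 0 := by
  have hz : z ∈ Submodule.span B (Set.range (KaehlerDifferential.D R B)) := by
    rw [KaehlerDifferential.span_range_derivation]; trivial
  induction hz using Submodule.span_induction with
  | mem x hx =>
    obtain ⟨b, rfl⟩ := hx
    simp only [phi1_D]
    ext e
    rw [AddMonoidAlgebra.coeff_sum, Finsupp.finsetSum_apply, AddMonoidAlgebra.coeff_zero,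
      Finsupp.zero_apply]
    have he : ∀ i, (euler i (algebraMap B (Laur ι R) b)).coeff e =
        (e i : R) * (algebraMap B (Laur ι R) b).coeff e := fun i => by
      induction algebraMap B (Laur ι R) b using AddMonoidAlgebra.induction_linear with
      | zero => simp
      | add f g hf hg => simp [mul_add, hf, hg]
      | single e' r =>
        rw [euler_single]
        simp only [AddMonoidAlgebra.coeff_single, Finsupp.single_apply]
        split_ifs with h
        · rw [h]
        · rw [mul_zero]
    simp only [he, ← Finset.sum_mul]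
    by_cases h0 : (algebraMap B (Laur ι R) b).coeff e = 0
    · rw [h0, mul_zero]
    · have hs := AddMonoidAlgebra.mem_supported.1 (hmem b) (Finsupp.mem_support_iff.2 h0)
      rw [← Int.cast_sum, ← Finsupp.sum_fintype e (fun _ z => z) (fun _ => rfl), hs.1, Int.cast_zero,
        zero_mul]
  | zero => simp
  | add x y _ _ hx hy => simp [Finset.sum_add_distrib, hx, hy]
  | smul b x _ hx => simp [← Finset.smul_sum, hx]

include hmem in
theorem closed_phiF : ∀ {p : ℕ} (z : ↥(⋀[B]^p (Ω[B⁄R]))), Closed (phiF (ι := ι) R B p z)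
  | 0, _ => trivial
  | p + 1, z => by
    have hz : z ∈ Submodule.span B (Set.range (ιMulti B (p + 1) (M := Ω[B⁄R]))) := by
      rw [ιMulti_span]; trivial
    show kap (phiF R B (p + 1) z) = 0
    refine AlternatingMap.ext fun u => ?_
    rw [AlternatingMap.zero_apply, kap_apply]
    induction hz using Submodule.span_induction with
    | mem x hx =>
      obtain ⟨v, rfl⟩ := hx
      rw [phiF_ιMulti, wedgeVal_apply]
      exact Matrix.det_eq_zero_of_column_eq_zero 0 fun a => by
        simp [pair_one, sum_phi1 T hmem]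
    | zero => simp
    | add x y _ _ hx hy => simp [hx, hy]
    | smul b x _ hx => rw [map_smul, AlternatingMap.smul_apply, hx, smul_zero]

/-- The monomial `xⱼ / x_{i₀}`. -/
noncomputable def fExp (i₀ j : ι) : Expo ι := Finsupp.single j 1 - Finsupp.single i₀ 1

omit [Fintype ι] [LinearOrder ι] in
theorem sum_fExp (i₀ j : ι) : (fExp i₀ j).sum (fun _ z => z) = 0 := by
  rw [fExp, Finsupp.sum_sub_index (fun _ _ _ => rfl)]
  simp

theorem fExp_mem (i₀ : ι) (h₀ : i₀ ∈ T) (j : ι) : fExp i₀ j ∈ supp T :=
  ⟨sum_fExp i₀ j, fun i hi => by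
    by_cases h : i = i₀
    · rwa [h]
    · simp [fExp, Finsupp.single_apply, Ne.symm h] at hi
      split_ifs at hi <;> omega⟩

section

variable {i₀ : ι} (h₀ : i₀ ∈ T) {y : ι → B}
  (hy : ∀ j, algebraMap B (Laur ι R) (y j) = AddMonoidAlgebra.single (fExp i₀ j) 1)

include hmem hsurj hinj hy in
theorem span_dy : Submodule.span B (Set.range fun j : {j // j ≠ i₀} =>
    KaehlerDifferential.D R B (y j.1)) = ⊤ := by
  set N := Submodule.span B (Set.range fun j : {j // j ≠ i₀} => KaehlerDifferential.D R B (y j.1))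
  set δ := KaehlerDifferential.D R B
  let E : AddSubmonoid (Expo ι) :=
    { carrier := {e | ∃ b : B, algebraMap B (Laur ι R) b = AddMonoidAlgebra.single e 1 ∧ δ b ∈ N}
      zero_mem' := ⟨1, by rw [map_one]; rfl, by simp⟩
      add_mem' := fun {e f} ⟨a, ha, ha'⟩ ⟨b, hb, hb'⟩ => ⟨a * b,
        by rw [map_mul, ha, hb, AddMonoidAlgebra.single_mul_single, one_mul],
        by rw [Derivation.leibniz]; exact add_mem (N.smul_mem _ hb') (N.smul_mem _ ha')⟩ }
  have hone : algebraMap B (Laur ι R) 1 = AddMonoidAlgebra.single 0 1 := by rw [map_one]; rfl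
  have hf : ∀ j, fExp i₀ j ∈ E := fun j => by
    by_cases hj : j = i₀
    · subst hj
      rw [fExp, sub_self]
      exact E.zero_mem
    · exact ⟨y j, hy j, Submodule.subset_span ⟨⟨j, hj⟩, rfl⟩⟩
  have hneg : ∀ j ∈ T, -fExp i₀ j ∈ E := fun j hj => by
    obtain ⟨a, ha, ha'⟩ := hf j
    by_cases h : -fExp i₀ j ∈ supp T
    · obtain ⟨b, hb⟩ := hsurj _ (AddMonoidAlgebra.mem_supported'.2 fun e he => by
        rw [AddMonoidAlgebra.coeff_single, Finsupp.single_apply,
          if_neg fun hh : -fExp i₀ j = e => he (hh ▸ h)] :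
        (AddMonoidAlgebra.single (-fExp i₀ j) 1 : Laur ι R) ∈ _)
      refine ⟨b, hb, ?_⟩
      have hab : a * b = 1 := hinj (by
        rw [map_mul, ha, hb, AddMonoidAlgebra.single_mul_single, add_neg_cancel, one_mul, hone])
      have h1 : a • δ b + b • δ a = 0 := by rw [← Derivation.leibniz, hab]; simp [δ]
      have h2 : δ b = -((b * b) • δ a) := by
        have h3 := congrArg (b • ·) h1
        simp only [smul_add, smul_zero, smul_smul, mul_comm b a, hab, one_smul] at h3
        rw [mul_comm b b]
        exact eq_neg_of_add_eq_zero_left h3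
      rw [h2]
      exact neg_mem (N.smul_mem _ ha')
    · exact absurd ⟨by
          rw [Finsupp.sum_neg_index (fun _ => rfl)]
          exact (Finset.sum_neg_distrib _).trans (neg_eq_zero.2 (sum_fExp i₀ j)),
        fun i hi => by
          by_cases hij : i = j
          · rwa [hij]
          · simp [fExp, Finsupp.single_apply, Ne.symm hij] at hi
            split_ifs at hi <;> omega⟩ h
  have hE : ∀ e ∈ supp T, e ∈ E := fun e he => by
    have hsum : e = ∑ j, e j • fExp i₀ j := by
      ext i
      have h1 : ∑ j, e j = 0 := (Finsupp.sum_fintype e (fun _ z => z) (fun _ => rfl)).symm.trans he.1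
      simp [fExp, Finsupp.finsetSum_apply, Finsupp.single_apply, mul_sub, Finset.sum_sub_distrib,
        ← Finset.sum_mul, h1]
    rw [hsum]
    refine AddSubmonoid.sum_mem _ fun j _ => ?_
    rcases le_or_gt 0 (e j) with hp | hn
    · obtain ⟨m, hm⟩ := Int.eq_ofNat_of_zero_le hp
      rw [hm, natCast_zsmul]
      exact AddSubmonoid.nsmul_mem _ (hf j) m
    · obtain ⟨m, hm⟩ := Int.eq_ofNat_of_zero_le (neg_nonneg.2 hn.le)
      rw [show e j • fExp i₀ j = (-e j) • (-fExp i₀ j) by rw [smul_neg, neg_smul, neg_neg], hm,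
        natCast_zsmul]
      exact AddSubmonoid.nsmul_mem _ (hneg j (he.2 j hn)) m
  rw [eq_top_iff, ← KaehlerDifferential.span_range_derivation, Submodule.span_le]
  rintro _ ⟨b, rfl⟩
  choose! m hm hm' using fun e he => hE e he
  have hb : b = ∑ e ∈ (algebraMap B (Laur ι R) b).coeff.support,
      (algebraMap B (Laur ι R) b).coeff e • m e := hinj (by
    rw [map_sum]
    conv_lhs => rw [← AddMonoidAlgebra.sum_coeff_single (algebraMap B (Laur ι R) b)]
    refine Finset.sum_congr rfl fun e he => ?_
    rw [show algebraMap B (Laur ι R) ((algebraMap B (Laur ι R) b).coeff e • m e) =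
      (algebraMap B (Laur ι R) b).coeff e • algebraMap B (Laur ι R) (m e) from
        (Algebra.linearMap B (Laur ι R)).map_smul_of_tower _ _,
      hm e (AddMonoidAlgebra.mem_supported.1 (hmem b) he), AddMonoidAlgebra.smul_single,
      smul_eq_mul, mul_one])
  rw [hb, map_sum]
  refine Submodule.sum_mem _ fun e he => ?_
  rw [Derivation.map_smul, ← algebraMap_smul B]
  exact N.smul_mem _ (hm' e (AddMonoidAlgebra.mem_supported.1 (hmem b) he))

/-- The constant matrix of coordinates. -/
noncomputable def cMat (R : Type u) [CommRing R] (i₀ : ι) {p : ℕ} (v τ : Fin p → ι) :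
    Matrix (Fin p) (Fin p) R :=
  Matrix.of fun a k => ((fExp i₀ (v a) (τ k) : ℤ) : R)

include hy in
theorem phiF_dy {p : ℕ} (v τ : Fin p → ι) :
    phiF R B p (ιMulti B p fun a => KaehlerDifferential.D R B (y (v a))) (bvec R τ) =
      AddMonoidAlgebra.single (∑ a, fExp i₀ (v a)) (cMat R i₀ v τ).det := by
  rw [phiF_ιMulti, wedgeVal_bvec]
  have hcol : (Matrix.of fun a k => phi1 (ι := ι) R B (KaehlerDifferential.D R B (y (v a))) (τ k)) =
      Matrix.of fun a k => (AddMonoidAlgebra.single (fExp i₀ (v a)) 1 : Laur ι R) *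
        AddMonoidAlgebra.singleZeroRingHom (cMat R i₀ v τ a k) := by
    funext a k
    simp only [Matrix.of_apply, phi1_D, hy, euler_single, cMat]
    show _ = (AddMonoidAlgebra.single (fExp i₀ (v a)) 1 : Laur ι R) * AddMonoidAlgebra.single 0 _
    rw [AddMonoidAlgebra.single_mul_single, add_zero, one_mul, mul_one]
  rw [hcol]
  refine (Matrix.det_mul_column _ _).trans ?_
  have hdet : (Matrix.of fun a k => (AddMonoidAlgebra.singleZeroRingHom (cMat R i₀ v τ a k) :
      Laur ι R)).det = AddMonoidAlgebra.singleZeroRingHom (cMat R i₀ v τ).det :=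
    ((AddMonoidAlgebra.singleZeroRingHom (M := Expo ι) (R := R)).map_det (cMat R i₀ v τ)).symm
  have hprod : ∏ a, (AddMonoidAlgebra.single (fExp i₀ (v a)) 1 : Laur ι R) =
      AddMonoidAlgebra.single (∑ a, fExp i₀ (v a)) 1 := by
    rw [AddMonoidAlgebra.prod_single, Finset.prod_const_one]
  rw [hprod]
  refine (congrArg (_ * ·) hdet).trans ?_
  simp [AddMonoidAlgebra.single_mul_single]

include hmem in
theorem smul_mem_Wsub {p : ℕ} (b : B) {ω : Alt ι R (Laur ι R) p} (hω : ω ∈ Wsub R T p)
    (hc : Closed (b • ω)) : b • ω ∈ Wsub R T p := by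
  refine ⟨hc, fun τ => AddMonoidAlgebra.mem_supported'.2 fun e he => ?_⟩
  rw [AlternatingMap.smul_apply, Algebra.smul_def]
  by_contra hne
  classical
  obtain ⟨a, ha, c, hcc, rfl⟩ := Finset.mem_add.1
    (AddMonoidAlgebra.support_coeff_mul_subset _ _ (Finsupp.mem_support_iff.2 hne))
  have h1 := AddMonoidAlgebra.mem_supported.1 (hmem b) ha
  have h2 := AddMonoidAlgebra.mem_supported.1 (hω.2 τ) hcc
  refine he ⟨⟨?_, fun i hi => ?_⟩, fun k hk => ?_⟩
  · rw [Finsupp.sum_add_index' (fun _ => rfl) (fun _ _ _ => rfl), h1.1, h2.1.1, add_zero]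
  · rw [Finsupp.add_apply] at hi
    rcases lt_or_ge (a i) 0 with hai | hai
    · exact h1.2 i hai
    · exact h2.1.2 i (by omega)
  · have h3 := h2.2 k hk
    have h4 : 0 ≤ a (τ k) := by
      by_contra h
      exact hk (h1.2 _ (not_le.1 h))
    rw [Finsupp.add_apply]
    omega

include hmem hsurj hinj h₀ hy in
theorem phiF_mem {p : ℕ} (z : ↥(⋀[B]^p (Ω[B⁄R]))) : phiF R B p z ∈ Wsub R T p := by
  have hsp := ιMulti_family_span_of_span (n := p) B (span_dy T hmem hsurj hinj hy)
  have hz : z ∈ Submodule.span B (Set.range (ιMulti_family B p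
      fun j : {j // j ≠ i₀} => KaehlerDifferential.D R B (y j.1))) := hsp ▸ trivial
  induction hz using Submodule.span_induction with
  | mem x hx =>
    obtain ⟨s, rfl⟩ := hx
    let v : Fin p → ι := fun a => (Set.powersetCard.ofFinEmbEquiv.symm s a).1
    have hv : ∀ a, v a ≠ i₀ := fun a => (Set.powersetCard.ofFinEmbEquiv.symm s a).2
    refine ⟨closed_phiF T hmem _, fun τ => ?_⟩
    rw [show ιMulti_family B p (fun j : {j // j ≠ i₀} => KaehlerDifferential.D R B (y j.1)) s =
      ιMulti B p (fun a => KaehlerDifferential.D R B (y (v a))) from rfl, phiF_dy hy]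
    refine AddMonoidAlgebra.mem_supported'.2 fun e he => ?_
    rw [AddMonoidAlgebra.coeff_single, Finsupp.single_apply]
    split_ifs with hE
    swap
    · rfl
    subst hE
    by_contra hdet
    have hpos : ∀ i, i ≠ i₀ → ∀ a, 0 ≤ fExp i₀ (v a) i := fun i hi a => by
      simp only [fExp, Finsupp.sub_apply, Finsupp.single_apply, if_neg (Ne.symm hi)]
      split_ifs <;> omega
    refine he ⟨⟨?_, fun i hi => ?_⟩, fun k hk => ?_⟩
    · rw [← Finsupp.sum_finsetSum_index (h := fun _ z => z) (fun _ => rfl) (fun _ _ _ => rfl)]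
      exact Finset.sum_eq_zero fun a _ => sum_fExp _ _
    · by_contra hiT
      rw [Finsupp.finsetSum_apply] at hi
      exact absurd hi (not_lt.2 (Finset.sum_nonneg fun a _ =>
        hpos i (fun h => hiT (h ▸ h₀)) a))
    · have hki : τ k ≠ i₀ := fun h => hk (h ▸ h₀)
      obtain ⟨a, ha⟩ : ∃ a, v a = τ k := by
        by_contra hall
        push Not at hall
        refine hdet (Matrix.det_eq_zero_of_column_eq_zero k fun a => ?_)
        simp [cMat, fExp, Finsupp.single_apply, hall a, Ne.symm hki]
      rw [Finsupp.finsetSum_apply]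
      refine lt_of_lt_of_le ?_
        (Finset.single_le_sum (fun b _ => hpos _ hki b) (Finset.mem_univ a))
      simp [fExp, ha, Finsupp.single_apply, Ne.symm hki]
  | zero => rw [map_zero]; exact zero_mem _
  | add x x' _ _ hx hx' => rw [map_add]; exact add_mem hx hx'
  | smul b x _ hx =>
    rw [map_smul]
    refine smul_mem_Wsub T hmem b hx ?_
    rw [← map_smul]
    exact closed_phiF T hmem _

theorem cMat_diag (R : Type u) [CommRing R] {p : ℕ} (s t : Set.powersetCard {j // j ≠ i₀} p) :
    (cMat R i₀ (fun a => (Set.powersetCard.ofFinEmbEquiv.symm s a).1)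
      (fun a => (Set.powersetCard.ofFinEmbEquiv.symm t a).1)).det = if s = t then 1 else 0 := by
  have key : ∀ a k, cMat R i₀ (fun a => (Set.powersetCard.ofFinEmbEquiv.symm s a).1)
      (fun a => (Set.powersetCard.ofFinEmbEquiv.symm t a).1) a k =
      if Set.powersetCard.ofFinEmbEquiv.symm s a = Set.powersetCard.ofFinEmbEquiv.symm t k
        then 1 else 0 := fun a k => by
    simp only [cMat, Matrix.of_apply, fExp, Finsupp.sub_apply, Finsupp.single_apply,
      if_neg (Ne.symm (Set.powersetCard.ofFinEmbEquiv.symm t k).2), sub_zero, Subtype.val_inj]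
    split_ifs <;> simp
  split_ifs with hst
  · subst hst
    rw [show cMat R i₀ _ _ = 1 from Matrix.ext fun a k => (key a k).trans (by
      simp [Matrix.one_apply]), Matrix.det_one]
  · obtain ⟨i, his, hit⟩ := (Set.powersetCard.exists_mem_notMem_iff_ne t s).mp (Ne.symm hst)
    obtain ⟨k, rfl⟩ := (Set.powersetCard.mem_range_ofFinEmbEquiv_symm_iff_mem t i).mpr his
    refine Matrix.det_eq_zero_of_column_eq_zero k fun a => ?_
    rw [key, if_neg]
    intro h
    exact hit ((Set.powersetCard.mem_range_ofFinEmbEquiv_symm_iff_mem s _).1 ⟨a, h⟩)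

include hmem hsurj hinj hy in
theorem phiF_sum_apply {p : ℕ} (c : Set.powersetCard {j // j ≠ i₀} p → B)
    (t : Set.powersetCard {j // j ≠ i₀} p) :
    phiF R B p (∑ s, c s • ιMulti_family B p
        (fun j : {j // j ≠ i₀} => KaehlerDifferential.D R B (y j.1)) s)
        (bvec R fun a => (Set.powersetCard.ofFinEmbEquiv.symm t a).1) =
      algebraMap B (Laur ι R) (c t) * AddMonoidAlgebra.single
        (∑ a, fExp i₀ (Set.powersetCard.ofFinEmbEquiv.symm t a).1) 1 := by
  simp only [map_sum, map_smul, alt_sum_apply, AlternatingMap.smul_apply]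
  rw [Finset.sum_eq_single t (fun s _ hst => ?_) (fun h => absurd (Finset.mem_univ t) h)]
  · rw [Algebra.smul_def]
    congr 1
    refine (phiF_dy hy _ _).trans ?_
    rw [cMat_diag, if_pos rfl]
  · refine smul_eq_zero_of_right _ ((phiF_dy hy _ _).trans ?_)
    rw [cMat_diag, if_neg hst, AddMonoidAlgebra.single_zero]

include hmem hsurj hinj hy in
theorem phiF_injective (p : ℕ) : Function.Injective (phiF (ι := ι) R B p) := by
  refine (injective_iff_map_eq_zero _).2 fun z hz => ?_
  obtain ⟨c, rfl⟩ := (Submodule.mem_span_range_iff_exists_fun B).1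
    (show z ∈ _ from (ιMulti_family_span_of_span (n := p) B (span_dy T hmem hsurj hinj hy)).symm ▸
      Submodule.mem_top)
  refine Finset.sum_eq_zero fun t _ => ?_
  have h := phiF_sum_apply T hmem hsurj hinj hy c t
  rw [hz, AlternatingMap.zero_apply] at h
  have hu : IsUnit (AddMonoidAlgebra.single
      (∑ a, fExp i₀ (Set.powersetCard.ofFinEmbEquiv.symm t a).1) 1 : Laur ι R) :=
    IsUnit.of_mul_eq_one (AddMonoidAlgebra.single (-_) 1) (by
      rw [AddMonoidAlgebra.single_mul_single, add_neg_cancel, one_mul]; rfl)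
  rw [hinj ((hu.mul_left_eq_zero.1 h.symm).trans (map_zero _).symm), zero_smul]

include hmem hsurj hinj h₀ hy in
theorem exists_phiF_eq {p : ℕ} {ω : Alt ι R (Laur ι R) p} (hω : ω ∈ Wsub R T p) :
    ∃ z, phiF R B p z = ω := by
  let ev : Set.powersetCard {j // j ≠ i₀} p → Fin p → ι := fun t a =>
    (Set.powersetCard.ofFinEmbEquiv.symm t a).1
  let E : Set.powersetCard {j // j ≠ i₀} p → Expo ι := fun t => ∑ a, fExp i₀ (ev t a)
  have hc : ∀ t, ∃ b : B, algebraMap B (Laur ι R) b =
      ω (bvec R (ev t)) * AddMonoidAlgebra.single (-E t) 1 := fun t => by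
    refine hsurj _ (AddMonoidAlgebra.mem_supported'.2 fun e he => ?_)
    rw [AddMonoidAlgebra.coeff_mul_single_apply, mul_one, neg_neg]
    by_contra hne
    have hs := AddMonoidAlgebra.mem_supported.1 (hω.2 _) (Finsupp.mem_support_iff.2 hne)
    have hE : (E t).sum (fun _ z => z) = 0 := by
      rw [← Finsupp.sum_finsetSum_index (h := fun _ z => z) (fun _ => rfl) (fun _ _ _ => rfl)]
      exact Finset.sum_eq_zero fun a _ => sum_fExp _ _
    refine he ⟨?_, fun i hi => ?_⟩
    · have := hs.1.1
      rwa [Finsupp.sum_add_index' (fun _ => rfl) (fun _ _ _ => rfl), hE, add_zero] at this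
    by_contra hiT
    have hi0 : i ≠ i₀ := fun h => hiT (h ▸ h₀)
    have hinjv : Function.Injective (ev t) :=
      Subtype.val_injective.comp (Set.powersetCard.ofFinEmbEquiv.symm t).injective
    have hEi : E t i = ∑ a, if ev t a = i then (1 : ℤ) else 0 := by
      simp [E, fExp, Finsupp.finsetSum_apply, Finsupp.single_apply, Ne.symm hi0, Finset.sum_boole]
    by_cases hit : ∃ a, ev t a = i
    · obtain ⟨a, rfl⟩ := hit
      rw [Finset.sum_eq_single a (fun b _ hb => if_neg fun h => hb (hinjv h))
        (fun h => absurd (Finset.mem_univ a) h), if_pos rfl] at hEi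
      have := hs.2 a hiT
      rw [Finsupp.add_apply] at this
      omega
    · rw [Finset.sum_eq_zero fun a _ => if_neg fun h => hit ⟨a, h⟩] at hEi
      have hne' : ¬ (e + E t) i < 0 := fun h => hiT (hs.1.2 i h)
      rw [Finsupp.add_apply] at hne'
      omega
  choose c hc using hc
  refine ⟨∑ s, c s • ιMulti_family B p
    (fun j : {j // j ≠ i₀} => KaehlerDifferential.D R B (y j.1)) s, ?_⟩
  set z := ∑ s, c s • ιMulti_family B p
    (fun j : {j // j ≠ i₀} => KaehlerDifferential.D R B (y j.1)) s
  have hv : ∀ t, (phiF R B p z - ω : Alt ι R (Laur ι R) p) (bvec R (ev t)) = 0 := fun t => by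
    rw [AlternatingMap.sub_apply, phiF_sum_apply T hmem hsurj hinj hy, hc, mul_assoc,
      AddMonoidAlgebra.single_mul_single, neg_add_cancel, one_mul, ← AddMonoidAlgebra.one_def,
      mul_one, sub_self]
  refine sub_eq_zero.1 (eq_zero_of_avoid ((closed_phiF T hmem z).sub hω.1) i₀ fun τ hτ => ?_)
  let incl : ({j // j ≠ i₀} → R) →ₗ[R] ι → R :=
    (Pi.basisFun R {j // j ≠ i₀}).constr R fun j => Pi.single j.1 1
  have h0 : alternatingMapLinearEquiv ((phiF R B p z - ω).compLinearMap incl) = 0 := by
    refine LinearMap.ext_on (ιMulti_family_span_of_span R (Pi.basisFun R {j // j ≠ i₀}).span_eq) ?_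
    rintro _ ⟨t, rfl⟩
    rw [LinearMap.zero_apply, ιMulti_family, alternatingMapLinearEquiv_apply_ιMulti,
      AlternatingMap.compLinearMap_apply]
    refine Eq.trans (congrArg _ (funext fun a => ?_)) (hv t)
    simp only [incl, Function.comp_apply, Module.Basis.constr_basis]
    unfold bvec
    congr!
  have h1 := LinearMap.congr_fun h0 (ιMulti R p fun a => Pi.single (⟨τ a, hτ a⟩ : {j // j ≠ i₀}) 1)
  rw [alternatingMapLinearEquiv_apply_ιMulti, AlternatingMap.compLinearMap_apply] at h1
  refine Eq.trans (congrArg _ (funext fun a => ?_)) h1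
  have := (Pi.basisFun R {j // j ≠ i₀}).constr_basis R (fun j => (Pi.single j.1 1 : ι → R)) ⟨τ a, hτ a⟩
  rw [Pi.basisFun_apply] at this
  rw [show incl _ = _ from this]
  unfold bvec
  congr!

end

end Groth.Agent.DRHyp.PnForms
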