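import Groth.Agent.DRHyp.PnFormsAlg
import Groth.Agent.DRHyp.Omega
import Groth.Agent.DRHyp.Terms
import Groth.Agent.PnCoh.TwistScalar

/-!
# Sections of the sheaves of forms of projective space on monomial opens
-/

set_option autoImplicit false

universe u

open CategoryTheory AlgebraicGeometry MvPolynomial Opposite TopologicalSpace exteriorPower
open Groth.Agent.PnCoh Groth.Agent.DRHyp.PnForms

namespace Groth.Agent.DRHyp.PnHodge

attribute [local instance] MvPolynomial.gradedAlgebra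

section General

variable {R : Type u} [CommRing R] {X : Scheme.{u}} {f : X ⟶ Spec (CommRingCat.of R)}
  [QuasiSeparated f] {p : ℕ} {L : X.Modules}

variable (f) in
/-- The family of identifications in `IsExtPow`. -/
abbrev Charts (p : ℕ) (L : X.Modules) : Type u :=
  ∀ U : X.affineOpens, (L.val.obj (op U.1)) ≃ₗ[Γ(X, U.1)]
    ↥(⋀[Γ(X, U.1)]^p ((Omega.sheaf f).val.obj (op U.1)))

/-- Compatibility with restriction. -/
def Compat (φ : Charts f p L) : Prop :=
  ∀ (U V : X.affineOpens) (h : V.1 ≤ U.1) (e : Fin p → (Omega.sheaf f).val.obj (op U.1)),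
      L.val.map (homOfLE h).op ((φ U).symm (ιMulti _ p e)) =
        (φ V).symm (ιMulti _ p (fun j => (Omega.sheaf f).val.map (homOfLE h).op (e j)))

variable (φ : Charts f p L) (U : X.Opens) (hU : IsAffineOpen U)

/-- Forms as sections. -/
noncomputable def formE :
    letI := kAlg f U
    ↥(⋀[Γ(X, U)]^p (Ω[Γ(X, U)⁄R])) ≃ₗ[Γ(X, U)] Γ(L, U) :=
  letI := kAlg f U
  (extMapEquiv p (omegaEquiv f hU)).trans (φ ⟨U, hU⟩).symm

theorem formE_gen (b₀ : Γ(X, U)) (b : Fin p → Γ(X, U)) :
    letI := kAlg f U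
    formE φ U hU (DeRham.gen (KaehlerDifferential.D R Γ(X, U)) p b₀ b) =
      b₀ • (φ ⟨U, hU⟩).symm (ιMulti Γ(X, U) p
        (fun i => ((OmegaSh.dOmega f).app U (b i) : Γ(Omega.sheaf f, U)))) := by
  let _ := kAlg f U
  rw [DeRham.gen, map_smul]
  refine congrArg (fun w => b₀ • w) ?_
  exact congrArg (φ ⟨U, hU⟩).symm ((extMapEquiv_ιMulti p (omegaEquiv f hU) _).trans
    (congrArg (ιMulti Γ(X, U) p) (funext fun i => toOmega_D f U (b i))))

theorem dOmega_res {V : X.Opens} (h : V ≤ U) (b : Γ(X, U)) :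
    (Omega.sheaf f).val.map (homOfLE h).op ((OmegaSh.dOmega f).app U b) =
      (OmegaSh.dOmega f).app V (X.presheaf.map (homOfLE h).op b) :=
  ((OmegaSh.dOmega f).d_map (homOfLE h).op b).symm

theorem formE_res (hφ : Compat φ) {V : X.Opens} (hV : IsAffineOpen V) (h : V ≤ U) (b₀ : Γ(X, U))
    (b : Fin p → Γ(X, U)) :
    letI := kAlg f U
    letI := kAlg f V
    L.val.map (homOfLE h).op (formE φ U hU (DeRham.gen (KaehlerDifferential.D R Γ(X, U)) p b₀ b)) =
      formE φ V hV (DeRham.gen (KaehlerDifferential.D R Γ(X, V)) p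
        (X.presheaf.map (homOfLE h).op b₀) fun a => X.presheaf.map (homOfLE h).op (b a)) := by
  rw [formE_gen, formE_gen]
  refine (L.val.map_smul (homOfLE h).op b₀ _).trans ?_
  refine congrArg _ ((hφ ⟨U, hU⟩ ⟨V, hV⟩ h _).trans ?_)
  exact congrArg (φ ⟨V, hV⟩).symm (congrArg (ιMulti Γ(X, V) p)
    (funext fun j => dOmega_res U h (b j)))

theorem induction_formE {P : Γ(L, U) → Prop} (φ : Charts f p L) (hU : IsAffineOpen U) (hzero : P 0)
    (hadd : ∀ x y, P x → P y → P (x + y))
    (hgen : letI := kAlg f U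
      ∀ (b₀ : Γ(X, U)) (b : Fin p → Γ(X, U)),
        P (formE φ U hU (DeRham.gen (KaehlerDifferential.D R Γ(X, U)) p b₀ b)))
    (s : Γ(L, U)) : P s := by
  let _ := kAlg f U
  obtain ⟨z, rfl⟩ := (formE φ U hU).surjective s
  exact Synt29.DRGen.gen_induction (KaehlerDifferential.D R Γ(X, U))
    (KaehlerDifferential.span_range_derivation R Γ(X, U))
    (P := fun z => P (formE φ U hU z)) (by rw [map_zero]; exact hzero)
    (fun x y hx hy => by rw [map_add]; exact hadd _ _ hx hy) hgen z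

variable {ι : Type} [Fintype ι] [LinearOrder ι]

/-- Coordinates of sections, for an open with a map of its functions to Laurent polynomials. -/
noncomputable def secG [Algebra Γ(X, U) (Laur ι R)]
    (ht : letI := kAlg f U; IsScalarTower R Γ(X, U) (Laur ι R)) :
    Γ(L, U) →+ Alt ι R (Laur ι R) p :=
  letI := kAlg f U
  haveI := ht
  (phiF R Γ(X, U) p).toAddMonoidHom.comp (formE φ U hU).symm.toAddMonoidHom

theorem secG_formE [Algebra Γ(X, U) (Laur ι R)]
    (ht : letI := kAlg f U; IsScalarTower R Γ(X, U) (Laur ι R)) (b₀ : Γ(X, U))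
    (b : Fin p → Γ(X, U)) :
    letI := kAlg f U
    secG φ U hU ht (formE φ U hU (DeRham.gen (KaehlerDifferential.D R Γ(X, U)) p b₀ b)) =
      algebraMap Γ(X, U) (Laur ι R) b₀ •
        wedgeVal fun a i => euler i (algebraMap Γ(X, U) (Laur ι R) (b a)) := by
  let _ := kAlg f U
  have := ht
  show phiF R Γ(X, U) p ((formE φ U hU).symm (formE φ U hU _)) = _
  rw [LinearEquiv.symm_apply_apply, DeRham.gen, phiF_gen]

theorem secG_smul [Algebra Γ(X, U) (Laur ι R)]
    (ht : letI := kAlg f U; IsScalarTower R Γ(X, U) (Laur ι R)) (c : Γ(X, U)) (s : Γ(L, U)) :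
    secG φ U hU ht (c • s) = algebraMap Γ(X, U) (Laur ι R) c • secG φ U hU ht s := by
  let _ := kAlg f U
  have := ht
  show phiF R Γ(X, U) p ((formE φ U hU).symm (c • s)) =
    algebraMap Γ(X, U) (Laur ι R) c • phiF R Γ(X, U) p ((formE φ U hU).symm s)
  rw [map_smul, phiF_smul]

theorem secG_bijOn [Algebra Γ(X, U) (Laur ι R)]
    (ht : letI := kAlg f U; IsScalarTower R Γ(X, U) (Laur ι R)) (T : Set ι)
    (hmem : ∀ b : Γ(X, U), algebraMap Γ(X, U) (Laur ι R) b ∈ AddMonoidAlgebra.supported R R (supp T))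
    (hsurj : ∀ q ∈ AddMonoidAlgebra.supported R R (supp T),
      ∃ b : Γ(X, U), algebraMap Γ(X, U) (Laur ι R) b = q)
    (hinj : Function.Injective (algebraMap Γ(X, U) (Laur ι R))) {i₀ : ι} (h₀ : i₀ ∈ T) :
    Function.Injective (secG φ U hU ht) ∧
      (∀ s, secG φ U hU ht s ∈ Wsub R T p) ∧
      ∀ ω ∈ Wsub R T p, ∃ s, secG φ U hU ht s = ω := by
  let _ := kAlg f U
  have := ht
  classical
  have hex : ∀ j, ∃ b : Γ(X, U),
      algebraMap Γ(X, U) (Laur ι R) b = AddMonoidAlgebra.single (fExp i₀ j) 1 := fun j =>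
    hsurj _ (AddMonoidAlgebra.mem_supported'.2 fun e he => by
      rw [AddMonoidAlgebra.coeff_single, Finsupp.single_apply,
        if_neg fun hh : fExp i₀ j = e => he (hh ▸ fExp_mem T i₀ h₀ j)])
  choose y hy using hex
  refine ⟨(phiF_injective T hmem hsurj hinj hy p).comp (formE φ U hU).symm.injective,
    fun s => phiF_mem T hmem hsurj hinj h₀ hy _, fun ω hω => ?_⟩
  obtain ⟨z, hz⟩ := exists_phiF_eq T hmem hsurj hinj h₀ hy hω
  refine ⟨formE φ U hU z, ?_⟩
  show phiF R Γ(X, U) p ((formE φ U hU).symm (formE φ U hU z)) = ω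
  rw [LinearEquiv.symm_apply_apply, hz]

end General

variable {ι : Type} [Fintype ι] [LinearOrder ι] {R : Type u} [CommRing R]
  [QuasiSeparated (toSpecR ι R)] {p : ℕ} {L : (PS ι R).Modules}
  (φ : Charts (toSpecR ι R) p L)

/-- A monomial open's coordinate ring in Laurent polynomials. -/
@[reducible] noncomputable def secAlg (g : ι →₀ ℕ) (hg : g ≠ 0) :
    Algebra Γ(PS ι R, mOpen R g) (Laur ι R) :=
  (secL g hg).toAlgebra

omit [Fintype ι] [LinearOrder ι] [QuasiSeparated (toSpecR ι R)] in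
theorem secTower (g : ι →₀ ℕ) (hg : g ≠ 0) :
    letI := kAlg (toSpecR ι R) (mOpen R g)
    letI := secAlg (R := R) g hg
    IsScalarTower R Γ(PS ι R, mOpen R g) (Laur ι R) := by
  let _ := kAlg (toSpecR ι R) (mOpen R g)
  let _ := secAlg (R := R) g hg
  refine IsScalarTower.of_algebraMap_eq fun r => ?_
  exact (secL_res_constTop hg r).symm

/-- Sections of forms in logarithmic coordinates. -/
noncomputable def secF (g : ι →₀ ℕ) (hg : g ≠ 0) :
    Γ(L, mOpen R g) →+ Alt ι R (Laur ι R) p :=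
  letI := secAlg (R := R) g hg
  secG φ (mOpen R g) (isAffineOpen_mOpen hg) (secTower g hg)

theorem secF_smul (g : ι →₀ ℕ) (hg : g ≠ 0) (c : Γ(PS ι R, mOpen R g)) (s : Γ(L, mOpen R g)) :
    secF φ g hg (c • s) = secL g hg c • secF φ g hg s :=
  letI := secAlg (R := R) g hg
  secG_smul φ (mOpen R g) (isAffineOpen_mOpen hg) (secTower g hg) c s

theorem secF_bijOn (g : ι →₀ ℕ) (hg : g ≠ 0) :
    Function.Injective (secF φ g hg) ∧
      (∀ s, secF φ g hg s ∈ Wsub R (g.support : Set ι) p) ∧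
      ∀ ω ∈ Wsub R (g.support : Set ι) p, ∃ s, secF φ g hg s = ω :=
  letI := secAlg (R := R) g hg
  secG_bijOn φ (mOpen R g) (isAffineOpen_mOpen hg) (secTower g hg) (g.support : Set ι)
    (secL_mem g hg) (fun _ hq => exists_secL_eq g hg hq) (secL_injective g hg)
    (Finsupp.support_nonempty_iff.2 hg).choose_spec

theorem secF_res (hφ : Compat φ) {g g' : ι →₀ ℕ} (h : ι →₀ ℕ) (hgh : g' = g + h) (hg : g ≠ 0)
    (hg' : g' ≠ 0) (i : mOpen R g' ⟶ mOpen R g) (s : Γ(L, mOpen R g)) :
    secF φ g' hg' (L.val.map i.op s) = secF φ g hg s := by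
  have hle := i.le
  obtain rfl : i = homOfLE hle := Subsingleton.elim _ _
  refine induction_formE (mOpen R g)
    (P := fun s => secF φ g' hg' (L.val.map (homOfLE hle).op s) = secF φ g hg s) φ
    (isAffineOpen_mOpen hg) ?_ (fun x y hx hy => ?_) (fun b₀ b => ?_) s
  · exact ((congrArg (secF φ g' hg') (map_zero _)).trans (map_zero _)).trans (map_zero _).symm
  · exact ((congrArg (secF φ g' hg') (map_add _ x y)).trans (map_add _ _ _)).trans
      ((congrArg₂ (· + ·) hx hy).trans (map_add _ x y).symm)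
  refine (congrArg (secF φ g' hg')
    (formE_res φ (mOpen R g) (isAffineOpen_mOpen hg) hφ (isAffineOpen_mOpen hg') hle b₀ b)).trans ?_
  let _ := secAlg (R := R) g hg
  let _ := secAlg (R := R) g' hg'
  refine (secG_formE φ (mOpen R g') (isAffineOpen_mOpen hg') (secTower g' hg') _ _).trans
    (Eq.trans ?_ (secG_formE φ (mOpen R g) (isAffineOpen_mOpen hg) (secTower g hg) b₀ b).symm)
  show secL g' hg' _ • _ = secL g hg _ • _
  rw [secL_res h hgh hg hg' (homOfLE hle)]
  congr 1
  refine congrArg wedgeVal (funext fun a => funext fun l => congrArg (euler l) ?_)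
  exact secL_res h hgh hg hg' (homOfLE hle) (b a)

/-- Multiplication by a constant in coordinates. -/
theorem secF_smulAb (g : ι →₀ ℕ) (hg : g ≠ 0) (r : R) (s : Γ(L, mOpen R g)) :
    secF φ g hg ((Coh.smulAb L (constTop ι r)).hom.app (op (mOpen R g)) s) = r • secF φ g hg s := by
  refine (secF_smul φ g hg (Coh.resTop (PS ι R) (op (mOpen R g)) (constTop ι r)) s).trans ?_
  rw [secL_res_constTop hg r]
  refine AlternatingMap.ext fun u => ?_
  rw [AlternatingMap.smul_apply, AlternatingMap.smul_apply, smul_eq_mul, single_zero_mul]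

end Groth.Agent.DRHyp.PnHodge
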