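import Groth.Agent.DRHyp.Affine
import Groth.Agent.S15292
import Groth.Agent.S15536
import Mathlib.Algebra.MvPolynomial.Equiv

/-!
# The Poincaré lemma for polynomial rings over a field of characteristic zero
-/

set_option autoImplicit false

universe u

open exteriorPower

namespace Groth.Agent.DRHyp

variable {k A B : Type u} [CommRing k] [CommRing A] [Algebra k A] [CommRing B] [Algebra k B]

/-- A map of de Rham complexes over a fixed base commutes with scalars. -/
lemma cxMap_smul [Algebra A B] [IsScalarTower k A B]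
    {ψ : ∀ p : ℕ, ↥(⋀[A]^p (Ω[A⁄k])) →+ ↥(⋀[B]^p (Ω[B⁄k]))}
    (hψ : DeRham.IsCxMap (KaehlerDifferential.D k A) (KaehlerDifferential.D k B) (algebraMap A B) ψ)
    (p : ℕ) (r : k) (x : ↥(⋀[A]^p (Ω[A⁄k]))) : ψ p (r • x) = r • ψ p x :=
  Synt29.DRGen.gen_induction (KaehlerDifferential.D k A) (KaehlerDifferential.span_range_derivation k A)
    (P := fun x => ψ p (r • x) = r • ψ p x) (by simp only [smul_zero, map_zero])
    (fun x y hx hy => by simp only [smul_add, map_add, hx, hy])
    (fun b₀ b => by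
      rw [show r • DeRham.gen (KaehlerDifferential.D k A) p b₀ b =
        DeRham.gen (KaehlerDifferential.D k A) p (r • b₀) b from (smul_assoc r b₀ _).symm, hψ, hψ]
      simp only [DeRham.gen, Algebra.smul_def, map_mul, ← IsScalarTower.algebraMap_apply]
      rw [← Algebra.smul_def, smul_assoc]) x

/-- A differential on forms of `B` restricts along a retraction. -/
theorem exists_isDiff_of_retraction [Algebra A B] [IsScalarTower k A B] [Algebra B A]
    [IsScalarTower k B A] (h : ∀ a : A, algebraMap B A (algebraMap A B a) = a)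
    (d' : ∀ p : ℕ, ↥(⋀[B]^p (Ω[B⁄k])) →ₗ[k] ↥(⋀[B]^(p + 1) (Ω[B⁄k])))
    (hd' : DeRham.IsDiff (KaehlerDifferential.D k B) d') :
    ∃ d, DeRham.IsDiff (A := A) (KaehlerDifferential.D k A) d := by
  obtain ⟨ψ, hψ⟩ := Groth.Agent.S15293.result k k A B
  obtain ⟨ρ, hρ⟩ := Groth.Agent.S15293.result k k B A
  let d : ∀ p : ℕ, ↥(⋀[A]^p (Ω[A⁄k])) →ₗ[k] ↥(⋀[A]^(p + 1) (Ω[A⁄k])) := fun p =>
    { toFun := fun x => ρ (p + 1) (d' p (ψ p x))
      map_add' := fun x y => by simp only [map_add]
      map_smul' := fun r x => by simp only [cxMap_smul hψ, map_smul, cxMap_smul hρ, RingHom.id_apply] }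
  refine ⟨d, Groth.Agent.S15292.result k A d fun p b₀ b => ?_⟩
  show ρ (p + 1) (d' p (ψ p _)) = _
  rw [hψ, hd'.1, Synt29.DRGen.gen_one_cons, hρ, map_one, Synt29.DRGen.gen_one_cons]
  congr 1
  funext i
  refine Fin.cases ?_ (fun j => ?_) i <;> simp [h]

variable (k A) in
/-- Every closed form of positive degree is exact and every closed function is constant. -/
def IsDRAcyclic : Prop :=
  ∀ d : ∀ p : ℕ, ↥(⋀[A]^p (Ω[A⁄k])) →ₗ[k] ↥(⋀[A]^(p + 1) (Ω[A⁄k])),
    DeRham.IsDiff (KaehlerDifferential.D k A) d →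
      (∀ i, DeRham.cocycles d (i + 1) ≤ DeRham.coboundaries d (i + 1)) ∧
      ∀ x ∈ DeRham.cocycles d 0,
        ∃ c : k, x = DeRham.gen (KaehlerDifferential.D k A) 0 (algebraMap k A c) Fin.elim0

/-- `IsDRAcyclic` transports along isomorphisms. -/
theorem IsDRAcyclic.of_equiv (e : A ≃ₐ[k] B) (hA : IsDRAcyclic k A) : IsDRAcyclic k B := by
  intro d' hd'
  let _ : Algebra A B := e.toAlgHom.toRingHom.toAlgebra
  let _ : Algebra B A := e.symm.toAlgHom.toRingHom.toAlgebra
  have : IsScalarTower k A B := IsScalarTower.of_algebraMap_eq fun r => (e.commutes r).symm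
  have : IsScalarTower k B A := IsScalarTower.of_algebraMap_eq fun r => (e.symm.commutes r).symm
  obtain ⟨d, hd⟩ := exists_isDiff_of_retraction (fun a => e.symm_apply_apply a) d' hd'
  obtain ⟨ψ, hψ⟩ := Groth.Agent.S15293.result k k A B
  obtain ⟨φ, hφ⟩ := Groth.Agent.S15293.result k k B A
  have hc := Groth.Agent.S15294.result k k A B d hd d' hd' ψ hψ
  have hc' := Groth.Agent.S15294.result k k B A d' hd' d hd φ hφ
  have hψφ : ∀ p x, ψ p (φ p x) = x := fun p x =>
    Synt29.DRGen.gen_induction (KaehlerDifferential.D k B) (KaehlerDifferential.span_range_derivation k B)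
      (P := fun x => ψ p (φ p x) = x) (by simp only [map_zero])
      (fun x y hx hy => by simp only [map_add, hx, hy])
      (fun b₀ b => by rw [hφ, hψ]; simp [RingHom.algebraMap_toAlgebra]) x
  obtain ⟨h1, h0⟩ := hA d hd
  have hmem : ∀ i, ∀ y ∈ DeRham.cocycles d' i, φ i y ∈ DeRham.cocycles d i := fun i y hy => by
    show d i (φ i y) = 0
    rw [← hc' i y, show d' i y = 0 from hy, map_zero]
  refine ⟨fun i y hy => ?_, fun y hy => ?_⟩
  · obtain ⟨x, hx⟩ := h1 i (hmem _ y hy)
    exact ⟨ψ i x, by rw [← hc, hx, hψφ]⟩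
  · obtain ⟨c, hc0⟩ := h0 _ (hmem 0 y hy)
    refine ⟨c, ?_⟩
    rw [← hψφ 0 y, hc0, hψ, ← IsScalarTower.algebraMap_apply]
    exact congrArg _ (funext fun i => i.elim0)

/-- Adjoining a variable preserves acyclicity in characteristic zero. -/
theorem IsDRAcyclic.polynomial [Algebra ℚ k] (hA : IsDRAcyclic k A) : IsDRAcyclic k (Polynomial A) := by
  intro d' hd'
  obtain ⟨d, hd⟩ : ∃ d, DeRham.IsDiff (A := A) (KaehlerDifferential.D k A) d := by
    let _ : Algebra (Polynomial A) A := (Polynomial.evalRingHom 0).toAlgebra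
    have : IsScalarTower k (Polynomial A) A := .of_algebraMap_eq fun r => by
      show _ = Polynomial.eval 0 (algebraMap k (Polynomial A) r)
      simp [Polynomial.algebraMap_apply]
    exact exists_isDiff_of_retraction (fun a => Polynomial.eval_C) d' hd'
  obtain ⟨ψ, hψ⟩ := Groth.Agent.S15293.result k k A (Polynomial A)
  have hc := Groth.Agent.S15294.result k k A _ d hd d' hd' ψ hψ
  obtain ⟨h1, h0⟩ := hA d hd
  refine ⟨fun i y hy => ?_, fun y hy => ?_⟩
  · obtain ⟨hs, -⟩ := Groth.Agent.S15536.result k A d hd d' hd' ψ hψ hc (i + 1)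
    obtain ⟨x, hx, hyx⟩ := hs y hy
    obtain ⟨w, rfl⟩ := h1 i hx
    have : ψ (i + 1) (d i w) ∈ DeRham.coboundaries d' (i + 1) := ⟨ψ i w, (hc i w).symm⟩
    simpa using add_mem hyx this
  · obtain ⟨hs, -⟩ := Groth.Agent.S15536.result k A d hd d' hd' ψ hψ hc 0
    obtain ⟨x, hx, hyx⟩ := hs y hy
    obtain ⟨c, rfl⟩ := h0 x hx
    refine ⟨c, ?_⟩
    rw [show y = ψ 0 _ from sub_eq_zero.1 hyx, hψ, ← IsScalarTower.algebraMap_apply]
    exact congrArg _ (funext fun i => i.elim0)

variable (k) in
/-- The base ring is acyclic. -/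
theorem isDRAcyclic_self : IsDRAcyclic k k := by
  intro d _
  have hz : Subsingleton (Ω[k⁄k]) :=
    KaehlerDifferential.subsingleton_of_surjective _ _ (fun x => ⟨x, rfl⟩)
  refine ⟨fun i y _ => ?_, fun x _ => ?_⟩
  · have : y = 0 := Synt29.DRGen.gen_induction (KaehlerDifferential.D k k)
      (KaehlerDifferential.span_range_derivation k k) (P := fun y => y = 0) rfl
      (fun a b ha hb => by rw [ha, hb, add_zero])
      (fun b₀ b => by
        rw [DeRham.gen, AlternatingMap.map_coord_zero _ (0 : Fin (i + 1)) (Subsingleton.elim _ _),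
          smul_zero]) y
    rw [this]
    exact zero_mem _
  · refine ⟨zeroEquiv k _ x, (zeroEquiv k (Ω[k⁄k])).injective ?_⟩
    simp [DeRham.gen]

/-- The Poincaré lemma for polynomial rings. -/
theorem isDRAcyclic_mvPolynomial {k : Type u} [CommRing k] [Algebra ℚ k] :
    ∀ n : ℕ, IsDRAcyclic k (MvPolynomial (Fin n) k)
  | 0 => (isDRAcyclic_self k).of_equiv (MvPolynomial.isEmptyAlgEquiv k (Fin 0)).symm
  | n + 1 => (isDRAcyclic_mvPolynomial n).polynomial.of_equiv
      ((MvPolynomial.finSuccEquiv k n).restrictScalars k).symm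

/-- A de Rham complex of `Spec A` over `Spec k` provides the differential on forms of `A`. -/
theorem exists_isDiff_of_omegaCx {k A : Type u} [CommRing k] [CommRing A] [Algebra k A]
    (D : DeRhamSh.OmegaCx (AlgebraicGeometry.Spec.map (CommRingCat.ofHom (algebraMap k A)))) :
    ∃ d, DeRham.IsDiff (A := A) (KaehlerDifferential.D k A) d := by
  open AlgebraicGeometry Opposite in
  set f := Spec.map (CommRingCat.ofHom (algebraMap k A))
  have hU := isAffineOpen_top (Spec (CommRingCat.of A))
  let B : Type u := Γ(Spec (CommRingCat.of A), ⊤)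
  let _ : Algebra k B := kAlg f ⊤
  let e : A ≃+* B := (Scheme.ΓSpecIso (CommRingCat.of A)).symm.commRingCatIsoToRingEquiv
  let _ : Algebra A B := e.toRingHom.toAlgebra
  let _ : Algebra B A := e.symm.toRingHom.toAlgebra
  have he : ∀ r, algebraMap k B r = e (algebraMap k A r) := fun r => by
    exact (congr($(f.app_eq_appLE) _)).symm.trans (OmAff.appTop_toΓ (A := k) (B := A) r)
  have : IsScalarTower k A B := IsScalarTower.of_algebraMap_eq he
  have : IsScalarTower k B A := IsScalarTower.of_algebraMap_eq fun r =>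
    ((congrArg e.symm (he r)).trans (e.symm_apply_apply _)).symm
  exact exists_isDiff_of_retraction (fun a => e.symm_apply_apply a) _
    (Groth.Agent.S15292.result k B (fun p => formDLin D p hU) (formDLin_isRule D hU))

section Cohomology

variable {d : ∀ p : ℕ, ↥(⋀[A]^p (Ω[A⁄k])) →ₗ[k] ↥(⋀[A]^(p + 1) (Ω[A⁄k]))}
  (hd : DeRham.IsDiff (KaehlerDifferential.D k A) d) (hA : IsDRAcyclic k A)

include hA in
theorem subsingleton_H_succ (i : ℕ) : Subsingleton ↑(DeRham.H hd (i + 1)) := by
  obtain ⟨e⟩ := nonempty_homology_addEquiv (DeRham.cx hd) (i + 1) (N := PUnit.{u + 1}) 0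
    (fun _ => ⟨0, rfl⟩) (fun z => by
      refine ⟨fun _ => ?_, fun _ => rfl⟩
      have hz : d (i + 1) z.1 = 0 := by
        have h := z.2
        rw [AddMonoidHom.mem_ker] at h
        simp only [DeRham.cx, CochainComplex.of_d] at h
        exact h
      obtain ⟨w, hw⟩ := (hA d hd).1 i hz
      rw [CochainComplex.prev_nat_succ]
      refine ⟨w, ?_⟩
      simp only [DeRham.cx, CochainComplex.of_d]
      exact hw)
  exact e.toEquiv.subsingleton

include hA in
theorem nonempty_H_zero_addEquiv (hinj : Function.Injective (algebraMap k A)) :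
    Nonempty (↑(DeRham.H hd 0) ≃+ k) := by
  let δ := KaehlerDifferential.D k A
  have hker : ∀ c : k, DeRham.gen δ 0 (algebraMap k A c) Fin.elim0 ∈
      ((DeRham.cx hd).d 0 (0 + 1)).hom.toAddMonoidHom.ker := fun c => by
    show ((DeRham.cx hd).d 0 (0 + 1)).hom _ = 0
    simp only [DeRham.cx, CochainComplex.of_d]
    refine (hd.1 0 _ _).trans ?_
    exact AlternatingMap.map_coord_zero _ 0 (by simp)
  let j : k →+ ((DeRham.cx hd).d 0 (0 + 1)).hom.toAddMonoidHom.ker :=
    AddMonoidHom.mk' (fun c => ⟨_, hker c⟩) fun a b => Subtype.ext (by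
      show DeRham.gen δ 0 _ _ = DeRham.gen δ 0 _ _ + DeRham.gen δ 0 _ _
      simp only [DeRham.gen, map_add, add_smul])
  have hj : Function.Bijective j := by
    refine ⟨fun a b h => hinj ?_, fun z => ?_⟩
    · have := congrArg (fun z => zeroEquiv A (Ω[A⁄k]) z.1) h
      change zeroEquiv A _ (_ • _) = zeroEquiv A _ (_ • _) at this
      rwa [map_smul, map_smul, zeroEquiv_ιMulti, smul_eq_mul, smul_eq_mul, mul_one, mul_one] at this
    · have h := z.2
      rw [AddMonoidHom.mem_ker] at h
      simp only [DeRham.cx, CochainComplex.of_d] at h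
      obtain ⟨c, hc⟩ := (hA d hd).2 z.1 h
      exact ⟨c, Subtype.ext hc.symm⟩
  obtain ⟨e⟩ := nonempty_homology_addEquiv (DeRham.cx hd) 0
    (AddEquiv.ofBijective j hj).symm.toAddMonoidHom (AddEquiv.ofBijective j hj).symm.surjective
    (fun z => by
      rw [CochainComplex.prev_nat_zero, (DeRham.cx hd).shape 0 0 (by simp)]
      constructor
      · intro hz
        exact ⟨0, by rw [show z = 0 from (AddEquiv.ofBijective j hj).symm.injective
          (hz.trans (map_zero _).symm)]; simp⟩
      · rintro ⟨y, hy⟩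
        rw [show z = 0 from Subtype.ext (by rw [← hy]; simp)]
        exact map_zero _)
  exact ⟨e⟩

end Cohomology

end Groth.Agent.DRHyp
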