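import Groth.Agent.DRHyp.Scheme
import Groth.Agent.S0002

/-!
# Finiteness of de Rham cohomology of proper schemes
-/

set_option autoImplicit false

universe u

open CategoryTheory CategoryTheory.Limits AlgebraicGeometry Opposite TopologicalSpace exteriorPower

namespace Groth.Agent.DRHyp

variable {A : Type u} [CommRing A] {X : Scheme.{u}}

/-- The action of a ring on the underlying abelian sheaf of a module. -/
noncomputable def smulEnd (c : A →+* Coh.Γtop X) (M : X.Modules) : A →+* End (Coh.toAb M) where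
  toFun a := Coh.smulAb M (c a)
  map_one' := by rw [map_one]; exact Coh.smulAb_one M
  map_mul' a b := by rw [map_mul]; exact Coh.smulAb_mul M _ _
  map_zero' := by rw [map_zero]; exact Coh.smulAb_zero M
  map_add' a b := by rw [map_add]; exact Coh.smulAb_add M _ _

/-- `Ext` out of `ℤ_⊤` with its action is cohomology with its module structure. -/
noncomputable def extModTopEquiv [X.Over (Spec (CommRingCat.of A))] (M : X.Modules) (q : ℕ) :
    ExtMod.{u} (CohCx.freeSheaf (Opens.grothendieckTopology X) ⊤) (Coh.toAb M)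
      (smulEnd (Coh.toGlobal (X ↘ Spec (CommRingCat.of A))) M) q ≃ₗ[A] Coh.HH X M q :=
  (ExtMod.toExt.trans (extTopEquiv (Coh.toAb M) q)).toLinearEquiv fun r x => by
    show extTopEquiv (Coh.toAb M) q ((ExtMod.toExt x).comp
      (Abelian.Ext.mk₀ (Coh.smulAb M (Coh.toGlobal (X ↘ Spec (CommRingCat.of A)) r))) (add_zero q)) = _
    rw [extTopEquiv_comp]
    rfl

/-- Terms of a de Rham complex of a morphism locally of finite type are coherent. -/
theorem isCoh_term {f : X ⟶ Spec (CommRingCat.of A)} [QuasiSeparated f] [LocallyOfFiniteType f]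
    (D : DeRhamSh.OmegaCx f) (p : ℕ) : Coh.IsCoh (D.term p) := by
  refine ⟨isQCoh_term D p, ?_⟩
  refine QCoh.isFT_of_finite (isQCoh_term D p) (fun U : X.affineOpens => U.1) ?_ (fun U => U.2) fun U => ?_
  · exact iSup_affineOpens_eq_top X
  let _ := kAlg f U.1
  have h1 : RingHom.FiniteType (constHom f U.1) :=
    (f.finiteType_appLE (isAffineOpen_top _) U.2 le_top).comp
      (RingHom.FiniteType.of_surjective _
        (Scheme.ΓSpecIso (CommRingCat.of A)).symm.commRingCatIsoToRingEquiv.surjective)
  have : Algebra.FiniteType A Γ(X, U.1) := h1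
  exact Module.Finite.equiv (formEquiv (U := U.1) D p U.2)

/-- de Rham cohomology of a proper scheme over a Noetherian ring is finite. -/
theorem finite_HdR [IsNoetherianRing A] (f : X ⟶ Spec (CommRingCat.of A)) [IsProper f]
    (D : DeRhamSh.OmegaCx f) (h : KLinDR.TermwiseLinear (Coh.toGlobal f) D.K D.term D.iso)
    [HasDerivedCategory.{u} (Sheaf (Opens.grothendieckTopology X) AddCommGrpCat.{u})] (i : ℤ) :
    Module.Finite A (KLinDR.HdR (Coh.toGlobal f) D h i) := by
  let _ : X.Over (Spec (CommRingCat.of A)) := ⟨f⟩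
  have : IsProper (X ↘ Spec (CommRingCat.of A)) := ‹IsProper f›
  refine finite_HTρ _ D.KZ (KLinDR.scalar h) 0 i fun j q _ => ?_
  by_cases hj : 0 ≤ j
  · obtain ⟨p, rfl⟩ := Int.eq_ofNat_of_zero_le hj
    have := Groth.Agent.S0002.result A X (D.term p) (isCoh_term D p) q
    refine Module.Finite.equiv ((extModCongr.{u} _ (kzIso D p) _
      (smulEnd (Coh.toGlobal (X ↘ Spec (CommRingCat.of A))) (D.term p)) (fun r => ?_) q).trans
        (extModTopEquiv (D.term p) q)).symm
    show (KLinDR.scalar h r : _ ⟶ _).f (p : ℤ) ≫ (kzIso D p).hom = (kzIso D p).hom ≫ Coh.smulAb _ _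
    rw [KLinDR.scalar_f, KLinDR.scalarEnd]
    simp only [kzIso, Iso.trans_hom, Category.assoc, Iso.inv_hom_id_assoc, Iso.inv_hom_id, Category.comp_id]
    rfl
  · have hz := D.KZ.isZero_of_isStrictlyGE 0 j (by omega)
    have : Subsingleton (ExtMod.{u} (CohCx.freeSheaf (Opens.grothendieckTopology X) ⊤) (D.KZ.X j)
        ((evalEnd D.KZ j).comp (KLinDR.scalar h)) q) := by
      refine ⟨fun x y => ExtMod.toExt.injective ?_⟩
      have e : ∀ z : Abelian.Ext.{u} (CohCx.freeSheaf (Opens.grothendieckTopology X) ⊤) (D.KZ.X j) q,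
          z = 0 := fun z => by
        rw [← Abelian.Ext.comp_mk₀_id z, hz.eq_of_src (𝟙 _) 0, Abelian.Ext.mk₀_zero,
          Abelian.Ext.comp_zero]
      rw [e (ExtMod.toExt x), e (ExtMod.toExt y)]
    infer_instance

end Groth.Agent.DRHyp
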