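import Mathlib.LinearAlgebra.Dimension.Constructions
import Mathlib.LinearAlgebra.FiniteDimensional.Basic
import Mathlib.LinearAlgebra.Dimension.RankNullity
import Mathlib.Algebra.CharZero.Defs
import Mathlib.Data.Fintype.Pi
import Mathlib.Tactic.Ring
import Mathlib.Tactic.Linarith
import Mathlib.Tactic.Module

/-!
# Modules over Weyl algebras with polynomial growth

A module with operators `x i`, `D i` satisfying the Weyl relations and carrying an exhaustive
filtration of growth `O(j ^ n)`, `n` the number of variables (an elementary form of holonomicity).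
Kernel and cokernel of `D 0` again have this property in one variable fewer.
-/

set_option autoImplicit false

universe u v

namespace Groth.Agent.DRHyp.Weyl

variable (k : Type u) [Field k] (n : ℕ) (M : Type v) [AddCommGroup M] [Module k M]

/-- Operators satisfying the Weyl relations. -/
structure Ops where
  x : Fin n → Module.End k M
  D : Fin n → Module.End k M
  x_comm : ∀ i j m, x i (x j m) = x j (x i m)
  D_comm : ∀ i j m, D i (D j m) = D j (D i m)
  rel : ∀ i j m, D i (x j m) = x j (D i m) + if i = j then m else 0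

variable {k n M}

/-- An exhaustive filtration of growth `O(j ^ n)` compatible with the operators. -/
def Ops.HasGrowth (O : Ops k n M) : Prop :=
  ∃ (F : ℕ → Submodule k M) (C : ℕ), Monotone F ∧ (∀ m, ∃ j, m ∈ F j) ∧
    (∀ i j, ∀ m ∈ F j, O.x i m ∈ F (j + 1) ∧ O.D i m ∈ F (j + 1)) ∧
    ∀ j, FiniteDimensional k (F j) ∧ Module.finrank k (F j) ≤ C * (j + 1) ^ n

/-- Forget the first variable. -/
def Ops.tail (O : Ops k (n + 1) M) : Ops k n M where
  x i := O.x i.succ
  D i := O.D i.succ
  x_comm i j := O.x_comm _ _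
  D_comm i j := O.D_comm _ _
  rel i j m := by
    rw [O.rel]
    simp [Fin.succ_inj]

lemma Ops.D_zero_comm_x_succ (O : Ops k (n + 1) M) (i : Fin n) (m : M) :
    O.D 0 (O.x i.succ m) = O.x i.succ (O.D 0 m) := by
  rw [O.rel, if_neg (Ne.symm (Fin.succ_ne_zero i)), add_zero]

/-- The kernel of the first derivation. -/
def Ops.kerD (O : Ops k (n + 1) M) : Ops k n (LinearMap.ker (O.D 0)) where
  x i := (O.x i.succ).restrict fun m hm => by
    rw [LinearMap.mem_ker] at hm ⊢
    rw [O.D_zero_comm_x_succ, hm, map_zero]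
  D i := (O.D i.succ).restrict fun m hm => by
    rw [LinearMap.mem_ker] at hm ⊢
    rw [O.D_comm, hm, map_zero]
  x_comm i j m := Subtype.ext (O.x_comm _ _ m.1)
  D_comm i j m := Subtype.ext (O.D_comm _ _ m.1)
  rel i j m := Subtype.ext (by
    refine (O.rel i.succ j.succ m.1).trans ?_
    split_ifs <;> simp_all)

/-- The cokernel of the first derivation. -/
def Ops.cokerD (O : Ops k (n + 1) M) : Ops k n (M ⧸ LinearMap.range (O.D 0)) where
  x i := Submodule.mapQ _ _ (O.x i.succ) (by
    rintro _ ⟨m, rfl⟩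
    exact ⟨O.x i.succ m, O.D_zero_comm_x_succ i m⟩)
  D i := Submodule.mapQ _ _ (O.D i.succ) (by
    rintro _ ⟨m, rfl⟩
    exact ⟨O.D i.succ m, O.D_comm _ _ m⟩)
  x_comm i j q := by
    induction q using Submodule.Quotient.induction_on with
    | _ m => exact congrArg Submodule.Quotient.mk (O.x_comm _ _ m)
  D_comm i j q := by
    induction q using Submodule.Quotient.induction_on with
    | _ m => exact congrArg Submodule.Quotient.mk (O.D_comm _ _ m)
  rel i j q := by
    induction q using Submodule.Quotient.induction_on with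
    | _ m =>
      refine (congrArg Submodule.Quotient.mk (O.rel i.succ j.succ m)).trans ?_
      split_ifs <;> simp_all

variable {O : Ops k (n + 1) M}

lemma D_pow_x (j : ℕ) (m : M) :
    (O.D 0 ^ (j + 1)) (O.x 0 m) = O.x 0 ((O.D 0 ^ (j + 1)) m) + (j + 1) • (O.D 0 ^ j) m := by
  induction j generalizing m with
  | zero => simp [O.rel]
  | succ j ih =>
    rw [pow_succ' _ (j + 1), Module.End.mul_apply, ih, map_add, map_nsmul, O.rel, if_pos rfl,
      Module.End.mul_apply, ← Module.End.mul_apply (O.D 0) (O.D 0 ^ j),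
      ← pow_succ', succ_nsmul _ (j + 1), add_assoc, add_comm ((O.D 0 ^ (j + 1)) m)]

lemma D_x_pow (i : ℕ) (m : M) :
    O.D 0 ((O.x 0 ^ (i + 1)) m) = (O.x 0 ^ (i + 1)) (O.D 0 m) + (i + 1) • (O.x 0 ^ i) m := by
  induction i generalizing m with
  | zero => simp [O.rel]
  | succ i ih =>
    rw [pow_succ' _ (i + 1), Module.End.mul_apply, O.rel, if_pos rfl, ih, map_add, map_nsmul,
      Module.End.mul_apply, ← Module.End.mul_apply (O.x 0) (O.x 0 ^ i),
      ← pow_succ', succ_nsmul _ (i + 1), add_assoc]

lemma nsmul_succ_eq_zero [CharZero k] {i : ℕ} {m : M} (h : (i + 1) • m = 0) : m = 0 := by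
  rw [← Nat.cast_smul_eq_nsmul k, smul_eq_zero] at h
  exact h.resolve_left (Nat.cast_ne_zero.2 (Nat.succ_ne_zero i))

/-- Elements killed by a power of the derivation are in its image. -/
lemma mem_range_of_pow_eq_zero [CharZero k] :
    ∀ (j : ℕ) (m : M), (O.D 0 ^ j) m = 0 → m ∈ LinearMap.range (O.D 0)
  | 0, m, h => by rw [pow_zero, Module.End.one_apply] at h; exact h ▸ zero_mem _
  | j + 1, m, h => by
    have h1 : (O.D 0 ^ j) (O.D 0 (O.x 0 m) - (j + 1) • m) = 0 := by
      rw [map_sub, map_nsmul, ← Module.End.mul_apply, ← pow_succ, D_pow_x, h, map_zero, zero_add,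
        sub_self]
    have h2 := mem_range_of_pow_eq_zero j _ h1
    have h3 : (j + 1) • m ∈ LinearMap.range (O.D 0) :=
      (Submodule.sub_mem_iff_right _ (LinearMap.mem_range_self _ _)).1 h2
    rw [← Nat.cast_smul_eq_nsmul k] at h3
    exact (Submodule.smul_mem_iff _ (Nat.cast_ne_zero.2 (Nat.succ_ne_zero j))).1 h3

/-- `Σ x^i vᵢ` is injective on kernel vectors. -/
lemma eq_zero_of_sum_x_pow [CharZero k] : ∀ (J : ℕ) (v : Fin (J + 1) → M),
    (∀ i, O.D 0 (v i) = 0) → ∑ i : Fin (J + 1), (O.x 0 ^ (i : ℕ)) (v i) = 0 → v = 0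
  | 0, v, _, h => funext fun i => by
    obtain rfl : i = 0 := Fin.fin_one_eq_zero i
    simpa using h
  | J + 1, v, hv, h => by
    have h1 : ∑ i : Fin (J + 1), (O.x 0 ^ (i : ℕ)) (((i : ℕ) + 1) • v i.succ) = 0 := by
      have h2 := congrArg (O.D 0) h
      rw [map_sum, map_zero, Fin.sum_univ_succ] at h2
      simp only [Fin.val_zero, pow_zero, Module.End.one_apply, hv, zero_add, Fin.val_succ, D_x_pow,
        map_zero] at h2
      rw [← h2]
      exact Finset.sum_congr rfl fun i _ => map_nsmul _ _ _
    have h3 := eq_zero_of_sum_x_pow J _ (fun i => by rw [map_nsmul, hv, smul_zero]) h1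
    have hs : ∀ i : Fin (J + 1), v i.succ = 0 := fun i => nsmul_succ_eq_zero (k := k) (congrFun h3 i)
    rw [Fin.sum_univ_succ] at h
    simp only [hs, map_zero, Finset.sum_const_zero, add_zero, Fin.val_zero, pow_zero,
      Module.End.one_apply] at h
    exact funext (Fin.cases h hs)

/-- `Σ D^i vᵢ` is injective on vectors independent modulo the image of `D`. -/
lemma eq_zero_of_sum_D_pow [CharZero k] {V : Submodule k M}
    (hV : Disjoint V (LinearMap.range (O.D 0))) :
    ∀ (J a : ℕ) (v : Fin (J + 1) → V),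
      (O.D 0 ^ a) (∑ i : Fin (J + 1), (O.D 0 ^ (i : ℕ)) (v i : M)) = 0 → v = 0
  | 0, a, v, h => funext fun i => by
    obtain rfl : i = 0 := Fin.fin_one_eq_zero i
    exact Subtype.ext (Submodule.disjoint_def.1 hV _ (v 0).2
      (mem_range_of_pow_eq_zero a _ (by simpa using h)))
  | J + 1, a, v, h => by
    have hm := mem_range_of_pow_eq_zero a _ h
    rw [Fin.sum_univ_succ] at hm h
    simp only [Fin.val_zero, pow_zero, Module.End.one_apply, Fin.val_succ, pow_succ',
      Module.End.mul_apply, ← map_sum] at hm h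
    have h0 : (v 0 : M) = 0 := Submodule.disjoint_def.1 hV _ (v 0).2
      ((Submodule.add_mem_iff_left _ (LinearMap.mem_range_self _ _)).1 hm)
    rw [h0, zero_add, ← Module.End.mul_apply, ← pow_succ] at h
    have h3 := eq_zero_of_sum_D_pow hV J (a + 1) (fun i => v i.succ) h
    exact funext (Fin.cases (Subtype.ext h0) fun i => congrFun h3 i)

lemma pow_mem (T : Module.End k M) (F : ℕ → Submodule k M) (hT : ∀ j, ∀ m ∈ F j, T m ∈ F (j + 1))
    (i : ℕ) : ∀ j, ∀ m ∈ F j, (T ^ i) m ∈ F (j + i) := by
  induction i with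
  | zero => intro j m hm; simpa using hm
  | succ i ih =>
    intro j m hm
    rw [pow_succ', Module.End.mul_apply, ← add_assoc]
    exact hT _ _ (ih j m hm)

/-- Dimension bound from a family of independent translates. -/
lemma finrank_le_of_sum_injective (T : Module.End k M) (F : ℕ → Submodule k M) (hF : Monotone F)
    (hT : ∀ j, ∀ m ∈ F j, T m ∈ F (j + 1)) (V : Submodule k M) (j C d : ℕ) (hV : V ≤ F j)
    [FiniteDimensional k (F (j + j))] (hd : Module.finrank k (F (j + j)) ≤ C * (j + j + 1) ^ (d + 1))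
    (h : ∀ v : Fin (j + 1) → V, ∑ i : Fin (j + 1), (T ^ (i : ℕ)) (v i : M) = 0 → v = 0) :
    Module.finrank k V ≤ C * 2 ^ (d + 1) * (j + 1) ^ d := by
  have hmem : ∀ (v : Fin (j + 1) → V) (i : Fin (j + 1)), (T ^ (i : ℕ)) (v i : M) ∈ F (j + j) := fun v i =>
    hF (by have := i.2; omega) (pow_mem T F hT i j _ (hV (v i).2))
  let φ : (Fin (j + 1) → V) →ₗ[k] F (j + j) :=
    LinearMap.codRestrict _ (∑ i : Fin (j + 1), (T ^ (i : ℕ)) ∘ₗ V.subtype ∘ₗ LinearMap.proj i) fun v => by
      simp only [LinearMap.coe_sum, Finset.sum_apply, LinearMap.comp_apply]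
      exact Submodule.sum_mem _ fun i _ => hmem v i
  have hφ : Function.Injective φ := by
    rw [← LinearMap.ker_eq_bot, LinearMap.ker_eq_bot']
    intro v hv
    refine h v ?_
    have := congrArg Subtype.val hv
    simpa [φ, LinearMap.sum_apply] using this
  have : FiniteDimensional k V := by
    exact Submodule.finiteDimensional_of_le (hV.trans (hF (Nat.le_add_right j j)))
  have h1 := (LinearMap.finrank_le_finrank_of_injective hφ).trans hd
  rw [Module.finrank_pi_fintype, Finset.sum_const, Finset.card_univ, Fintype.card_fin, smul_eq_mul] at h1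
  have h2 : (j + 1) * Module.finrank k V ≤ (j + 1) * (C * 2 ^ (d + 1) * (j + 1) ^ d) :=
    h1.trans (le_trans (Nat.mul_le_mul_left C (Nat.pow_le_pow_left (show j + j + 1 ≤ 2 * (j + 1) by omega) _))
      (le_of_eq (by rw [mul_pow]; ring)))
  exact Nat.le_of_mul_le_mul_left h2 (Nat.succ_pos j)

variable (O)

/-- The kernel of the first derivation has growth in one variable fewer. -/
theorem Ops.HasGrowth.kerD [CharZero k] (h : O.HasGrowth) : O.kerD.HasGrowth := by
  obtain ⟨F, C, hF, hex, hop, hdim⟩ := h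
  refine ⟨fun j => (F j).comap (LinearMap.ker (O.D 0)).subtype, C * 2 ^ (n + 1),
    fun a b hab => Submodule.comap_mono (hF hab), fun m => hex m.1,
    fun i j m hm => ⟨(hop i.succ j m.1 hm).1, (hop i.succ j m.1 hm).2⟩, fun j => ?_⟩
  have := (hdim j).1
  have := (hdim (j + j)).1
  let e := Submodule.equivMapOfInjective (LinearMap.ker (O.D 0)).subtype
    (Submodule.subtype_injective _) ((F j).comap (LinearMap.ker (O.D 0)).subtype)
  let V := ((F j).comap (LinearMap.ker (O.D 0)).subtype).map (LinearMap.ker (O.D 0)).subtype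
  have hVF : V ≤ F j := Submodule.map_comap_le _ _
  have : FiniteDimensional k V := Submodule.finiteDimensional_of_le hVF
  refine ⟨Module.Finite.equiv e.symm, ?_⟩
  rw [e.finrank_eq]
  refine finrank_le_of_sum_injective (O.x 0) F hF (fun a m hm => (hop 0 a m hm).1) V j C n hVF
    (hdim _).2 fun v hv => ?_
  have := eq_zero_of_sum_x_pow j (fun i => (v i : M)) (fun i => by
    obtain ⟨m, -, hm⟩ := (v i).2
    rw [← hm]
    exact m.2) hv
  exact funext fun i => Subtype.ext (congrFun this i)

/-- The cokernel of the first derivation has growth in one variable fewer. -/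
theorem Ops.HasGrowth.cokerD [CharZero k] (h : O.HasGrowth) : O.cokerD.HasGrowth := by
  obtain ⟨F, C, hF, hex, hop, hdim⟩ := h
  let π := (LinearMap.range (O.D 0)).mkQ
  refine ⟨fun j => (F j).map π, C * 2 ^ (n + 1), fun a b hab => Submodule.map_mono (hF hab),
    fun q => ?_, ?_, fun j => ?_⟩
  · obtain ⟨m, rfl⟩ := Submodule.mkQ_surjective _ q
    obtain ⟨j, hj⟩ := hex m
    exact ⟨j, Submodule.mem_map_of_mem hj⟩
  · rintro i j _ ⟨m, hm, rfl⟩
    exact ⟨⟨_, (hop i.succ j m hm).1, rfl⟩, ⟨_, (hop i.succ j m hm).2, rfl⟩⟩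
  · have := (hdim j).1
    have := (hdim (j + j)).1
    refine ⟨inferInstance, ?_⟩
    let f := π ∘ₗ (F j).subtype
    obtain ⟨W, hW⟩ := Submodule.exists_isCompl (LinearMap.ker f)
    let V := W.map (F j).subtype
    have hVF : V ≤ F j := Submodule.map_subtype_le _ _
    have hdisj : Disjoint V (LinearMap.range (O.D 0)) := by
      rw [Submodule.disjoint_def]
      rintro _ ⟨w, hw, rfl⟩ hr
      have : w ∈ LinearMap.ker f := (Submodule.Quotient.mk_eq_zero _).2 hr
      rw [Submodule.disjoint_def.1 hW.disjoint w this hw, map_zero]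
    have hb : Module.finrank k ↥((F j).map π) = Module.finrank k V := by
      rw [show (F j).map π = LinearMap.range f by rw [LinearMap.range_comp, Submodule.range_subtype],
        (Submodule.equivMapOfInjective (F j).subtype (Submodule.subtype_injective _) W).symm.finrank_eq,
        ← (LinearMap.quotKerEquivRange f).finrank_eq,
        (Submodule.quotientEquivOfIsCompl _ _ hW).finrank_eq]
    rw [hb]
    refine finrank_le_of_sum_injective (O.D 0) F hF (fun a m hm => (hop 0 a m hm).2) V j C n hVF
      (hdim _).2 fun v hv => eq_zero_of_sum_D_pow hdisj j 0 v (by rw [hv, map_zero])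

/-- Without variables, growth means finite dimension. -/
theorem Ops.HasGrowth.finite {O : Ops k 0 M} (h : O.HasGrowth) : FiniteDimensional k M := by
  obtain ⟨F, C, hF, hex, -, hdim⟩ := h
  classical
  have hb : ∀ j, Module.finrank k (F j) ≤ C := fun j => by simpa using (hdim j).2
  let m := Nat.findGreatest (fun r => ∃ j, r ≤ Module.finrank k (F j)) C
  obtain ⟨j₀, hj₀⟩ : ∃ j, m ≤ Module.finrank k (F j) :=
    Nat.findGreatest_spec (P := fun r => ∃ j, r ≤ Module.finrank k (F j)) (Nat.zero_le C) ⟨0, Nat.zero_le _⟩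
  have hle : ∀ j, Module.finrank k (F j) ≤ m := fun j => Nat.le_findGreatest (hb j) ⟨j, le_rfl⟩
  have htop : F j₀ = ⊤ := top_le_iff.1 fun z _ => by
    obtain ⟨j, hj⟩ := hex z
    have := (hdim (max j j₀)).1
    rw [Submodule.eq_of_le_of_finrank_le (hF (le_max_right j j₀)) ((hle _).trans hj₀)]
    exact hF (le_max_left j j₀) hj
  have := (hdim j₀).1
  rw [htop] at this
  exact Module.Finite.equiv Submodule.topEquiv

end Groth.Agent.DRHyp.Weyl
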